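import Cfsg.Agent.R2.F4P.Th.Cxb
import Cfsg.Agent.R2.F4P.Th.Sk

/-!
# S5931, `p = 3` : `core3` modulo `no4`

* `core3_no4 (hc : Cfg 3 a b H φ) (hN4) : False`, where `hN4` is the statement `no4` : no tuple of type `(1, i; 1, j)`.
-/

set_option autoImplicit false
set_option linter.unusedSectionVars false
set_option linter.unusedVariables false

namespace Cfsg.Agent.R2.F4P.Th

open Cfsg Cfsg.Lie Module Matrix
open Cfsg.Agent.ChevalleyStructure.E6Min.Tables Cfsg.Agent.ChevalleyStructure.E6Min.Basic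
open Cfsg.Agent.H952.F4 (sh cr tf tr1 u0 hF4)
open Cfsg.Agent.H952.F4.Jord
open Cfsg.Agent.H943.SL2Rel Cfsg.Agent.H943.SL2Mod Cfsg.Agent.R2.H28.SL2 Cfsg.Agent.H943.RepAdd
open Cfsg.Agent.R2.F4M Cfsg.Agent.R2.F4L

universe u v w

variable {F : Type u} [Field F] [Fintype F] {K : Type v} [Field K] [Fintype K] {a b : ℕ}
variable {H : Subgroup ↥(chevF4.group F)} {φ : ProjectiveSpecialLinearGroup (Fin 2) K →* ↥(chevF4.group F)}

/-- **`core3` modulo `no4`** (with the skeleton `skel`) -/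
theorem core3_no4 (hc : Cfg 3 a b H φ)
    (hN4 : ∀ (_ : DecidableEq K) (k : Type u) (_ : Field k) (_ : DecidableEq k) (_ : IsAlgClosed k) (_ : CharP k 3)
      (_ : CharP K 3) (ι : K →+* k) (ρ : Representation k (Matrix.SpecialLinearGroup (Fin 2) K) (I27 → k)) (C : Cx3 K a ρ)
      (no3 : ∀ i, i < a → ∀ x, TS ι 3 ρ 2 i x → x = 0)
      (hy9 : ∀ i j y, i < a → j < a → i ≠ j → TP ι 3 ρ 2 i 2 j y → (∀ σ τ, sh (yy y σ τ) = 0) → y = 0)
      (i j : ℕ) (x : ℕ → ℕ → I27 → k), i < a → j < a → i ≠ j → TP ι 3 ρ 1 i 1 j x → x = 0) : False := by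
  have iF := hc.charF
  have iK := hc.charK
  let dK : DecidableEq K := Classical.decEq K
  let dk : DecidableEq (AlgebraicClosure F) := Classical.decEq _
  have ik : CharP (AlgebraicClosure F) 3 := charP_of_injective_ringHom (algebraMap F (AlgebraicClosure F)).injective 3
  obtain ⟨ι⟩ := exists_emb K (AlgebraicClosure F) 3
  have C : Cx3 K a (Rk (algebraMap F (AlgebraicClosure F)) φ) := cx3 hc
  have h3 : ∀ (ι : K →+* AlgebraicClosure F) i, i < a → ∀ x,
      TS ι 3 (Rk (algebraMap F (AlgebraicClosure F)) φ) 2 i x → x = 0 := fun ι i hi x hx => no3 hc C hi hx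
  have h9 : ∀ (ι : K →+* AlgebraicClosure F) i j y, i < a → j < a → i ≠ j →
      TP ι 3 (Rk (algebraMap F (AlgebraicClosure F)) φ) 2 i 2 j y →
      (∀ σ τ, sh (yy y σ τ) = 0) → y = 0 := fun ι i j y hi hj hij hy hH => y9z hc C hi hj hij hy hH
  exact skel C ι h3 (fun ι i j hi hj hij x hx =>
    hN4 dK (AlgebraicClosure F) inferInstance dk inferInstance ik iK ι _ C (h3 ι) (h9 ι) i j x hi hj hij hx)
    (fun ι i j hi hj hij y hy hy0 hH _ => hy0 (h9 ι i j y hi hj hij hy hH))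

end Cfsg.Agent.R2.F4P.Th
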