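import Cfsg.Agent.R2.F4P.Th.Core
import Cfsg.Agent.R2.F4P.Th.X4

/-!
# S5931, `p = 3` : the end
-/

set_option autoImplicit false

namespace Cfsg.Agent.R2.F4P.Th

open Cfsg Cfsg.Lie
open Cfsg.Agent.R2.F4M Cfsg.Agent.R2.F4L

universe u v

/-- **the case `p = 3`** -/
theorem core3 {F : Type u} [Field F] [Fintype F] {K : Type v} [Field K] [Fintype K] {a b : ℕ}
    {H : Subgroup ↥(chevF4.group F)} {φ : Matrix.ProjectiveSpecialLinearGroup (Fin 2) K →* ↥(chevF4.group F)}
    (hc : Cfg 3 a b H φ) : False :=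
  core3_no4 hc fun _ _ _ _ _ _ _ _ _ C _ hy9 _ _ _ hi hj hij hx =>
    no4 C (fun i j hi hj hij y hy hH => hy9 i j y hi hj hij hy hH) hi hj hij hx

/-- the case `p = 3`, with a variable prime -/
theorem core3' {F : Type u} [Field F] [Fintype F] {K : Type v} [Field K] [Fintype K] {p a b : ℕ}
    {H : Subgroup ↥(chevF4.group F)} {φ : Matrix.ProjectiveSpecialLinearGroup (Fin 2) K →* ↥(chevF4.group F)}
    (hc : Cfg p a b H φ) (hp : p = 3) : False := by
  subst hp
  exact core3 hc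

end Cfsg.Agent.R2.F4P.Th
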