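import Cfsg.Agent.R2.F4P.Th.SkT

/-!
# S5931, `p = 3`, the skeleton : the nine-dimensional submodules (helper17)

* `Cx3.dims` : the dimensions of the irreducible submodules of `J_0 / k`;
* `Cx3.nine_uniq` : at most one irreducible submodule of dimension 9; `n9` : the tuples of type `(2, i; 2, j)`.
-/

set_option autoImplicit false
set_option linter.unusedSectionVars false
set_option linter.unusedVariables false

namespace Cfsg.Agent.R2.F4P.Th

open Cfsg.Lie
open Cfsg.Agent.ChevalleyStructure.E6Min.Tables Cfsg.Agent.ChevalleyStructure.E6Min.Basic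
open Cfsg.Agent.H952.F4 (sh cr tf tr1 u0)
open Cfsg.Agent.H952.F4.Jord
open Cfsg.Agent.H952.F4.FixV (trL trL_apply W0 mem_W0 finrank_W0 exists_tr1_one)
open Cfsg.Agent.H943.SL2Rel Cfsg.Agent.H943.SL2Mod Cfsg.Agent.R2.H28.SL2 Cfsg.Agent.H943.RepAdd
open Cfsg.Agent.R2.F4L

universe u v w

variable {k : Type u} [Field k] [DecidableEq k] {K : Type w} [Field K] [Fintype K] [DecidableEq K] {ι : K →+* k}
variable {a : ℕ} [CharP k 3] [CharP K 3] [IsAlgClosed k]
variable {ρ : Representation k (Matrix.SpecialLinearGroup (Fin 2) K) (I27 → k)}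

/-- **the dimensions of the irreducible submodules** -/
theorem Cx3.dims (C : Cx3 K a ρ) (no3 : ∀ i, i < a → ∀ x, TS ι 3 ρ 2 i x → x = 0)
    {X : Submodule k (Vk k)} {hX : ∀ g, ∀ x ∈ X, sV C.act g x ∈ X} {b : ℕ}
    (h : IsV ι 3 (subRep (sV C.act) X hX) b) : Module.finrank k X = (Bf k b).card ∧
      ((Bf k b).card = 4 ∨ (Bf k b).card = 9 ∨ (Bf k b).card = 12 ∨ (Bf k b).card = 16) := by
  have h1 := IsV.finrank ι h
  have h2 := Submodule.finrank_le X
  have h3 : Module.finrank k (Vk k) = 25 := finrank_Vk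
  refine ⟨h1, ?_⟩
  rcases card_ev k (C.ev h) (by omega) with h4 | h4 | h4 | h4 | h4 | h4
  · exfalso
    have h5 := (card3 k b).1 h4
    subst h5
    exact C.no_one h
  · exact (C.no_three no3 h h4).elim
  · exact Or.inl h4
  · exact Or.inr (Or.inl h4)
  · exact Or.inr (Or.inr (Or.inl h4))
  · exact Or.inr (Or.inr (Or.inr h4))

/-- **at most one irreducible submodule of dimension 9** -/
theorem Cx3.nine_uniq (C : Cx3 K a ρ) (no3 : ∀ i, i < a → ∀ x, TS ι 3 ρ 2 i x → x = 0)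
    {X Y : Submodule k (Vk k)} {hX : ∀ g, ∀ x ∈ X, sV C.act g x ∈ X} {hY : ∀ g, ∀ x ∈ Y, sV C.act g x ∈ Y} {b c : ℕ}
    (hVX : IsV ι 3 (subRep (sV C.act) X hX) b) (hVY : IsV ι 3 (subRep (sV C.act) Y hY) c)
    (hb : (Bf k b).card = 9) (hc : (Bf k c).card = 9) : X = Y := by
  rcases irr_or hVX hVY with h0 | h0
  swap
  · exact h0
  exfalso
  have D := dulV C.act
  have hP := PV_symm (k := k)
  have h25 : Module.finrank k (Vk k) = 25 := finrank_Vk
  have hdX := (C.dims no3 hVX).1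
  have hdY := (C.dims no3 hVY).1
  have hS := Submodule.finrank_sup_add_finrank_inf_eq X Y
  rw [h0, finrank_bot, add_zero] at hS
  have hSi := sup_inv hX hY
  have hO := rank_orth D hSi
  have hOi := D.orth_inv hSi
  -- the sum is nondegenerate
  have hnd : Nd (PV k) (X ⊔ Y) := by
    by_contra hnd
    obtain ⟨Z, hZ, d, hle, hVZ⟩ := exists_irr (ι := ι) (p := 3) (inf_inv hSi hOi) hnd
    have h1 := irr_sup hVX hVY hVZ (hle.trans inf_le_left)
    have h2 := Submodule.finrank_mono (hle.trans inf_le_right)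
    omega
  have hnd' := nd_orth D hP hnd
  have hne : orth (PV k) (X ⊔ Y) ≠ ⊥ := by
    intro h
    rw [h, finrank_bot] at hO
    omega
  obtain ⟨Z, hZ, d, hle, hVZ⟩ := exists_irr (ι := ι) (p := 3) hOi hne
  obtain ⟨hdZ, hcZ⟩ := C.dims no3 hVZ
  have h2 := Submodule.finrank_mono hle
  have h3 : Nd (PV k) Z := by
    rcases nd_or D hVZ with h | h
    · exact h
    · exfalso
      have := iso_le D hZ hOi hnd' hle h
      omega
  obtain ⟨h4, h5⟩ := nd_inf D hZ h3 hnd' hle hP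
  have h6 : orth (PV k) (X ⊔ Y) ⊓ orth (PV k) Z ≠ ⊥ := by
    intro h
    rw [h, finrank_bot] at h5
    omega
  obtain ⟨Z', hZ', d', hle', hVZ'⟩ := exists_irr (ι := ι) (p := 3) (inf_inv hOi (D.orth_inv hZ)) h6
  obtain ⟨hdZ', hcZ'⟩ := C.dims no3 hVZ'
  have h7 := Submodule.finrank_mono hle'
  omega

theorem card22 {i j : ℕ} (hij : i ≠ j) {a : ℕ} (hi : i < a) (hj : j < a) (k : Type*) [Field k] [DecidableEq k] [CharP k 3] :
    (Bf k (2 * 3 ^ i + 2 * 3 ^ j)).card = 9 := by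
  have key : ∀ i d, (Bf k (2 * 3 ^ i + 2 * 3 ^ (i + d + 1))).card = 9 := by
    intro i d
    have h1 : ∀ l, (Bf k (2 * 3 ^ l)).card = 3 := by
      intro l
      induction l with
      | zero =>
        have h := card_Bf_mul k 3 0 (r := 2) (by norm_num)
        rw [card_Bf_zero] at h
        exact h
      | succ l ih =>
        have h := card_Bf_mul k 3 (2 * 3 ^ l) (r := 0) (by norm_num)
        rw [ih] at h
        rw [pow_succ, show 2 * (3 ^ l * 3) = 3 * (2 * 3 ^ l) + 0 by ring, h]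
    induction i with
    | zero =>
      have h := card_Bf_mul k 3 (2 * 3 ^ d) (r := 2) (by norm_num)
      rw [h1] at h
      rw [pow_zero, show 0 + d + 1 = d + 1 by ring, pow_succ, show 2 * 1 + 2 * (3 ^ d * 3) = 3 * (2 * 3 ^ d) + 2 by ring, h]
    | succ i ih =>
      have h := card_Bf_mul k 3 (2 * 3 ^ i + 2 * 3 ^ (i + d + 1)) (r := 0) (by norm_num)
      rw [ih] at h
      rw [show i + 1 + d + 1 = (i + d + 1) + 1 by ring, pow_succ, pow_succ 3 (i + d + 1),
        show 2 * (3 ^ i * 3) + 2 * (3 ^ (i + d + 1) * 3) = 3 * (2 * 3 ^ i + 2 * 3 ^ (i + d + 1)) + 0 by ring, h]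
  rcases Nat.lt_or_gt_of_ne hij with h | h
  · obtain ⟨d, rfl⟩ : ∃ d, j = i + d + 1 := ⟨j - i - 1, by omega⟩
    exact key i d
  · obtain ⟨d, rfl⟩ : ∃ d, i = j + d + 1 := ⟨i - j - 1, by omega⟩
    rw [add_comm]
    exact key j d

/-- **the tuples of type `(2, i; 2, j)`** -/
theorem n9 (C : Cx3 K a ρ) (no3 : ∀ i, i < a → ∀ x, TS ι 3 ρ 2 i x → x = 0) {i j : ℕ} (hi : i < a) (hj : j < a)
    (hij : i ≠ j) {y z : ℕ → ℕ → I27 → k} (hy : TP ι 3 ρ 2 i 2 j y) (hz : TP ι 3 ρ 2 i 2 j z) (hy0 : y ≠ 0) :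
    ∃ c : k, z = c • y := by
  have A : Adm 3 a 2 i 2 j := ⟨by norm_num, by norm_num, hij, hi, hj⟩
  by_cases hz0 : z = 0
  · exact ⟨0, by rw [hz0, zero_smul]⟩
  have hyW := C.tp_W0 A (by norm_num) hy
  have hzW := C.tp_W0 A (by norm_num) hz
  have hyV := C.tpV hy hyW
  have hzV := C.tpV hz hzW
  -- a tuple with values in the scalars vanishes
  have key : ∀ {x : ℕ → ℕ → I27 → k} (hx : TP ι 3 ρ 2 i 2 j x) (hxW : ∀ s s', x s s' ∈ W0 k),
      (fun s s' => (Lk k).mkQ (⟨x s s', hxW s s'⟩ : W0 k)) = 0 → x = 0 := by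
    intro x hx hxW h0
    by_contra hx0
    obtain ⟨hX, hV⟩ := hx.isV C.card A hx0
    have h1 : Sp x ≤ Submodule.span k {u0 k} := Sp_le fun s s' => by
      have h2 := congrFun (congrFun h0 s) s'
      have h3 : (Lk k).mkQ (⟨x s s', hxW s s'⟩ : W0 k) = 0 := h2
      rw [Submodule.mkQ_apply, Submodule.Quotient.mk_eq_zero] at h3
      exact h3
    have h2 := Submodule.finrank_mono h1
    have h3 := IsV.finrank ι hV
    rw [card22 hij hi hj, h3.symm.symm] at h3
    have h4 : Module.finrank k (Submodule.span k {u0 k}) ≤ 1 := by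
      have := finrank_span_le_card (R := k) ({u0 k} : Set (I27 → k))
      simpa using this
    have h5 := IsV.finrank ι hV
    rw [card22 hij hi hj] at h5
    omega
  have hyV0 : (fun s s' => (Lk k).mkQ (⟨y s s', hyW s s'⟩ : W0 k)) ≠ 0 := fun h => hy0 (key hy hyW h)
  have hzV0 : (fun s s' => (Lk k).mkQ (⟨z s s', hzW s s'⟩ : W0 k)) ≠ 0 := fun h => hz0 (key hz hzW h)
  obtain ⟨hX, hVX⟩ := hyV.isV C.card A hyV0
  obtain ⟨hZ, hVZ⟩ := hzV.isV C.card A hzV0
  have heq := C.nine_uniq no3 hVX hVZ (card22 hij hi hj k) (card22 hij hi hj k)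
  obtain ⟨c, hc⟩ := hyV.schur C.card A hzV hVX (fun s s' => mem_Sp _ s s') (fun s s' => by
    rw [heq]
    exact mem_Sp (fun s s' => (Lk k).mkQ (⟨z s s', hzW s s'⟩ : W0 k)) s s') hyV0
  refine ⟨c, ?_⟩
  have h1 : TP ι 3 ρ 2 i 2 j (z + (-c) • y) := hz.add (hy.smul _)
  have h2 := key h1 (C.tp_W0 A (by norm_num) h1) (by
    funext s s'
    have h3 := congrFun (congrFun hc s) s'
    have h4 : (Lk k).mkQ (⟨z s s', hzW s s'⟩ : W0 k) = c • (Lk k).mkQ (⟨y s s', hyW s s'⟩ : W0 k) := h3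
    have h5 : (⟨(z + (-c) • y) s s', C.tp_W0 A (by norm_num) h1 s s'⟩ : W0 k) =
        (⟨z s s', hzW s s'⟩ : W0 k) + (-c) • (⟨y s s', hyW s s'⟩ : W0 k) := Subtype.ext rfl
    show (Lk k).mkQ (⟨(z + (-c) • y) s s', C.tp_W0 A (by norm_num) h1 s s'⟩ : W0 k) = 0
    rw [h5, map_add, map_smul, h4]
    module)
  have h3 : z = (z + (-c) • y) + c • y := by module
  rw [h3, h2, zero_add]

end Cfsg.Agent.R2.F4P.Th
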