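import Cfsg.Agent.R2.F4P.Th.Y9g
import Cfsg.Agent.R2.F4P.Th.SkN
import Cfsg.Agent.R2.F4M.FixU

/-!
# S5931, `p = 3` : the context from the configuration

* `nine_span` : every tuple of type `(2, i'; 2, j')` lies in the span of a given nonzero one;
* `cx3` : the context `Cx3` for `Rk`; `exists_emb` : the embedding `K → k`.
-/

set_option autoImplicit false
set_option linter.unusedSectionVars false
set_option linter.unusedVariables false

namespace Cfsg.Agent.R2.F4P.Th

open Cfsg Cfsg.Lie Module Matrix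
open Cfsg.Agent.ChevalleyStructure.E6Min.Tables Cfsg.Agent.ChevalleyStructure.E6Min.Basic
open Cfsg.Agent.H952.F4 (sh cr tf tr1 u0 hF4)
open Cfsg.Agent.H952.F4.Jord
open Cfsg.Agent.H952.F4.FixV (W0 mem_W0 finrank_W0 u0_ne_zero tr1_eq)
open Cfsg.Agent.R2.H9.E6
open Cfsg.Agent.GpExc.Field (emb)
open Cfsg.Agent.H943.SL2Rel Cfsg.Agent.H943.SL2Mod Cfsg.Agent.R2.H28.SL2 Cfsg.Agent.H943.RepAdd
open Cfsg.Agent.R2.F4M Cfsg.Agent.R2.F4L

universe u v w

section Uq

variable {k : Type u} [Field k] [DecidableEq k] {K : Type w} [Field K] [Fintype K] [DecidableEq K] {ι : K →+* k}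
variable {a : ℕ} [CharP k 3] [CharP K 3] [IsAlgClosed k]
variable {ρ : Representation k (Matrix.SpecialLinearGroup (Fin 2) K) (I27 → k)}

/-- tuples with values in the scalars vanish -/
theorem Cx3.tp_key (C : Cx3 K a ρ) {i j : ℕ} (hi : i < a) (hj : j < a) (hij : i ≠ j) {x : ℕ → ℕ → I27 → k}
    (hx : TP ι 3 ρ 2 i 2 j x) (hxW : ∀ s s', x s s' ∈ W0 k)
    (h0 : (fun s s' => (Lk k).mkQ (⟨x s s', hxW s s'⟩ : W0 k)) = 0) : x = 0 := by
  have A : Adm 3 a 2 i 2 j := ⟨by norm_num, by norm_num, hij, hi, hj⟩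
  by_contra hx0
  obtain ⟨hX, hV⟩ := hx.isV C.card A hx0
  have h1 : Sp x ≤ Submodule.span k {u0 k} := Sp_le fun s s' => by
    have h2 := congrFun (congrFun h0 s) s'
    have h3 : (Lk k).mkQ (⟨x s s', hxW s s'⟩ : W0 k) = 0 := h2
    rw [Submodule.mkQ_apply, Submodule.Quotient.mk_eq_zero] at h3
    exact h3
  have h2 := Submodule.finrank_mono h1
  have h4 : Module.finrank k (Submodule.span k {u0 k}) ≤ 1 := by
    have := finrank_span_le_card (R := k) ({u0 k} : Set (I27 → k))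
    simpa using this
  have h5 := IsV.finrank ι hV
  rw [card22 hij hi hj] at h5
  omega

/-- **all the tuples `(2, i'; 2, j')` lie in one submodule** -/
theorem nine_span (C : Cx3 K a ρ) (no3 : ∀ i, i < a → ∀ x, TS ι 3 ρ 2 i x → x = 0) {i j : ℕ} (hi : i < a) (hj : j < a)
    (hij : i ≠ j) {i' j' : ℕ} (hi' : i' < a) (hj' : j' < a) (hij' : i' ≠ j')
    {y z : ℕ → ℕ → I27 → k} (hy : TP ι 3 ρ 2 i 2 j y) (hz : TP ι 3 ρ 2 i' 2 j' z) (hy0 : y ≠ 0) (s s' : ℕ) :
    z s s' ∈ Sp (k := k) y := by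
  have A : Adm 3 a 2 i 2 j := ⟨by norm_num, by norm_num, hij, hi, hj⟩
  have A' : Adm 3 a 2 i' 2 j' := ⟨by norm_num, by norm_num, hij', hi', hj'⟩
  by_cases hz0 : z = 0
  · rw [hz0]
    exact Submodule.zero_mem _
  have hyW := C.tp_W0 A (by norm_num) hy
  have hzW := C.tp_W0 A' (by norm_num) hz
  have hyV := C.tpV hy hyW
  have hzV := C.tpV hz hzW
  have hyV0 : (fun s s' => (Lk k).mkQ (⟨y s s', hyW s s'⟩ : W0 k)) ≠ 0 := fun h => hy0 (C.tp_key hi hj hij hy hyW h)
  have hzV0 : (fun s s' => (Lk k).mkQ (⟨z s s', hzW s s'⟩ : W0 k)) ≠ 0 := fun h => hz0 (C.tp_key hi' hj' hij' hz hzW h)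
  obtain ⟨hX, hVX⟩ := hyV.isV C.card A hyV0
  obtain ⟨hZ, hVZ⟩ := hzV.isV C.card A' hzV0
  have heq := C.nine_uniq no3 hVX hVZ (card22 hij hi hj k) (card22 hij' hi' hj' k)
  obtain ⟨hY, hVY⟩ := hy.isV C.card A hy0
  obtain ⟨hZ', hVZ'⟩ := hz.isV C.card A' hz0
  rcases irr_or hVY hVZ' with h0 | h0
  swap
  · rw [h0]
    exact mem_Sp z s s'
  exfalso
  -- the span of `z` lies in the span of `y` and `u0`
  have hle : Sp z ≤ Sp y ⊔ Submodule.span k {u0 k} := Sp_le fun r r' => by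
    have h1 : (Lk k).mkQ (⟨z r r', hzW r r'⟩ : W0 k) ∈ Sp (k := k) (fun s s' => (Lk k).mkQ (⟨y s s', hyW s s'⟩ : W0 k)) := by
      rw [heq]
      exact mem_Sp (fun s s' => (Lk k).mkQ (⟨z s s', hzW s s'⟩ : W0 k)) r r'
    have h2 : Sp (k := k) (fun s s' => (Lk k).mkQ (⟨y s s', hyW s s'⟩ : W0 k)) ≤
        (Sp (k := k) (fun s s' => (⟨y s s', hyW s s'⟩ : W0 k))).map (Lk k).mkQ := Sp_le fun r r' =>
      Submodule.mem_map_of_mem (mem_Sp (fun s s' => (⟨y s s', hyW s s'⟩ : W0 k)) r r')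
    obtain ⟨x, hx, hxe⟩ := h2 h1
    have h3 : (x : I27 → k) ∈ Sp (k := k) y := by
      have h4 : Sp (k := k) (fun s s' => (⟨y s s', hyW s s'⟩ : W0 k)) ≤ (Sp (k := k) y).comap (W0 k).subtype := Sp_le fun r r' => by
        show y r r' ∈ Sp (k := k) y
        exact mem_Sp y r r'
      exact h4 hx
    have h4 : (Lk k).mkQ (x - ⟨z r r', hzW r r'⟩) = 0 := by rw [map_sub, hxe, sub_self]
    rw [Submodule.mkQ_apply, Submodule.Quotient.mk_eq_zero] at h4
    have h5 : (x : I27 → k) - z r r' ∈ Submodule.span k {u0 k} := h4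
    have h6 : z r r' = (x : I27 → k) + -((x : I27 → k) - z r r') := by abel
    rw [h6]
    exact Submodule.add_mem_sup h3 (Submodule.neg_mem _ h5)
  have h1 := Submodule.finrank_sup_add_finrank_inf_eq (Sp (k := k) y) (Sp (k := k) z)
  rw [h0, finrank_bot, add_zero] at h1
  have h2 := Submodule.finrank_mono (sup_le (le_sup_left : Sp (k := k) y ≤ Sp y ⊔ Submodule.span k {u0 k}) hle)
  have h3 := Submodule.finrank_add_le_finrank_add_finrank (Sp (k := k) y) (Submodule.span k {u0 k})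
  have h4 : Module.finrank k (Submodule.span k {u0 k}) ≤ 1 := by
    have := finrank_span_le_card (R := k) ({u0 k} : Set (I27 → k))
    simpa using this
  have h5 := IsV.finrank ι hVY
  rw [card22 hij hi hj] at h5
  have h6 := IsV.finrank ι hVZ'
  rw [card22 hij' hi' hj'] at h6
  omega

end Uq

section cfg

variable {F : Type u} [Field F] [Fintype F] {K : Type v} [Field K] [Fintype K] {a b : ℕ}
variable {H : Subgroup ↥(chevF4.group F)} {φ : ProjectiveSpecialLinearGroup (Fin 2) K →* ↥(chevF4.group F)}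
variable {k : Type u} [Field k] [DecidableEq k]

/-- the two forms of the action -/
theorem V_psi3 [Algebra F k] (g : SpecialLinearGroup (Fin 2) K) (x : I27 → k) :
    Cfsg.Agent.H163.E6.V k (F4N.ψk k φ (pq g)) x = Rk (algebraMap F k) φ g x := by
  have h : Cfsg.Agent.H163.E6.V k (F4N.ψk k φ (pq g)) = Rk (algebraMap F k) φ g := by
    refine LinearMap.pi_ext' fun i => LinearMap.ext_ring ?_
    have e : (LinearMap.single k (fun _ : I27 => k) i) 1 = fun j => algebraMap F k ((Pi.single i (1 : F) : I27 → F) j) := by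
      funext j
      rw [LinearMap.single_apply]
      by_cases hij : j = i
      · subst hij
        rw [Pi.single_eq_same, Pi.single_eq_same, map_one]
      · rw [Pi.single_eq_of_ne hij, Pi.single_eq_of_ne hij, map_zero]
    rw [LinearMap.comp_apply, LinearMap.comp_apply, e, Rk_map]
    have h1 := Cfsg.Agent.H65.E6Emb.V_emb (algebraMap F k) (zt F (φ (pq g))) (Pi.single i (1 : F))
    rw [V_zt] at h1
    exact h1
  rw [h]

/-- **the context** -/
theorem cx3 [DecidableEq K] [Algebra F k] [Algebra.IsAlgebraic F k] (h : Cfg 3 a b H φ) :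
    Cx3 K a (Rk (algebraMap F k) φ) where
  act := act_Rk
  ha := by
    have h1 := h.seven
    have h2 := h.ha
    rw [h.cardK] at h1
    rcases Nat.lt_or_ge a 2 with h3 | h3
    · have h4 : a = 1 := by omega
      rw [h4] at h1
      norm_num at h1
    · exact h3
  card := h.cardK
  neg := by
    rw [← F4M.h_neg_one]
    exact Rk_cen _ _
  fix y hy := h.nofix_rk _ hy
  fixm y hy := h.fix_mod (algebraMap F k) fun g => by
    obtain ⟨c, hc⟩ := hy g
    exact ⟨c, by rw [hc]; abel⟩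
  white W hst hW := F4N.white h (by norm_num) (h.fixU k) hW fun t x hx => by
    obtain ⟨g, rfl⟩ := pq_surjective t
    rw [V_psi3]
    exact hst g x hx

/-- **the embedding** -/
theorem exists_emb (K : Type v) [Field K] [Fintype K] (k : Type u) [Field k] [IsAlgClosed k] (p : ℕ) [Fact p.Prime]
    [CharP k p] [CharP K p] : Nonempty (K →+* k) := by
  letI := ZMod.algebra K p
  letI := ZMod.algebra k p
  haveI : Module.Finite (ZMod p) K := Module.Finite.of_finite
  exact ⟨(IsAlgClosed.lift (R := ZMod p) (S := K) (M := k)).toRingHom⟩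

end cfg

end Cfsg.Agent.R2.F4P.Th
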