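import Cfsg.Agent.R2.F4P.Th.Cxa
import Cfsg.Agent.R2.F4P.Th.Sk

/-!
# S5931, `p = 3` : the assembly modulo `no4`

* `y9z` : a tuple of type `(2, i; 2, j)` with (H) vanishes; `core3_of` : the assembly.
-/

set_option autoImplicit false
set_option linter.unusedSectionVars false
set_option linter.unusedVariables false

namespace Cfsg.Agent.R2.F4P.Th

open Cfsg Cfsg.Lie Module Matrix
open Cfsg.Agent.ChevalleyStructure.E6Min.Tables Cfsg.Agent.ChevalleyStructure.E6Min.Basic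
open Cfsg.Agent.H952.F4 (sh cr tf tr1 u0 hF4)
open Cfsg.Agent.H952.F4.Jord
open Cfsg.Agent.H943.SL2Rel Cfsg.Agent.H943.SL2Mod Cfsg.Agent.R2.H28.SL2 Cfsg.Agent.H943.RepAdd
open Cfsg.Agent.R2.F4M Cfsg.Agent.R2.F4L

universe u v w

variable {F : Type u} [Field F] [Fintype F] {K : Type v} [Field K] [Fintype K] {a b : ℕ}
variable {H : Subgroup ↥(chevF4.group F)} {φ : ProjectiveSpecialLinearGroup (Fin 2) K →* ↥(chevF4.group F)}

/-- **tuples of type `(2, i; 2, j)` with (H) vanish** -/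
theorem y9z [DecidableEq K] {k : Type u} [Field k] [DecidableEq k] {f : F →+* k} {ι : K →+* k} [CharP k 3] [CharP K 3]
    [IsAlgClosed k] (hc : Cfg 3 a b H φ) (C : Cx3 K a (Rk f φ)) {i j : ℕ} (hi : i < a) (hj : j < a) (hij : i ≠ j)
    {y : ℕ → ℕ → I27 → k} (hy : TP ι 3 (Rk f φ) 2 i 2 j y) (hH : ∀ σ τ : k, sh (yy y σ τ) = 0) : y = 0 := by
  by_contra hy0
  exact y9 hc C hi hj hij hy hy0 hH fun i' j' z hi' hj' hij' hz s s' =>
    nine_span C (fun i hi x hx => no3 hc C hi hx) hi hj hij hi' hj' hij' hy hz hy0 s s'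

/-- **the assembly** -/
theorem core3_of (hc : Cfg 3 a b H φ)
    (hN4 : ∀ (_ : DecidableEq K) (k : Type u) (_ : Field k) (_ : DecidableEq k) (_ : IsAlgClosed k) (_ : CharP k 3)
      (_ : CharP K 3) (ρ : Representation k (Matrix.SpecialLinearGroup (Fin 2) K) (I27 → k)) (C : Cx3 K a ρ)
      (no3 : ∀ (ι : K →+* k) i, i < a → ∀ x, TS ι 3 ρ 2 i x → x = 0)
      (hy9 : ∀ (ι : K →+* k) i j, i < a → j < a → i ≠ j → ∀ y, TP ι 3 ρ 2 i 2 j y → (∀ σ τ, sh (yy y σ τ) = 0) → y = 0)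
      (ι : K →+* k) (i j : ℕ), i < a → j < a → i ≠ j → ∀ (x : ℕ → ℕ → I27 → k), TP ι 3 ρ 1 i 1 j x → x = 0) :
    False := by
  have iF := hc.charF
  have iK := hc.charK
  let dK : DecidableEq K := Classical.decEq K
  let dk : DecidableEq (AlgebraicClosure F) := Classical.decEq _
  have ik : CharP (AlgebraicClosure F) 3 := charP_of_injective_ringHom (algebraMap F (AlgebraicClosure F)).injective 3
  obtain ⟨ι⟩ := exists_emb K (AlgebraicClosure F) 3
  have C : Cx3 K a (Rk (algebraMap F (AlgebraicClosure F)) φ) := cx3 hc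
  have h3 : ∀ (ι : K →+* AlgebraicClosure F) i, i < a → ∀ x, TS ι 3 (Rk (algebraMap F (AlgebraicClosure F)) φ) 2 i x →
      x = 0 := fun ι i hi x hx => no3 hc C hi hx
  have h9 : ∀ (ι : K →+* AlgebraicClosure F) i j, i < a → j < a → i ≠ j → ∀ y,
      TP ι 3 (Rk (algebraMap F (AlgebraicClosure F)) φ) 2 i 2 j y →
      (∀ σ τ, sh (yy y σ τ) = 0) → y = 0 := fun ι i j hi hj hij y hy hH => y9z hc C hi hj hij hy hH
  refine skel C ι h3 (hN4 dK (AlgebraicClosure F) inferInstance dk inferInstance ik iK _ C h3 h9) ?_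
  intro ι i j hi hj hij y hy hy0 hH _
  exact hy0 (h9 ι i j hi hj hij y hy hH)

end Cfsg.Agent.R2.F4P.Th
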