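import Cfsg.Agent.R2.F4L.TupD
import Cfsg.Agent.R2.F4P.Id

/-!
# S5931, `p = 3` : definitions (helper20)

* `polyF`, `polyE` : polynomial identities over a finite subfield, with arbitrary exponents;
* `TP` : two-digit tuples : equivariant maps `V_{n p ^ i} ⊗ V_{m p ^ j} → V` in coordinates; `BasP.tp`;
* `TS.twist`, `TP.twist` : Frobenius twist of `ι`;
* `yy` : the vector `Σ C(2,a) C(2,b) σ^a τ^b y_ab`;
* `Cx3` : the context over `k`, `p = 3`.
-/

set_option autoImplicit false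
set_option linter.unusedSectionVars false

namespace Cfsg.Agent.R2.F4P.Th

open Cfsg.Lie
open Cfsg.Agent.ChevalleyStructure.E6Min.Tables Cfsg.Agent.ChevalleyStructure.E6Min.Basic
open Cfsg.Agent.H952.F4 (sh cr tf tr1 u0)
open Cfsg.Agent.H952.F4.Jord
open Cfsg.Agent.H943.SL2Rel Cfsg.Agent.H943.SL2Mod Cfsg.Agent.R2.H28.SL2 Cfsg.Agent.H943.RepAdd
open Cfsg.Agent.R2.F4L

universe u v w

variable {k : Type u} [Field k] [DecidableEq k] {K : Type w} [Field K] [Fintype K] [DecidableEq K] {ι : K →+* k}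
variable {p : ℕ} [Fact p.Prime] [CharP k p] [CharP K p]

/-- **polynomial identities with arbitrary exponents** -/
theorem polyF {V : Type*} [AddCommGroup V] [Module k V] (p : ℕ) [Fact p.Prime] [CharP k p] [CharP K p]
    {α : Type*} (S : Finset α) (e : α → ℕ) (c : α → V) (he : ∀ x ∈ S, e x < Fintype.card K)
    (h0 : ∀ t : K, ∑ x ∈ S, (ι t ^ e x) • c x = 0) (m : ℕ) : ∑ x ∈ S with e x = m, c x = 0 := by
  classical
  rcases lt_or_ge m (Fintype.card K) with hm | hm
  · refine poly0 ι le_rfl p 0 (a := fun j => ∑ x ∈ S with e x = j, c x) (fun t => ?_) m hm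
    rw [pow_zero, pow_one, ← h0 t,
      ← Finset.sum_fiberwise_of_maps_to (s := S) (t := Finset.range (Fintype.card K)) (g := e)
      (fun x hx => Finset.mem_range.2 (he x hx))]
    refine Finset.sum_congr rfl fun j _ => ?_
    rw [Finset.smul_sum]
    refine Finset.sum_congr rfl fun x hx => ?_
    rw [(Finset.mem_filter.1 hx).2]
  · rw [Finset.filter_false_of_mem (fun x hx => by have := he x hx; omega), Finset.sum_empty]

/-- **polynomial identities with distinct exponents** -/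
theorem polyE {V : Type*} [AddCommGroup V] [Module k V] (p : ℕ) [Fact p.Prime] [CharP k p] [CharP K p]
    {α : Type*} (S : Finset α) (e : α → ℕ) (c : α → V) (he : ∀ x ∈ S, e x < Fintype.card K)
    (hinj : ∀ x ∈ S, ∀ y ∈ S, e x = e y → x = y)
    (h0 : ∀ t : K, ∑ x ∈ S, (ι t ^ e x) • c x = 0) : ∀ x ∈ S, c x = 0 := by
  classical
  intro x hx
  have h1 := polyF p S e c he h0 (e x)
  have h2 : ∑ y ∈ S with e y = e x, c y = c x := by
    have hmem : x ∈ S.filter (fun y => e y = e x) := Finset.mem_filter.2 ⟨hx, rfl⟩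
    refine Finset.sum_eq_single_of_mem x hmem ?_
    intro y hy hyx
    exact absurd (hinj y (Finset.mem_filter.1 hy).1 x hx (Finset.mem_filter.1 hy).2) hyx
  rw [← h2, h1]

/-- two-digit tuples -/
structure TP (ι : K →+* k) (p : ℕ) {V : Type*} [AddCommGroup V] [Module k V]
    (ρ : Representation k (Matrix.SpecialLinearGroup (Fin 2) K) V) (n i m j : ℕ) (v : ℕ → ℕ → V) : Prop where
  zero : ∀ s s', n < s ∨ m < s' → v s s' = 0
  u : ∀ s ≤ n, ∀ s' ≤ m, ∀ t, ρ (u t) (v s s') =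
    ∑ l ∈ Finset.range (n - s + 1), ∑ l' ∈ Finset.range (m - s' + 1),
      ((((n - s).choose l : k) * (ι t ^ p ^ i) ^ l) * (((m - s').choose l' : k) * (ι t ^ p ^ j) ^ l')) • v (s + l) (s' + l')
  h : ∀ s ≤ n, ∀ s' ≤ m, ∀ a : Kˣ, ρ (h a) (v s s') = (((ι a ^ p ^ i) ^ s * ((ι a ^ p ^ i)⁻¹) ^ (n - s)) *
    ((ι a ^ p ^ j) ^ s' * ((ι a ^ p ^ j)⁻¹) ^ (m - s'))) • v s s'
  w : ∀ s ≤ n, ∀ s' ≤ m, ρ w (v s s') = ((-1 : k) ^ s * (-1 : k) ^ s') • v (n - s) (m - s')

section

variable {V : Type*} [AddCommGroup V] [Module k V] {ρ : Representation k (Matrix.SpecialLinearGroup (Fin 2) K) V}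
variable {n m i j : ℕ} {x y : ℕ → ℕ → V}

/-- the tuple of a submodule -/
theorem BasP.tp {W : Submodule k V} {hW : ∀ g, ∀ x ∈ W, ρ g x ∈ W} {v : ℕ → ℕ → W}
    (hv : BasP ι p (subRep ρ W hW) n i m j v) : TP ι p ρ n i m j (fun s s' => (v s s' : V)) where
  zero := fun s s' hs => by rw [hv.zero s s' hs]; rfl
  u := fun s hs s' hs' t => by
    have := congrArg Subtype.val (hv.u s hs s' hs' t)
    rw [Submodule.coe_sum] at this
    refine Eq.trans this ?_
    refine Finset.sum_congr rfl fun l _ => ?_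
    rw [Submodule.coe_sum]
    rfl
  h := fun s hs s' hs' a => congrArg Subtype.val (hv.h s hs s' hs' a)
  w := fun s hs s' hs' => congrArg Subtype.val (hv.w s hs s' hs')

theorem TP.smul (c : k) (hx : TP ι p ρ n i m j x) : TP ι p ρ n i m j (c • x) where
  zero := fun s s' hs => by
    show c • x s s' = 0
    rw [hx.zero s s' hs, smul_zero]
  u := fun s hs s' hs' t => by
    show ρ (Cfsg.Agent.H943.SL2Rel.u t) (c • x s s') = _
    rw [map_smul, hx.u s hs s' hs', Finset.smul_sum]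
    refine Finset.sum_congr rfl fun l _ => ?_
    rw [Finset.smul_sum]
    exact Finset.sum_congr rfl fun l' _ => smul_comm _ _ _
  h := fun s hs s' hs' a => by
    show ρ (Cfsg.Agent.H943.SL2Rel.h a) (c • x s s') = _
    rw [map_smul, hx.h s hs s' hs']
    exact smul_comm _ _ _
  w := fun s hs s' hs' => by
    show ρ Cfsg.Agent.H943.SL2Rel.w (c • x s s') = _
    rw [map_smul, hx.w s hs s' hs']
    exact smul_comm _ _ _

theorem TP.add (hx : TP ι p ρ n i m j x) (hy : TP ι p ρ n i m j y) : TP ι p ρ n i m j (x + y) where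
  zero := fun s s' hs => by
    show x s s' + y s s' = 0
    rw [hx.zero s s' hs, hy.zero s s' hs, add_zero]
  u := fun s hs s' hs' t => by
    show ρ (Cfsg.Agent.H943.SL2Rel.u t) (x s s' + y s s') = _
    rw [map_add, hx.u s hs s' hs', hy.u s hs s' hs', ← Finset.sum_add_distrib]
    refine Finset.sum_congr rfl fun l _ => ?_
    rw [← Finset.sum_add_distrib]
    exact Finset.sum_congr rfl fun l' _ => (smul_add _ _ _).symm
  h := fun s hs s' hs' a => by
    show ρ (Cfsg.Agent.H943.SL2Rel.h a) (x s s' + y s s') = _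
    rw [map_add, hx.h s hs s' hs', hy.h s hs s' hs']
    exact (smul_add _ _ _).symm
  w := fun s hs s' hs' => by
    show ρ Cfsg.Agent.H943.SL2Rel.w (x s s' + y s s') = _
    rw [map_add, hx.w s hs s' hs', hy.w s hs s' hs']
    exact (smul_add _ _ _).symm

/-- exchange of the two digits -/
theorem TP.swap (hx : TP ι p ρ n i m j x) : TP ι p ρ m j n i (fun s s' => x s' s) where
  zero := fun s s' hs => hx.zero s' s hs.symm
  u := fun s hs s' hs' t => by
    show ρ (Cfsg.Agent.H943.SL2Rel.u t) (x s' s) = _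
    rw [hx.u s' hs' s hs t, Finset.sum_comm]
    refine Finset.sum_congr rfl fun l _ => Finset.sum_congr rfl fun l' _ => ?_
    rw [mul_comm]
  h := fun s hs s' hs' a => by
    show ρ (Cfsg.Agent.H943.SL2Rel.h a) (x s' s) = _
    rw [hx.h s' hs' s hs a, mul_comm]
  w := fun s hs s' hs' => by
    show ρ Cfsg.Agent.H943.SL2Rel.w (x s' s) = _
    rw [hx.w s' hs' s hs, mul_comm]

/-- images of tuples -/
theorem TP.map {V' : Type*} [AddCommGroup V'] [Module k V'] {σ' : Representation k (Matrix.SpecialLinearGroup (Fin 2) K) V'}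
    (f : V →ₗ[k] V') (hf : ∀ g v, f (ρ g v) = σ' g (f v)) (hx : TP ι p ρ n i m j x) :
    TP ι p σ' n i m j (fun s s' => f (x s s')) where
  zero := fun s s' hs => by rw [hx.zero s s' hs, map_zero]
  u := fun s hs s' hs' t => by
    rw [← hf, hx.u s hs s' hs', map_sum]
    refine Finset.sum_congr rfl fun l _ => ?_
    rw [map_sum]
    exact Finset.sum_congr rfl fun l' _ => map_smul _ _ _
  h := fun s hs s' hs' a => by rw [← hf, hx.h s hs s' hs', map_smul]
  w := fun s hs s' hs' => by rw [← hf, hx.w s hs s' hs', map_smul]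

/-- the last vector is fixed -/
theorem TP.top (hx : TP ι p ρ n i m j x) (t : K) : ρ (Cfsg.Agent.H943.SL2Rel.u t) (x n m) = x n m := by
  rw [hx.u n le_rfl m le_rfl t]
  simp

end

/-- the Frobenius twist -/
noncomputable def twi (ι : K →+* k) (p : ℕ) [Fact p.Prime] [CharP k p] (i : ℕ) : K →+* k := (iterateFrobenius k p i).comp ι

theorem twi_apply (i : ℕ) (t : K) : twi ι p i t = ι t ^ p ^ i := by
  rw [twi, RingHom.comp_apply, iterateFrobenius_def]

theorem pow_mod {a : ℕ} (hF : Fintype.card K = p ^ a) (n : ℕ) (t : K) : ι t ^ p ^ n = ι t ^ p ^ (n % a) := by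
  have h1 : ∀ m : ℕ, t ^ (p ^ a) ^ m = t := by
    intro m
    rw [← hF]
    exact FiniteField.pow_card_pow m t
  conv_lhs => rw [← Nat.div_add_mod n a, pow_add, pow_mul, pow_mul p a, ← map_pow, h1]

section

variable {V : Type*} [AddCommGroup V] [Module k V] {ρ : Representation k (Matrix.SpecialLinearGroup (Fin 2) K) V}
variable {n m i j : ℕ}

theorem TP.twist {x : ℕ → ℕ → V} {a : ℕ} (hF : Fintype.card K = p ^ a) {l i' j' : ℕ} (hi : (l + i') % a = i % a)
    (hj : (l + j') % a = j % a) (hx : TP ι p ρ n i m j x) : TP (twi ι p l) p ρ n i' m j' x := by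
  have e1 : ∀ t, twi ι p l t ^ p ^ i' = ι t ^ p ^ i := fun t => by
    rw [twi_apply, ← pow_mul, ← pow_add, pow_mod hF (l + i'), hi, ← pow_mod hF]
  have e2 : ∀ t, twi ι p l t ^ p ^ j' = ι t ^ p ^ j := fun t => by
    rw [twi_apply, ← pow_mul, ← pow_add, pow_mod hF (l + j'), hj, ← pow_mod hF]
  refine ⟨hx.zero, fun s hs s' hs' t => ?_, fun s hs s' hs' b => ?_, hx.w⟩
  · rw [e1, e2]
    exact hx.u s hs s' hs' t
  · rw [e1, e2]
    exact hx.h s hs s' hs' b

theorem TS_twist {x : ℕ → V} {a : ℕ} (hF : Fintype.card K = p ^ a) {l i' : ℕ} (hi : (l + i') % a = i % a)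
    (hx : TS ι p ρ n i x) : TS (twi ι p l) p ρ n i' x := by
  have e1 : ∀ t, twi ι p l t ^ p ^ i' = ι t ^ p ^ i := fun t => by
    rw [twi_apply, ← pow_mul, ← pow_add, pow_mod hF (l + i'), hi, ← pow_mod hF]
  refine ⟨hx.zero, fun s hs t => ?_, fun s hs b => ?_, hx.w⟩
  · rw [e1]
    exact hx.u s hs t
  · rw [e1]
    exact hx.h s hs b

end

/-- the vectors `v(σ) ⊗ v(τ)` -/
def yy (y : ℕ → ℕ → I27 → k) (σ τ : k) : I27 → k :=
  y 0 0 + (2 * σ) • y 1 0 + (σ ^ 2) • y 2 0 + τ • ((2 : k) • y 0 1 + (4 * σ) • y 1 1 + (2 * σ ^ 2) • y 2 1) +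
    (τ ^ 2) • (y 0 2 + (2 * σ) • y 1 2 + (σ ^ 2) • y 2 2)

/-- the context, `p = 3` -/
structure Cx3 (K : Type w) [Field K] [Fintype K] [DecidableEq K] {k : Type u} [Field k] (a : ℕ)
    (ρ : Representation k (Matrix.SpecialLinearGroup (Fin 2) K) (I27 → k)) : Prop where
  act : Act ρ
  ha : 2 ≤ a
  card : Fintype.card K = 3 ^ a
  neg : ρ (-1) = 1
  fix : ∀ y : I27 → k, (∀ g, ρ g y = y) → ∃ c : k, y = c • u0 k
  fixm : ∀ y : I27 → k, (∀ g, ∃ c : k, ρ g y = y + c • u0 k) → ∃ c : k, y = c • u0 k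
  white : ∀ W : Submodule k (I27 → k), (∀ g, ∀ x ∈ W, ρ g x ∈ W) → (∀ x ∈ W, sh x = 0) → W = ⊥

end Cfsg.Agent.R2.F4P.Th
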