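import Cfsg.Agent.R2.F4P.Th.Tri
import Cfsg.Agent.R2.F4P.Th.Def

/-!
# White triples; the curve of the squares (helper20, S5931)
-/

set_option autoImplicit false
set_option linter.unusedSectionVars false
set_option linter.unusedVariables false

namespace Cfsg.Agent.R2.F4P.Th

open Cfsg.Lie
open Cfsg.Agent.ChevalleyStructure.E6Min.Tables Cfsg.Agent.ChevalleyStructure.E6Min.Basic
open Cfsg.Agent.H952.F4 (sh cr tf tr1 u0)
open Cfsg.Agent.H952.F4.Jord
open Cfsg.Agent.H943.SL2Rel Cfsg.Agent.H943.SL2Mod Cfsg.Agent.R2.H28.SL2 Cfsg.Agent.H943.RepAdd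
open Cfsg.Agent.R2.F4L

universe u v w

section

variable {k : Type u} [Field k]

/-- five vectors with vanishing products -/
structure Wh (v1 v2 v3 v4 v5 : I27 → k) : Prop where
  s1 : sh v1 = 0
  s2 : sh v2 = 0
  s3 : sh v3 = 0
  s4 : sh v4 = 0
  s5 : sh v5 = 0
  c12 : cr v1 v2 = 0
  c13 : cr v1 v3 = 0
  c14 : cr v1 v4 = 0
  c15 : cr v1 v5 = 0
  c23 : cr v2 v3 = 0
  c24 : cr v2 v4 = 0
  c25 : cr v2 v5 = 0
  c34 : cr v3 v4 = 0
  c35 : cr v3 v5 = 0
  c45 : cr v4 v5 = 0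

theorem Wh.sh {v1 v2 v3 v4 v5 : I27 → k} (W : Wh v1 v2 v3 v4 v5) (a b c d e : k) :
    H952.F4.sh (a • v1 + b • v2 + c • v3 + d • v4 + e • v5) = 0 := by
  rw [sh_add, sh_add, sh_add, sh_add]
  simp only [sh_smul, cr_add_left, cr_smul_left, cr_smul_right, W.s1, W.s2, W.s3, W.s4, W.s5, W.c12, W.c13, W.c14, W.c15,
    W.c23, W.c24, W.c25, W.c34, W.c35, W.c45, smul_zero, add_zero]

variable {x0 x1 x2 : I27 → k}

theorem Nz.wh (Z : Nz x0 x1 x2) (h2 : (2 : k) ≠ 0) (hw : cr x0 x2 = (2 : k) • sh x1) :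
    Wh (sh x0) (sh x1) (sh x2) (cr x0 x1) (cr x1 x2) := by
  have s0 : sh (sh x0) = 0 := by rw [sh_sh, Z.n0, zero_smul]
  have s1 : sh (sh x1) = 0 := by rw [sh_sh, Z.n1, zero_smul]
  have s2 : sh (sh x2) = 0 := by rw [sh_sh, Z.n2, zero_smul]
  have e01 : cr (sh x0) (sh x1) = 0 := by
    have h1 := cr_sh_cr x0 x2
    rw [Z.n0, Z.t02, zero_smul, zero_smul, add_zero, hw, cr_smul_right] at h1
    exact (smul_eq_zero.1 h1).resolve_left h2
  have e21 : cr (sh x2) (sh x1) = 0 := by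
    have h1 := cr_sh_cr x2 x0
    rw [Z.n2, Z.t20, zero_smul, zero_smul, add_zero, cr_comm x2 x0, hw, cr_smul_right] at h1
    exact (smul_eq_zero.1 h1).resolve_left h2
  have e02 : cr (sh x0) (sh x2) = 0 := by
    have h1 := sh_cr x0 x2
    rw [Z.t02, tf_comm x0 (sh x2), Z.t20, zero_smul, zero_smul, add_zero, hw, sh_smul, s1, smul_zero, zero_add] at h1
    exact h1
  have z1 : cr (sh x1) (cr x0 x1) = 0 := by
    rw [cr_comm x0 x1, cr_sh_cr, Z.n1, Z.t10, zero_smul, zero_smul, add_zero]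
  have z3 : cr (sh x1) (cr x1 x2) = 0 := by
    rw [cr_sh_cr, Z.n1, Z.t12, zero_smul, zero_smul, add_zero]
  have z01 : cr (sh x0) (cr x0 x1) = 0 := by
    rw [cr_sh_cr, Z.n0, Z.t01, zero_smul, zero_smul, add_zero]
  have z23 : cr (sh x2) (cr x1 x2) = 0 := by
    rw [cr_comm x1 x2, cr_sh_cr, Z.n2, Z.t21, zero_smul, zero_smul, add_zero]
  have q1 : sh (cr x0 x1) = 0 := by
    have h1 := sh_cr x0 x1
    rw [Z.t01, tf_comm x0 (sh x1), Z.t10, zero_smul, zero_smul, add_zero, e01, add_zero] at h1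
    exact h1
  have q3 : sh (cr x1 x2) = 0 := by
    have h1 := sh_cr x1 x2
    rw [Z.t12, tf_comm x1 (sh x2), Z.t21, zero_smul, zero_smul, add_zero, cr_comm (sh x1), e21, add_zero] at h1
    exact h1
  have z21 : cr (sh x2) (cr x0 x1) = 0 := by
    have h1 := cr_cr x2 x0 x1
    rw [Z.t20, Z.t21, zero_smul, zero_smul, add_zero, zero_add, tf_comm, Z.t012, zero_smul, cr_comm x2 x0, hw,
      cr_comm x2 x1, cr_smul_left, z3, smul_zero, zero_add] at h1
    exact h1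
  have t201 : tf x0 (cr x1 x2) = 0 := by rw [← tf_cr]; exact Z.t012
  have z03 : cr (sh x0) (cr x1 x2) = 0 := by
    have h1 := cr_cr x0 x1 x2
    rw [Z.t01, Z.t02, zero_smul, zero_smul, add_zero, zero_add, t201, zero_smul, hw, cr_smul_right, cr_comm (cr x0 x1),
      z1, smul_zero, zero_add] at h1
    exact h1
  have t102 : tf x1 (cr x0 x2) = 0 := by rw [← tf_cr, cr_comm]; exact Z.t012
  have c13 : cr (cr x0 x1) (cr x1 x2) = 0 := by
    have h1 := cr_cr x1 x0 x2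
    rw [Z.t10, Z.t12, zero_smul, zero_smul, add_zero, zero_add, t102, zero_smul, hw, cr_smul_right, cr_self, s1,
      smul_zero, smul_zero, add_zero, cr_comm x1 x0] at h1
    exact h1
  exact ⟨s0, s1, s2, q1, q3, e01, e02, z01, z03, by rw [cr_comm]; exact e21, z1, z3, z21, z23, c13⟩

/-- the coefficients of the curve of the squares -/
def ff (x0 x1 x2 : I27 → k) : ℕ → I27 → k
  | 0 => sh x0
  | 1 => (2 : k) • cr x0 x1
  | 2 => cr x0 x2 + (4 : k) • sh x1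
  | 3 => (2 : k) • cr x1 x2
  | 4 => sh x2
  | _ => 0

theorem sh_line (x0 x1 x2 : I27 → k) (s : k) :
    sh (x0 + (2 * s) • x1 + (s ^ 2) • x2) = ∑ A ∈ Finset.range 5, s ^ A • ff x0 x1 x2 A := by
  simp only [Finset.sum_range_succ, Finset.sum_range_zero, ff]
  rw [sh_add3]
  simp only [sh_smul, cr_smul_left, cr_smul_right]
  module

end

section

variable {k : Type u} [Field k] [DecidableEq k] {K : Type w} [Field K] [Fintype K] [DecidableEq K] {ι : K →+* k}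
variable {p : ℕ} [Fact p.Prime] [CharP k p] [CharP K p]

omit [Fintype K] [DecidableEq K] [DecidableEq k] in
theorem wt_tr {A : Type*} [Group A] {ρ : Representation k A (I27 → k)} (H : Act ρ) {g : A} {x : I27 → k} {α : k}
    (hx : ρ g x = α • x) (hα : α ≠ 1) : tr1 x = 0 := by
  have h1 := H.tr g x
  rw [hx, tr1_smul] at h1
  have h2 : (α - 1) * tr1 x = 0 := by linear_combination h1
  exact (mul_eq_zero.1 h2).resolve_left (sub_ne_zero.2 hα)

theorem exists_t (ι : K →+* k) (p : ℕ) [Fact p.Prime] [CharP K p] (hQ : 4 ≤ Fintype.card K) :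
    ∃ t : k, t ≠ 0 ∧ t ^ 2 ≠ 1 := by
  obtain ⟨lam, hl⟩ := exists_prim ι 0 p
  refine ⟨ι lam ^ p ^ 0, pow_ne_zero _ ((map_ne_zero ι).2 lam.ne_zero), ?_⟩
  exact hl.pow_ne_one_of_pos_of_lt (by omega) (by omega)

/-- stability from the generators -/
theorem st_gen {V : Type*} [AddCommGroup V] [Module k V] {ρ : Representation k (Matrix.SpecialLinearGroup (Fin 2) K) V}
    {W : Submodule k V} (hu : ∀ t, ∀ x ∈ W, ρ (Cfsg.Agent.H943.SL2Rel.u t) x ∈ W)
    (hh : ∀ a, ∀ x ∈ W, ρ (Cfsg.Agent.H943.SL2Rel.h a) x ∈ W)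
    (hw : ∀ x ∈ W, ρ Cfsg.Agent.H943.SL2Rel.w x ∈ W) : ∀ g, ∀ x ∈ W, ρ g x ∈ W := by
  refine induct (P := fun g => ∀ x ∈ W, ρ g x ∈ W) hu hh hw (fun a b ha hb x hx => ?_)
  rw [map_mul, Module.End.mul_apply]
  exact ha _ (hb _ hx)

theorem st_span {V : Type*} [AddCommGroup V] [Module k V] {ρ : Representation k (Matrix.SpecialLinearGroup (Fin 2) K) V}
    {S : Set V} (hu : ∀ t, ∀ x ∈ S, ρ (Cfsg.Agent.H943.SL2Rel.u t) x ∈ Submodule.span k S)
    (hh : ∀ a, ∀ x ∈ S, ρ (Cfsg.Agent.H943.SL2Rel.h a) x ∈ Submodule.span k S)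
    (hw : ∀ x ∈ S, ρ Cfsg.Agent.H943.SL2Rel.w x ∈ Submodule.span k S) :
    ∀ g, ∀ x ∈ Submodule.span k S, ρ g x ∈ Submodule.span k S := by
  have key : ∀ f : V →ₗ[k] V, (∀ x ∈ S, f x ∈ Submodule.span k S) → ∀ x ∈ Submodule.span k S, f x ∈ Submodule.span k S := by
    intro f hf
    have h1 : Submodule.span k S ≤ (Submodule.span k S).comap f := Submodule.span_le.2 hf
    exact h1
  exact st_gen (fun t => key _ (hu t)) (fun a => key _ (hh a)) (key _ hw)

end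

end Cfsg.Agent.R2.F4P.Th
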