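import Cfsg.Agent.R2.F4P.Th.Sb
import Cfsg.Agent.R2.F4P.Th.Wh
import Cfsg.Agent.R2.F4L.SubD

/-!
# No submodules `V_{2 3^i}` in the Albert algebra, `p = 3` (helper20, S5931)

* `Cx3.tri` : a nonzero tuple of type `(2, i)` is a triple (`Tri`);
* `Cx3.uniq3`, `Cx3.pair3` : uniqueness;
* `no3`.
-/

set_option autoImplicit false
set_option linter.unusedSectionVars false
set_option linter.unusedVariables false

namespace Cfsg.Agent.R2.F4P.Th

open Cfsg Cfsg.Lie Module Matrix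
open Cfsg.Agent.ChevalleyStructure.E6Min.Tables Cfsg.Agent.ChevalleyStructure.E6Min.Basic
open Cfsg.Agent.H952.F4 (sh cr tf tr1 u0 hF4)
open Cfsg.Agent.H952.F4.Jord
open Cfsg.Agent.H952.F4.FixV (W0 mem_W0 finrank_W0 u0_ne_zero tr1_eq)
open Cfsg.Agent.R2.H9.E6
open Cfsg.Agent.GpExc.Field (emb)
open Cfsg.Agent.H943.SL2Rel Cfsg.Agent.H943.SL2Mod Cfsg.Agent.R2.H28.SL2 Cfsg.Agent.H943.RepAdd
open Cfsg.Agent.R2.F4M Cfsg.Agent.R2.F4N Cfsg.Agent.R2.F4L

universe u v w

section Gen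

variable {k : Type u} [Field k] [DecidableEq k] {K : Type w} [Field K] [Fintype K] [DecidableEq K] {ι : K →+* k}
variable [CharP k 3] [CharP K 3] {a : ℕ}
variable {ρ : Representation k (Matrix.SpecialLinearGroup (Fin 2) K) (I27 → k)}

theorem Cx3.nine (C : Cx3 K a ρ) : 9 ≤ Fintype.card K := by
  rw [C.card]
  calc 9 = 3 ^ 2 := by norm_num
    _ ≤ 3 ^ a := Nat.pow_le_pow_right (by norm_num) C.ha

theorem two3 (k : Type u) [Field k] [CharP k 3] : (2 : k) ≠ 0 := two_ne 3 (by norm_num)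

theorem three0 (k : Type u) [Field k] [CharP k 3] : (3 : k) = 0 := by
  have := CharP.cast_eq_zero k 3
  exact_mod_cast this

theorem Cx3.lt_card (C : Cx3 K a ρ) {i : ℕ} (hi : i < a) : 2 * 3 ^ i ≤ Fintype.card K - 1 := by
  rw [C.card]
  have h1 : 3 ^ (i + 1) ≤ 3 ^ a := Nat.pow_le_pow_right (by norm_num) hi
  have h2 : 0 < 3 ^ i := by positivity
  rw [pow_succ] at h1
  omega

variable {i : ℕ} {x y : ℕ → I27 → k}

theorem Cx3.nz (C : Cx3 K a ρ) (hx : TS ι 3 ρ 2 i x) : Nz (x 0) (x 1) (x 2) := by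
  have h9 := C.nine
  obtain ⟨t, ht, ht2⟩ := exists_t (k := k) ι 3 (by omega)
  exact Nz.of_N (two3 k) ht ht2 (three_N C.act (by norm_num) (by omega) hx)

/-- the action of the unipotent elements -/
theorem ts_u (hx : TS ι 3 ρ 2 i x) (t : K) (α β γ : k) :
    ρ (Cfsg.Agent.H943.SL2Rel.u t) (α • x 0 + β • x 1 + γ • x 2) =
    α • x 0 + (2 * α * (ι t ^ 3 ^ i) + β) • x 1 + (α * (ι t ^ 3 ^ i) ^ 2 + β * (ι t ^ 3 ^ i) + γ) • x 2 := by
  rw [map_add, map_add, map_smul, map_smul, map_smul, ts2_u0 hx, ts2_u1 hx, ts2_u2 hx]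
  module

theorem ts_h (hx : TS ι 3 ρ 2 i x) (c : Kˣ) (α β γ : k) :
    ρ (Cfsg.Agent.H943.SL2Rel.h c) (α • x 0 + β • x 1 + γ • x 2) =
    (α * (ι c ^ 3 ^ i)⁻¹ ^ 2) • x 0 + β • x 1 + (γ * (ι c ^ 3 ^ i) ^ 2) • x 2 := by
  rw [map_add, map_add, map_smul, map_smul, map_smul, ts2_h0 hx, ts2_h1 hx, ts2_h2 hx]
  module

theorem ts_w (hx : TS ι 3 ρ 2 i x) (α β γ : k) :
    ρ Cfsg.Agent.H943.SL2Rel.w (α • x 0 + β • x 1 + γ • x 2) = γ • x 0 + (-β) • x 1 + α • x 2 := by
  rw [map_add, map_add, map_smul, map_smul, map_smul, ts2_w0 hx, ts2_w1 hx, ts2_w2 hx]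
  module

/-- the span is white only if it is zero -/
theorem Cx3.ts_white (C : Cx3 K a ρ) (hx : TS ι 3 ρ 2 i x) (h : ∀ α β γ : k, sh (α • x 0 + β • x 1 + γ • x 2) = 0) :
    x = 0 := by
  have mem : ∀ v ∈ Submodule.span k (Set.range x), ∃ α β γ : k, v = α • x 0 + β • x 1 + γ • x 2 := by
    intro v hv
    obtain ⟨c, rfl⟩ := hx.mem_span hv
    exact ⟨c 0, c 1, c 2, by simp [Finset.sum_range_succ]⟩
  have hm : ∀ s, x s ∈ Submodule.span k (Set.range x) := fun s => Submodule.subset_span ⟨s, rfl⟩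
  have hc : ∀ α β γ : k, α • x 0 + β • x 1 + γ • x 2 ∈ Submodule.span k (Set.range x) := fun α β γ =>
    Submodule.add_mem _ (Submodule.add_mem _ (Submodule.smul_mem _ _ (hm 0)) (Submodule.smul_mem _ _ (hm 1)))
      (Submodule.smul_mem _ _ (hm 2))
  have h1 := C.white (Submodule.span k (Set.range x)) (st_gen (fun t v hv => by
      obtain ⟨α, β, γ, rfl⟩ := mem v hv
      rw [ts_u hx]
      exact hc _ _ _) (fun t v hv => by
      obtain ⟨α, β, γ, rfl⟩ := mem v hv
      rw [ts_h hx]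
      exact hc _ _ _) (fun v hv => by
      obtain ⟨α, β, γ, rfl⟩ := mem v hv
      rw [ts_w hx]
      exact hc _ _ _)) (fun v hv => by
      obtain ⟨α, β, γ, rfl⟩ := mem v hv
      exact h α β γ)
  funext s
  have h2 := hm s
  rw [h1, Submodule.mem_bot] at h2
  exact h2

/-- the span of the squares is stable -/
theorem usp_stable (C : Cx3 K a ρ) (hx : TS ι 3 ρ 2 i x) :
    ∀ g, ∀ v ∈ Usp (x 0) (x 1) (x 2), ρ g v ∈ Usp (x 0) (x 1) (x 2) := by
  refine st_span ?_ ?_ ?_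
  · rintro t _ ⟨α, β, γ, rfl⟩
    rw [C.act.sh, ts_u hx]
    exact mem_Usp _ _ _ _ _ _
  · rintro t _ ⟨α, β, γ, rfl⟩
    rw [C.act.sh, ts_h hx]
    exact mem_Usp _ _ _ _ _ _
  · rintro _ ⟨α, β, γ, rfl⟩
    rw [C.act.sh, ts_w hx]
    exact mem_Usp _ _ _ _ _ _

/-- **nonzero tuples are triples** -/
theorem Cx3.tri (C : Cx3 K a ρ) (hx : TS ι 3 ρ 2 i x) (hx0 : x ≠ 0) : ∃ c0 : k, Tri (x 0) (x 1) (x 2) c0 := by
  have h9 := C.nine
  have h2 := two3 k
  have Z := C.nz hx
  obtain ⟨c0, hc⟩ := C.fix _ (three_w0 C.act hx)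
  have hw : cr (x 0) (x 2) = c0 • u0 k + (2 : k) • sh (x 1) := by rw [← hc]; module
  obtain ⟨lam, hl⟩ := exists_prim ι i 3
  set α := ι (lam : K) ^ 3 ^ i with hα
  have hα0 : α ≠ 0 := pow_ne_zero _ ((map_ne_zero ι).2 lam.ne_zero)
  have ne : ∀ m : ℕ, 0 < m → m < 8 → α ^ m ≠ 1 := fun m h0 h6 => hl.pow_ne_one_of_pos_of_lt (by omega) (by omega)
  have ine : ∀ m : ℕ, 0 < m → m < 8 → α⁻¹ ^ m ≠ 1 := fun m h0 h6 h => by
    rw [inv_pow] at h
    exact ne m h0 h6 (inv_injective (h.trans inv_one.symm))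
  have w0 := (ts2_h0 hx) lam
  have w1 := (ts2_h1 hx) lam
  have w2 := (ts2_h2 hx) lam
  rw [← hα] at w0 w2
  refine ⟨c0, { Z with ne := ?_, w := hw, r0 := ?_, r1 := ?_, r3 := ?_, r4 := ?_ }⟩
  · rintro rfl
    rw [zero_smul, zero_add] at hw
    have W := Z.wh h2 hw
    have hz : ∀ α β γ : k, sh (α • x 0 + β • x 1 + γ • x 2) ∈ (⊥ : Submodule k (I27 → k)) := by
      have h1 := C.white (Usp (x 0) (x 1) (x 2)) (usp_stable C hx) (fun v hv => by
        have h3 : ∃ a b c d e : k, v = a • sh (x 0) + b • sh (x 1) + c • sh (x 2) + d • cr (x 0) (x 1) + e • cr (x 1) (x 2) := by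
          unfold Usp at hv
          induction hv using Submodule.span_induction with
          | mem v hv =>
            obtain ⟨a, b, c, rfl⟩ := hv
            refine ⟨a ^ 2, b ^ 2 + 2 * a * c, c ^ 2, a * b, b * c, ?_⟩
            rw [sh_add3]
            simp only [sh_smul, cr_smul_left, cr_smul_right, hw]
            module
          | zero => exact ⟨0, 0, 0, 0, 0, by module⟩
          | add v w _ _ hv hw =>
            obtain ⟨a1, a2, a3, a4, a5, rfl⟩ := hv
            obtain ⟨b1, b2, b3, b4, b5, rfl⟩ := hw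
            exact ⟨a1 + b1, a2 + b2, a3 + b3, a4 + b4, a5 + b5, by module⟩
          | smul c v _ hv =>
            obtain ⟨a1, a2, a3, a4, a5, rfl⟩ := hv
            exact ⟨c * a1, c * a2, c * a3, c * a4, c * a5, by module⟩
        obtain ⟨a1, a2, a3, a4, a5, rfl⟩ := h3
        exact W.sh _ _ _ _ _)
      intro α β γ
      rw [← h1]
      exact mem_Usp _ _ _ _ _ _
    exact hx0 (C.ts_white hx fun α β γ => (Submodule.mem_bot k).1 (hz α β γ))
  · refine wt_tr C.act (g := Cfsg.Agent.H943.SL2Rel.h lam) (α := α⁻¹ ^ 4) ?_ (ine 4 (by norm_num) (by norm_num))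
    rw [C.act.sh, w0, sh_smul]
    congr 1
    ring
  · refine wt_tr C.act (g := Cfsg.Agent.H943.SL2Rel.h lam) (α := α⁻¹ ^ 2) ?_ (ine 2 (by norm_num) (by norm_num))
    rw [C.act.cr, w0, w1, cr_smul_left]
  · refine wt_tr C.act (g := Cfsg.Agent.H943.SL2Rel.h lam) (α := α ^ 2) ?_ (ne 2 (by norm_num) (by norm_num))
    rw [C.act.cr, w2, w1, cr_smul_right]
  · refine wt_tr C.act (g := Cfsg.Agent.H943.SL2Rel.h lam) (α := α ^ 4) ?_ (ne 4 (by norm_num) (by norm_num))
    rw [C.act.sh, w2, sh_smul]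
    congr 1
    ring

/-- the traces of a tuple -/
theorem Cx3.ts_tr1 (C : Cx3 K a ρ) (hx : TS ι 3 ρ 2 i x) : tr1 (x 1) = 0 := by
  have h1 := C.act.tr Cfsg.Agent.H943.SL2Rel.w (x 1)
  rw [ts2_w1 hx, show -x 1 = (-1 : k) • x 1 by rw [neg_one_smul], tr1_smul] at h1
  have h2 : (2 : k) * tr1 (x 1) = 0 := by linear_combination -h1
  exact (mul_eq_zero.1 h2).resolve_left (two3 k)

theorem Cx3.form3 (C : Cx3 K a ρ) (hx : TS ι 3 ρ 2 i x) (hx0 : x ≠ 0) : tf (x 1) (x 1) ≠ 0 := by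
  obtain ⟨c0, T⟩ := C.tri hx hx0
  obtain ⟨h1, -⟩ := T.trace (two3 k)
  have h3 := tr1_sh (x 1)
  rw [C.ts_tr1 hx] at h3
  intro h
  rw [h] at h3
  exact T.ne (by linear_combination h1 - h3)

/-- **uniqueness, the same label** -/
theorem Cx3.uniq3 (C : Cx3 K a ρ) [IsAlgClosed k] (hx : TS ι 3 ρ 2 i x) (hx0 : x ≠ 0) (hy : TS ι 3 ρ 2 i y) :
    ∃ c : k, y = c • x := by
  have h2 := two3 k
  set A := tf (x 1) (x 1) with hA
  have hA0 : A ≠ 0 := C.form3 hx hx0
  set B := 2 * tf (x 1) (y 1) with hB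
  set D := tf (y 1) (y 1) with hD
  obtain ⟨s, hs⟩ := IsAlgClosed.exists_pow_nat_eq (B ^ 2 - 4 * A * D) (n := 2) (by norm_num)
  set e : k := (-B + s) / (2 * A) with he
  have hroot : A * e ^ 2 + B * e + D = 0 := by
    have h1 : 4 * A * (A * e ^ 2 + B * e + D) = 0 := by
      have h3 : 2 * A * e = -B + s := by
        rw [he]
        field_simp
      calc 4 * A * (A * e ^ 2 + B * e + D) = (2 * A * e) ^ 2 + 2 * B * (2 * A * e) + 4 * A * D := by ring
        _ = 0 := by rw [h3]; linear_combination hs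
    have h4 : (4 : k) ≠ 0 := by
      rw [show (4 : k) = 2 * 2 by norm_num]
      exact mul_ne_zero h2 h2
    exact (mul_eq_zero.1 h1).resolve_left (mul_ne_zero h4 hA0)
  by_contra hne
  have hz : y + e • x ≠ 0 := by
    intro h
    apply hne
    refine ⟨-e, ?_⟩
    rw [neg_smul]
    exact eq_neg_of_add_eq_zero_left h
  refine C.form3 (hy.add (hx.smul e)) hz ?_
  show tf (y 1 + e • x 1) (y 1 + e • x 1) = 0
  simp only [tf_add_left, tf_add_right, tf_smul_left, tf_smul_right]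
  rw [tf_comm (y 1) (x 1)]
  rw [← hroot, hA, hB, hD]
  ring

theorem tf_sum_left {β : Type*} (S : Finset β) (f : β → I27 → k) (y : I27 → k) :
    tf (∑ b ∈ S, f b) y = ∑ b ∈ S, tf (f b) y := by
  classical
  induction S using Finset.induction_on with
  | empty => simp [tf_zero_left]
  | insert b S hb ih => rw [Finset.sum_insert hb, Finset.sum_insert hb, tf_add_left, ih]

/-- **different labels** -/
theorem Cx3.pair3 (C : Cx3 K a ρ) {d : ℕ} (hd0 : 0 < d) (hda : d < a) (hx : TS ι 3 ρ 2 0 x) (hx0 : x ≠ 0)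
    (hy : TS ι 3 ρ 2 d y) (hy0 : y ≠ 0) : False := by
  have h9 := C.nine
  have h2 := two3 k
  obtain ⟨c0, T⟩ := C.tri hx hx0
  obtain ⟨d0, S⟩ := C.tri hy hy0
  obtain ⟨htr, -⟩ := S.trace h2
  have hux : ∀ t : K, ρ (Cfsg.Agent.H943.SL2Rel.u t) (sh (x 0)) =
      ∑ A ∈ Finset.range 5, (ι t) ^ A • ff (x 0) (x 1) (x 2) A := by
    intro t
    rw [C.act.sh, ts2_u0 hx, sh_line, pow_zero, pow_one]
  -- the last vector
  have hg4 : ∀ A ∈ Finset.range 5, A ≠ 0 → tf (ff (x 0) (x 1) (x 2) A) (sh (y 2)) = 0 := by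
    intro A hA hA0
    have h0 : ∀ t : K, ∑ j ∈ Finset.range 5, (ι t ^ 3 ^ 0) ^ j •
        (fun j : ℕ => if j = 0 then 0 else tf (ff (x 0) (x 1) (x 2) j) (sh (y 2))) j = 0 := by
      intro t
      have h1 := C.act.tf (Cfsg.Agent.H943.SL2Rel.u t) (sh (x 0)) (sh (y 2))
      rw [hux, C.act.sh, ts2_u2 hy, tf_sum_left, Finset.sum_range_succ'] at h1
      rw [Finset.sum_range_succ']
      simp only [pow_zero, one_smul, pow_one, if_true, add_zero, Nat.add_one_ne_zero, if_false, tf_smul_left,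
        smul_eq_mul] at h1 ⊢
      have h3 : tf (ff (x 0) (x 1) (x 2) 0) (sh (y 2)) = tf (sh (x 0)) (sh (y 2)) := rfl
      rw [h3] at h1
      linear_combination h1
    have h3 := poly0 ι (by omega : 5 ≤ Fintype.card K) 3 0 h0 A (Finset.mem_range.1 hA)
    simp only [if_neg hA0] at h3
    exact h3
  -- the middle vector
  let G : ℕ → I27 → k := fun B => if B = 0 then sh (y 1) else if B = 1 then cr (y 1) (y 2) else sh (y 2)
  have huy : ∀ t : K, ρ (Cfsg.Agent.H943.SL2Rel.u t) (sh (y 1)) =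
      ∑ B ∈ Finset.range 3, (ι t ^ 3 ^ d) ^ B • G B := by
    intro t
    rw [C.act.sh, ts2_u1 hy, sh_add, sh_smul, cr_smul_right]
    simp only [Finset.sum_range_succ, Finset.sum_range_zero, G]
    simp only [if_true, one_ne_zero, if_false, show (2 : ℕ) = 1 ↔ False by norm_num, show (2 : ℕ) = 0 ↔ False by norm_num]
    module
  let c : ℕ × ℕ → k := fun q => if q.2 = 2 ∧ q.1 ≠ 0 then 0 else if q = (0, 0) then 0 else
    tf (ff (x 0) (x 1) (x 2) q.1) (G q.2)
  let e : ℕ × ℕ → ℕ := fun q => if q.2 = 2 ∧ q.1 ≠ 0 then 0 else q.1 + q.2 * 3 ^ d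
  have h3d : 3 ≤ 3 ^ d := by
    calc 3 = 3 ^ 1 := by norm_num
      _ ≤ 3 ^ d := Nat.pow_le_pow_right (by norm_num) hd0
  have h3a : 3 * 3 ^ d ≤ Fintype.card K := by
    rw [C.card, mul_comm, ← pow_succ]
    exact Nat.pow_le_pow_right (by norm_num) hda
  have hpoly := polyF (V := k) (K := K) (ι := ι) 3 (Finset.range 5 ×ˢ Finset.range 3) e c (by
      rintro ⟨A, B⟩ hq
      rw [Finset.mem_product, Finset.mem_range, Finset.mem_range] at hq
      obtain ⟨hA, hB⟩ := hq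
      simp only at hA hB
      show (if B = 2 ∧ A ≠ 0 then 0 else A + B * 3 ^ d) < _
      split_ifs with h
      · omega
      · have hB' : B = 0 ∨ B = 1 ∨ B = 2 := by omega
        rcases hB' with rfl | rfl | rfl
        · omega
        · omega
        · have : A = 0 := by
            by_contra hA'
            exact h ⟨rfl, hA'⟩
          subst this
          omega) (by
      intro t
      have h1 := C.act.tf (Cfsg.Agent.H943.SL2Rel.u t) (sh (x 0)) (sh (y 1))
      rw [hux, huy] at h1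
      have h4 : ∑ q ∈ Finset.range 5 ×ˢ Finset.range 3, ι t ^ e q • c q =
          tf (∑ A ∈ Finset.range 5, (ι t) ^ A • ff (x 0) (x 1) (x 2) A) (∑ B ∈ Finset.range 3, (ι t ^ 3 ^ d) ^ B • G B) -
          tf (sh (x 0)) (sh (y 1)) := by
        rw [tf_sum_left]
        have h5 : ∀ A ∈ Finset.range 5, tf (ι t ^ A • ff (x 0) (x 1) (x 2) A) (∑ B ∈ Finset.range 3, (ι t ^ 3 ^ d) ^ B • G B) =
            ∑ B ∈ Finset.range 3, (ι t ^ A * (ι t ^ 3 ^ d) ^ B) * tf (ff (x 0) (x 1) (x 2) A) (G B) := by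
          intro A _
          rw [tf_comm, tf_sum_left]
          refine Finset.sum_congr rfl fun B _ => ?_
          rw [tf_smul_left, tf_smul_right, tf_comm]
          ring
        rw [Finset.sum_congr rfl h5, ← Finset.sum_product',
          ← Finset.add_sum_erase (Finset.range 5 ×ˢ Finset.range 3) (fun q : ℕ × ℕ => ι t ^ e q • c q)
          (a := ((0 : ℕ), (0 : ℕ))) (by decide),
          ← Finset.add_sum_erase (Finset.range 5 ×ˢ Finset.range 3) (fun q : ℕ × ℕ => ι t ^ q.1 * (ι t ^ 3 ^ d) ^ q.2 *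
          tf (ff (x 0) (x 1) (x 2) q.1) (G q.2)) (a := ((0 : ℕ), (0 : ℕ))) (by decide)]
        have h6 : ι t ^ e (0, 0) • c (0, 0) = 0 := by
          show _ • (if (0 : ℕ) = 2 ∧ (0 : ℕ) ≠ 0 then (0 : k) else if ((0 : ℕ), (0 : ℕ)) = (0, 0) then 0 else _) = 0
          rw [if_neg (by norm_num), if_pos rfl, smul_zero]
        have h7 : ι t ^ ((0 : ℕ), (0 : ℕ)).1 * (ι t ^ 3 ^ d) ^ ((0 : ℕ), (0 : ℕ)).2 *
            tf (ff (x 0) (x 1) (x 2) ((0 : ℕ), (0 : ℕ)).1) (G ((0 : ℕ), (0 : ℕ)).2) = tf (sh (x 0)) (sh (y 1)) := by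
          show ι t ^ 0 * (ι t ^ 3 ^ d) ^ 0 * tf (sh (x 0)) (if (0 : ℕ) = 0 then sh (y 1) else _) = _
          rw [if_pos rfl, pow_zero, pow_zero, one_mul, one_mul]
        rw [h6, h7, zero_add, add_sub_cancel_left]
        refine Finset.sum_congr rfl fun q hq => ?_
        obtain ⟨A, B⟩ := q
        rw [Finset.mem_erase, Finset.mem_product, Finset.mem_range, Finset.mem_range] at hq
        obtain ⟨hAB, hA, hB⟩ := hq
        simp only at hA hB
        show ι t ^ (if B = 2 ∧ A ≠ 0 then 0 else A + B * 3 ^ d) • (if B = 2 ∧ A ≠ 0 then (0 : k) else if (A, B) = (0, 0) then 0 else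
          tf (ff (x 0) (x 1) (x 2) A) (G B)) = ι t ^ A * (ι t ^ 3 ^ d) ^ B * tf (ff (x 0) (x 1) (x 2) A) (G B)
        by_cases h8 : B = 2 ∧ A ≠ 0
        · rw [if_pos h8, if_pos h8, smul_zero]
          obtain ⟨rfl, hA0⟩ := h8
          have h10 : G 2 = sh (y 2) := rfl
          rw [h10, hg4 A (Finset.mem_range.2 hA) hA0, mul_zero]
        · rw [if_neg h8, if_neg h8, if_neg hAB, smul_eq_mul, pow_add, pow_mul']
      rw [h4, h1, sub_self]) 2
  have hfil : (Finset.range 5 ×ˢ Finset.range 3).filter (fun q => e q = 2) = {(2, 0)} := by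
    ext ⟨A, B⟩
    rw [Finset.mem_filter, Finset.mem_product, Finset.mem_range, Finset.mem_range, Finset.mem_singleton]
    show ((A < 5 ∧ B < 3) ∧ (if B = 2 ∧ A ≠ 0 then 0 else A + B * 3 ^ d) = 2) ↔ (A, B) = (2, 0)
    constructor
    · rintro ⟨⟨hA, hB⟩, h⟩
      have hB' : B = 0 ∨ B = 1 ∨ B = 2 := by omega
      rcases hB' with rfl | rfl | rfl
      · rw [if_neg (by omega)] at h
        have : A = 2 := by omega
        rw [this]
      · rw [if_neg (by omega)] at h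
        omega
      · split_ifs at h with h8
        omega
    · intro h
      obtain ⟨rfl, rfl⟩ := Prod.mk.inj h
      refine ⟨⟨by norm_num, by norm_num⟩, ?_⟩
      rw [if_neg (by omega)]
      omega
  rw [hfil, Finset.sum_singleton] at hpoly
  have h5 : tf (ff (x 0) (x 1) (x 2) 2) (sh (y 1)) = 0 := hpoly
  have h6 : ff (x 0) (x 1) (x 2) 2 = c0 • u0 k := by
    show cr (x 0) (x 2) + (4 : k) • sh (x 1) = _
    rw [T.w]
    have h3 := three0 k
    have : (6 : k) • sh (x 1) = 0 := by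
      rw [show (6 : k) = 3 * 2 by norm_num, h3, zero_mul, zero_smul]
    calc c0 • u0 k + (2 : k) • sh (x 1) + (4 : k) • sh (x 1) = c0 • u0 k + (6 : k) • sh (x 1) := by module
      _ = _ := by rw [this, add_zero]
  rw [h6, tf_smul_left, tf_u0] at h5
  have h7 := (mul_eq_zero.1 h5).resolve_left T.ne
  rw [h7, mul_zero, add_zero] at htr
  exact S.ne htr

end Gen

section cfg

variable {F : Type u} [Field F] [Fintype F] {K : Type v} [Field K] [Fintype K] [DecidableEq K] {a b : ℕ}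
variable {H : Subgroup ↥(chevF4.group F)} {φ : ProjectiveSpecialLinearGroup (Fin 2) K →* ↥(chevF4.group F)}
variable {k : Type u} [Field k] [DecidableEq k] {f : F →+* k} {ι : K →+* k} [CharP k 3] [CharP K 3]
variable [IsAlgClosed k]

/-- **no submodules `V_{2 3^i}`** -/
theorem no3 (hc : Cfg 3 a b H φ) (C : Cx3 K a (Rk f φ)) {i : ℕ} (hi : i < a) {z : ℕ → I27 → k}
    (hz : TS ι 3 (Rk f φ) 2 i z) : z = 0 := by
  by_contra hz0
  have hb := C.lt_card hi
  obtain ⟨c0, T⟩ := C.tri hz hz0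
  have hmem : ∀ v ∈ Submodule.span k (Set.range z), ∃ α β γ : k, v = α • z 0 + β • z 1 + γ • z 2 := by
    intro v hv
    obtain ⟨c, rfl⟩ := hz.mem_span hv
    exact ⟨c 0, c 1, c 2, by simp [Finset.sum_range_succ]⟩
  have hm : ∀ s, z s ∈ Submodule.span k (Set.range z) := fun s => Submodule.subset_span ⟨s, rfl⟩
  have hcm : ∀ α β γ : k, α • z 0 + β • z 1 + γ • z 2 ∈ Submodule.span k (Set.range z) := fun α β γ =>
    Submodule.add_mem _ (Submodule.add_mem _ (Submodule.smul_mem _ _ (hm 0)) (Submodule.smul_mem _ _ (hm 1)))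
      (Submodule.smul_mem _ _ (hm 2))
  have hU : Uq f φ (Submodule.span k (Set.range z)) := by
    refine ⟨ir_of hz hz0 (by norm_num) (by norm_num) hb, fun Y hY hdim => ?_⟩
    rw [fin_of hz hz0 (by norm_num) (by norm_num) hb hc.cardK] at hdim
    obtain ⟨c, hcV, hcd⟩ := isV_of_ir (p := 3) (ι := ι) hc hY
    rw [hdim] at hcd
    obtain ⟨-, l, rfl⟩ := (card_cases k 3 (by omega) c).2.2.1 hcd.symm
    obtain ⟨x, hx, hYx, hne'⟩ := tuple_of_isV (by norm_num : 2 < 3) hcV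
    have hl : l < a := pos_lt hc (by norm_num) hcV.choose
    have hx0 : x ≠ 0 := fun h => hne' 0 (by norm_num) (by rw [h]; rfl)
    by_cases hil : i = l
    · subst hil
      obtain ⟨d, hd⟩ := C.uniq3 hz hz0 hx
      have hd0 : d ≠ 0 := by
        rintro rfl
        apply hx0
        rw [hd, zero_smul]
      rw [hYx, hd]
      apply le_antisymm
      · rw [Submodule.span_le]
        rintro _ ⟨s, rfl⟩
        exact Submodule.smul_mem _ _ (Submodule.subset_span ⟨s, rfl⟩)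
      · rw [Submodule.span_le]
        rintro _ ⟨s, rfl⟩
        have h5 : z s = d⁻¹ • (d • z) s := by
          show z s = d⁻¹ • d • z s
          rw [smul_smul, inv_mul_cancel₀ hd0, one_smul]
        rw [h5]
        exact Submodule.smul_mem _ _ (Submodule.subset_span ⟨s, rfl⟩)
    · exfalso
      have hF : Fintype.card K = 3 ^ a := hc.cardK
      have e1 : (i + (a - i + l) % a) % a = l % a := by
        rw [Nat.add_mod_mod, show i + (a - i + l) = a + l by omega, Nat.add_mod_left]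
      have hz' := TS_twist (l := i) (i' := 0) hF (by rw [add_zero]) hz
      have hx' := TS_twist (l := i) (i' := (a - i + l) % a) hF e1 hx
      refine C.pair3 (d := (a - i + l) % a) ?_ (Nat.mod_lt _ (by omega)) hz' hz0 hx' hx0
      rw [Nat.pos_iff_ne_zero]
      intro h0
      rw [h0, add_zero, Nat.mod_eq_of_lt hi, Nat.mod_eq_of_lt hl] at e1
      exact hil e1
  refine sub6 (f := f) hc (by norm_num) (i := i) (ι := ι) (x0 := z 0) (x1 := z 1) (x2 := z 2) ⟨fun t α β γ => ?_, fun α β γ => ?_⟩ T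
    (fun g hg v hv => ?_) (fun s hs hsur v hv => ?_)
  · rw [C.act.sh, ts_u hz]
  · rw [C.act.sh, ts_w hz]
  · have h1 : Usp (z 0) (z 1) (z 2) ≤ (Usp (z 0) (z 1) (z 2)).comap (Jr k (emb hF4 f g)) := by
      refine Submodule.span_le.2 ?_
      rintro _ ⟨α, β, γ, rfl⟩
      show Jr k (emb hF4 f g) _ ∈ Usp (z 0) (z 1) (z 2)
      rw [← Jr_sh]
      obtain ⟨α', β', γ', h5⟩ := hmem _ (hU.mem hc hg (hcm α β γ))
      rw [h5]
      exact mem_Usp _ _ _ _ _ _
    exact h1 hv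
  · unfold Usp at hv
    induction hv using Submodule.span_induction with
    | mem v hv =>
      obtain ⟨α, β, γ, rfl⟩ := hv
      have h5 : sm s (sh (α • z 0 + β • z 1 + γ • z 2)) = sh (sm s (α • z 0 + β • z 1 + γ • z 2)) := (map_sh s _).symm
      rw [h5]
      obtain ⟨α', β', γ', h6⟩ := hmem _ (hU.sm_mem hs hsur (hcm α β γ))
      rw [h6]
      exact mem_Usp _ _ _ _ _ _
    | zero =>
      rw [sm_zero]
      exact Submodule.zero_mem _
    | add v w _ _ hv hw =>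
      rw [sm_add]
      exact Submodule.add_mem _ hv hw
    | smul c v _ hv =>
      rw [sm_smul]
      exact Submodule.smul_mem _ _ hv

end cfg

end Cfsg.Agent.R2.F4P.Th
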