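import Cfsg.Agent.R2.F4L.Act

/-!
# Triples of vectors with vanishing norm (helper20, S5931)

`Tri x0 x1 x2 c0` : the norm vanishes on the span, `x0 × x2 = c0 1 + 2 x1^#`, `c0 ≠ 0`; `Tri.closure` : generation.
-/

set_option autoImplicit false
set_option linter.unusedSectionVars false

namespace Cfsg.Agent.R2.F4P.Th

open Cfsg.Lie
open Cfsg.Agent.ChevalleyStructure.E6Min.Tables Cfsg.Agent.ChevalleyStructure.E6Min.Basic
open Cfsg.Agent.H952.F4 (sh cr tf tr1 u0)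
open Cfsg.Agent.H952.F4.Jord
open Cfsg.Agent.R2.F4L

universe u v w

variable {k : Type u} [Field k]

/-- the vanishing of the norm, in coordinates -/
structure Nz (x0 x1 x2 : I27 → k) : Prop where
  n0 : cubicT x0 = 0
  n1 : cubicT x1 = 0
  n2 : cubicT x2 = 0
  t01 : tf (sh x0) x1 = 0
  t02 : tf (sh x0) x2 = 0
  t10 : tf (sh x1) x0 = 0
  t12 : tf (sh x1) x2 = 0
  t20 : tf (sh x2) x0 = 0
  t21 : tf (sh x2) x1 = 0
  t012 : tf (cr x0 x1) x2 = 0

theorem cubic_aux (h2 : (2 : k) ≠ 0) {t : k} (ht : t ≠ 0) (ht2 : t ^ 2 ≠ 1) {A B C D : k}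
    (h : ∀ b : k, A + b * B + b ^ 2 * C + b ^ 3 * D = 0) : A = 0 ∧ B = 0 ∧ C = 0 ∧ D = 0 := by
  have h0 := h 0
  have hA : A = 0 := by linear_combination h0
  have h1 := h 1
  have h3 := h (-1)
  have h4 := h t
  have hC : C = 0 := by
    have : (2 : k) * C = 0 := by linear_combination h1 + h3 - 2 * hA
    exact (mul_eq_zero.1 this).resolve_left h2
  have hBD : B + D = 0 := by linear_combination h1 - hA - hC
  have hD : D = 0 := by
    have : t * (t ^ 2 - 1) * D = 0 := by linear_combination h4 - hA - t ^ 2 * hC - t * hBD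
    rcases mul_eq_zero.1 this with h5 | h5
    · rcases mul_eq_zero.1 h5 with h6 | h6
      · exact absurd h6 ht
      · exact absurd (sub_eq_zero.1 h6) ht2
    · exact h5
  exact ⟨hA, by linear_combination hBD - hD, hC, hD⟩

theorem Nz.of_N {x0 x1 x2 : I27 → k} (h2 : (2 : k) ≠ 0) {t : k} (ht : t ≠ 0) (ht2 : t ^ 2 ≠ 1)
    (h : ∀ a b c : k, cubicT (a • x0 + b • x1 + c • x2) = 0) : Nz x0 x1 x2 := by
  have h' : ∀ a b c : k, a ^ 3 * cubicT x0 + b ^ 3 * cubicT x1 + c ^ 3 * cubicT x2 +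
    a ^ 2 * b * tf (sh x0) x1 + a ^ 2 * c * tf (sh x0) x2 +
    a * b ^ 2 * tf (sh x1) x0 + b ^ 2 * c * tf (sh x1) x2 +
    a * c ^ 2 * tf (sh x2) x0 + b * c ^ 2 * tf (sh x2) x1 +
    a * b * c * tf (cr x0 x1) x2 = 0 := fun a b c => by rw [← N_lin3]; exact h a b c
  obtain ⟨e1, e2, e3, e4⟩ := cubic_aux h2 ht ht2 (A := cubicT x0) (B := tf (sh x0) x1) (C := tf (sh x1) x0)
    (D := cubicT x1) (fun b => by linear_combination h' 1 b 0)
  obtain ⟨-, e5, e6, e7⟩ := cubic_aux h2 ht ht2 (A := cubicT x0) (B := tf (sh x0) x2) (C := tf (sh x2) x0)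
    (D := cubicT x2) (fun b => by linear_combination h' 1 0 b)
  obtain ⟨-, e8, e9, -⟩ := cubic_aux h2 ht ht2 (A := cubicT x1) (B := tf (sh x1) x2) (C := tf (sh x2) x1)
    (D := cubicT x2) (fun b => by linear_combination h' 0 1 b)
  refine ⟨e1, e4, e7, e2, e5, e3, e8, e6, e9, ?_⟩
  linear_combination h' 1 1 1 - e1 - e2 - e3 - e4 - e5 - e6 - e7 - e8 - e9

/-- triples -/
structure Tri (x0 x1 x2 : I27 → k) (c0 : k) : Prop extends Nz x0 x1 x2 where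
  ne : c0 ≠ 0
  w : cr x0 x2 = c0 • u0 k + (2 : k) • sh x1
  r0 : tr1 (sh x0) = 0
  r1 : tr1 (cr x0 x1) = 0
  r3 : tr1 (cr x1 x2) = 0
  r4 : tr1 (sh x2) = 0

variable {x0 x1 x2 : I27 → k} {c0 : k}

theorem Tri.symm (T : Tri x0 x1 x2 c0) : Tri x2 x1 x0 c0 where
  n0 := T.n2
  n1 := T.n1
  n2 := T.n0
  t01 := T.t21
  t02 := T.t20
  t10 := T.t12
  t12 := T.t10
  t20 := T.t02
  t21 := T.t01
  t012 := by rw [tf_comm, ← tf_cr, tf_comm, cr_comm, tf_comm]; rw [← T.t012, tf_cr, tf_comm, cr_comm]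
  ne := T.ne
  w := by rw [cr_comm, T.w]
  r0 := T.r4
  r1 := by rw [cr_comm]; exact T.r3
  r3 := by rw [cr_comm]; exact T.r1
  r4 := T.r0

theorem Tri.sh0 (T : Tri x0 x1 x2 c0) : sh (sh x0) = 0 := by rw [sh_sh, T.n0, zero_smul]

theorem Tri.sh1 (T : Tri x0 x1 x2 c0) : sh (sh x1) = 0 := by rw [sh_sh, T.n1, zero_smul]

theorem Tri.sh4 (T : Tri x0 x1 x2 c0) : sh (sh x2) = 0 := by rw [sh_sh, T.n2, zero_smul]

theorem Tri.e0 (T : Tri x0 x1 x2 c0) : (2 : k) • cr (sh x0) (sh x1) = c0 • sh x0 := by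
  have h1 := cr_sh_cr x0 x2
  rw [T.n0, T.t02, zero_smul, zero_smul, add_zero, T.w, cr_add_right, cr_smul_right, cr_smul_right, cr_comm (sh x0) (u0 k),
    cr_u0, T.r0] at h1
  have h3 : (2 : k) • cr (sh x0) (sh x1) - c0 • sh x0 = c0 • ((0 : k) • u0 k - sh x0) + (2 : k) • cr (sh x0) (sh x1) := by
    module
  rw [h1] at h3
  exact sub_eq_zero.1 h3

theorem Tri.e4 (T : Tri x0 x1 x2 c0) : (2 : k) • cr (sh x2) (sh x1) = c0 • sh x2 := T.symm.e0

/-- the trace of `x1^#` -/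
theorem Tri.trace (T : Tri x0 x1 x2 c0) (h2 : (2 : k) ≠ 0) : c0 + 2 * tr1 (sh x1) = 0 ∧
    cr (sh x0) (sh x2) = (2 * c0) • sh x1 := by
  set β := c0 * (c0 + 2 * tr1 (sh x1)) with hβ
  have key : cr (sh x0) (sh x2) = (2 * c0) • sh x1 + (-β) • u0 k := by
    have h1 := sh_cr x0 x2
    rw [T.t02, tf_comm x0 (sh x2), T.t20, zero_smul, zero_smul, add_zero, T.w, sh_add, sh_smul, sh_smul, sh_u0, T.sh1,
      cr_smul_left, cr_smul_right, cr_u0] at h1
    have h3 : cr (sh x0) (sh x2) - ((2 * c0) • sh x1 + (-β) • u0 k) =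
        c0 ^ 2 • u0 k + (2 : k) ^ 2 • (0 : I27 → k) + c0 • (2 : k) • (tr1 (sh x1) • u0 k - sh x1) + cr (sh x0) (sh x2) := by
      rw [hβ]; module
    rw [h1] at h3
    exact sub_eq_zero.1 h3
  have hsh : sh (cr (sh x0) (sh x2)) = 0 := by
    have h1 := sh_cr (sh x0) (sh x2)
    rw [T.sh0, T.sh4, cr_zero_left, add_zero] at h1
    rw [h1, tf_zero_left, tf_comm, tf_zero_left, zero_smul, zero_smul, add_zero]
  have hβ0 : β = 0 := by
    by_contra hne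
    rw [key, sh_add, sh_smul, sh_smul, sh_u0, T.sh1, cr_smul_left, cr_smul_right, cr_comm, cr_u0] at hsh
    -- `Θ` is a multiple of the unit
    have h1 : (2 * c0 * β) • sh x1 = (2 * c0 * β * tr1 (sh x1) - β ^ 2) • u0 k := by
      have h3 : (2 * c0 * β) • sh x1 - (2 * c0 * β * tr1 (sh x1) - β ^ 2) • u0 k =
          (2 * c0) ^ 2 • (0 : I27 → k) + (-β) ^ 2 • u0 k + (2 * c0) • (-β) • (tr1 (sh x1) • u0 k - sh x1) := by module
      rw [hsh] at h3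
      exact sub_eq_zero.1 h3
    have h3 := congrArg sh h1
    rw [sh_smul, sh_smul, T.sh1, smul_zero, sh_u0] at h3
    have h4 : 2 * c0 * β * tr1 (sh x1) - β ^ 2 = 0 := by
      have := (smul_eq_zero.1 h3.symm).resolve_right u0_ne
      exact pow_eq_zero_iff (by norm_num) |>.1 this
    rw [h4, zero_smul] at h1
    have h5 : sh x1 = 0 := (smul_eq_zero.1 h1).resolve_left (mul_ne_zero (mul_ne_zero h2 T.ne) hne)
    rw [h5, tr1_zero, mul_zero, zero_sub, neg_eq_zero] at h4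
    exact hne (pow_eq_zero_iff (by norm_num) |>.1 h4)
  refine ⟨(mul_eq_zero.1 hβ0).resolve_left T.ne, ?_⟩
  rw [key, hβ0, neg_zero, zero_smul, add_zero]

theorem Tri.z1 (T : Tri x0 x1 x2 c0) : cr (sh x1) (cr x0 x1) = 0 := by
  rw [cr_comm x0 x1, cr_sh_cr, T.n1, T.t10, zero_smul, zero_smul, add_zero]

theorem Tri.z3 (T : Tri x0 x1 x2 c0) : cr (sh x1) (cr x1 x2) = 0 := by
  rw [cr_sh_cr, T.n1, T.t12, zero_smul, zero_smul, add_zero]

theorem Tri.z34 (T : Tri x0 x1 x2 c0) : cr (sh x2) (cr x1 x2) = 0 := by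
  rw [cr_comm x1 x2, cr_sh_cr, T.n2, T.t21, zero_smul, zero_smul, add_zero]

theorem Tri.e14 (T : Tri x0 x1 x2 c0) : cr (sh x2) (cr x0 x1) = c0 • cr x1 x2 := by
  have h1 := cr_cr x2 x0 x1
  rw [T.t20, T.t21, zero_smul, zero_smul, add_zero, zero_add, tf_comm, T.t012, zero_smul, cr_comm x2 x0, T.w,
    cr_comm x2 x1, cr_add_left, cr_smul_left, cr_smul_left, cr_u0, T.r3, T.z3] at h1
  have h3 : cr (sh x2) (cr x0 x1) - c0 • cr x1 x2 =
      c0 • ((0 : k) • u0 k - cr x1 x2) + (2 : k) • (0 : I27 → k) + cr (sh x2) (cr x0 x1) := by module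
  rw [h1] at h3
  exact sub_eq_zero.1 h3

theorem Tri.f1 (T : Tri x0 x1 x2 c0) : sh (x0 + (2 : k) • x1 + x2) =
    sh x0 + sh x2 + (6 : k) • sh x1 + c0 • u0 k + (2 : k) • cr x0 x1 + (2 : k) • cr x1 x2 := by
  rw [sh_add3, sh_smul, cr_smul_left, cr_smul_right, T.w]
  module

/-- **generation** -/
theorem Tri.closure (T : Tri x0 x1 x2 c0) (h2 : (2 : k) ≠ 0) {S : Submodule k (I27 → k)} (hu : u0 k ∈ S)
    (hcr : ∀ a ∈ S, ∀ b ∈ S, cr a b ∈ S) (ha : sh (x0 + (2 : k) • x1 + x2) ∈ S) (hb : sh x2 - sh x0 ∈ S) :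
    sh x0 ∈ S ∧ sh x1 ∈ S ∧ sh x2 ∈ S ∧ cr x0 x1 ∈ S ∧ cr x1 x2 ∈ S := by
  have can : ∀ {c : k} {x : I27 → k}, c ≠ 0 → c • x ∈ S → x ∈ S := fun {c x} hc hx => by
    have := S.smul_mem c⁻¹ hx
    rwa [smul_smul, inv_mul_cancel₀ hc, one_smul] at this
  obtain ⟨htr, h04⟩ := T.trace h2
  have hΘ : sh x1 ∈ S := by
    have h3 := hcr _ hb _ hb
    have h4 : cr (sh x2 - sh x0) (sh x2 - sh x0) = (-(2 * (2 * c0))) • sh x1 := by
      rw [cr_self, sub_eq_add_neg, show -sh x0 = (-1 : k) • sh x0 by rw [neg_one_smul], sh_add, sh_smul, T.sh0, T.sh4,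
        cr_smul_right, cr_comm, h04]
      module
    rw [h4] at h3
    exact can (neg_ne_zero.2 (mul_ne_zero h2 (mul_ne_zero h2 T.ne))) h3
  have hh : sh x0 + sh x2 + (2 : k) • cr x0 x1 + (2 : k) • cr x1 x2 ∈ S := by
    have h3 := S.sub_mem (S.sub_mem ha (S.smul_mem (6 : k) hΘ)) (S.smul_mem c0 hu)
    rw [T.f1] at h3
    have h4 : sh x0 + sh x2 + (6 : k) • sh x1 + c0 • u0 k + (2 : k) • cr x0 x1 + (2 : k) • cr x1 x2 - (6 : k) • sh x1 -
        c0 • u0 k = sh x0 + sh x2 + (2 : k) • cr x0 x1 + (2 : k) • cr x1 x2 := by module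
    rwa [h4] at h3
  have hs : sh x0 + sh x2 ∈ S := by
    have h3 := S.smul_mem (2 : k) (hcr _ hh _ hΘ)
    have h4 : (2 : k) • cr (sh x0 + sh x2 + (2 : k) • cr x0 x1 + (2 : k) • cr x1 x2) (sh x1) = c0 • (sh x0 + sh x2) := by
      rw [cr_add_left, cr_add_left, cr_add_left, cr_smul_left, cr_smul_left, cr_comm (cr x0 x1), cr_comm (cr x1 x2),
        T.z1, T.z3, smul_zero, add_zero, add_zero, smul_add, T.e0, T.e4, smul_add]
    rw [h4] at h3
    exact can T.ne h3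
  have h4 : sh x2 ∈ S := by
    have h3 := S.add_mem hs hb
    have h5 : sh x0 + sh x2 + (sh x2 - sh x0) = (2 : k) • sh x2 := by module
    rw [h5] at h3
    exact can h2 h3
  have h0 : sh x0 ∈ S := by
    have h3 := S.sub_mem hs h4
    rwa [add_sub_cancel_right] at h3
  have h13 : cr x0 x1 + cr x1 x2 ∈ S := by
    have h3 := S.sub_mem hh hs
    have h5 : sh x0 + sh x2 + (2 : k) • cr x0 x1 + (2 : k) • cr x1 x2 - (sh x0 + sh x2) =
        (2 : k) • (cr x0 x1 + cr x1 x2) := by module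
    rw [h5] at h3
    exact can h2 h3
  have h3 : cr x1 x2 ∈ S := by
    have h5 := hcr _ h4 _ h13
    rw [cr_add_right, T.e14, T.z34, add_zero] at h5
    exact can T.ne h5
  have h1 : cr x0 x1 ∈ S := by
    have h5 := S.sub_mem h13 h3
    rwa [add_sub_cancel_right] at h5
  exact ⟨h0, hΘ, h4, h1, h3⟩

end Cfsg.Agent.R2.F4P.Th
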