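import Cfsg.Agent.R2.F4L.SubC
import Cfsg.Agent.R2.F4P.Th.Tri
import Cfsg.Agent.R2.F4P.Id

/-!
# SUB6, all odd characteristics (helper20, S5931)

`sub6` : the span of the adjoints of the combinations of a triple (`Tri`) is not stable under `H` and the Frobenius map.
-/

set_option autoImplicit false
set_option linter.unusedSectionVars false
set_option linter.unusedVariables false

namespace Cfsg.Agent.R2.F4P.Th

open Cfsg Cfsg.Lie Module Matrix
open Cfsg.Agent.ChevalleyStructure.E6Min.Basic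
open Cfsg.Agent.H952.F4 Cfsg.Agent.H952.F4.Jord
open Cfsg.Agent.H952.F4.FixV (W0 mem_W0 finrank_W0 u0_ne_zero tr1_eq)
open Cfsg.Agent.R2.H9.E6
open Cfsg.Agent.GpExc.Field (emb)
open Cfsg.Agent.R2.H28.SL2 Cfsg.Agent.H943.RepAdd
open Cfsg.Agent.R2.F4M Cfsg.Agent.R2.F4N Cfsg.Agent.R2.F4L

universe u v w

variable {k : Type u} [Field k]

/-- the span of the adjoints -/
def Usp (x0 x1 x2 : I27 → k) : Submodule k (I27 → k) :=
  Submodule.span k {v | ∃ a b c : k, v = sh (a • x0 + b • x1 + c • x2)}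

theorem mem_Usp (x0 x1 x2 : I27 → k) (a b c : k) : sh (a • x0 + b • x1 + c • x2) ∈ Usp x0 x1 x2 :=
  Submodule.subset_span ⟨a, b, c, rfl⟩

section

variable {x0 x1 x2 : I27 → k} {c0 : k}

theorem mem0 : sh x0 ∈ Usp x0 x1 x2 := by
  have := mem_Usp x0 x1 x2 1 0 0
  rwa [one_smul, zero_smul, zero_smul, add_zero, add_zero] at this

theorem mem2 : sh x2 ∈ Usp x0 x1 x2 := by
  have := mem_Usp x0 x1 x2 0 0 1
  rwa [one_smul, zero_smul, zero_smul, zero_add, zero_add] at this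

theorem Tri.sh_comb (T : Tri x0 x1 x2 c0) (a b c : k) : sh (a • x0 + b • x1 + c • x2) =
    a ^ 2 • sh x0 + (b ^ 2 + 2 * a * c) • sh x1 + c ^ 2 • sh x2 + (a * b) • cr x0 x1 + (b * c) • cr x1 x2 +
      (a * c * c0) • u0 k := by
  rw [sh_add3]
  simp only [sh_smul, cr_smul_left, cr_smul_right, T.w]
  module

/-- the elements of the span -/
theorem Tri.mem_U (T : Tri x0 x1 x2 c0) {v : I27 → k} (hv : v ∈ Usp x0 x1 x2) : ∃ α β γ δ ε ζ : k,
    v = α • sh x0 + β • cr x0 x1 + γ • sh x1 + δ • u0 k + ε • cr x1 x2 + ζ • sh x2 := by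
  unfold Usp at hv
  induction hv using Submodule.span_induction with
  | mem v hv =>
    obtain ⟨a, b, c, rfl⟩ := hv
    refine ⟨a ^ 2, a * b, b ^ 2 + 2 * a * c, a * c * c0, b * c, c ^ 2, ?_⟩
    rw [T.sh_comb]
    module
  | zero => exact ⟨0, 0, 0, 0, 0, 0, by module⟩
  | add v w _ _ hv hw =>
    obtain ⟨a1, a2, a3, a4, a5, a6, rfl⟩ := hv
    obtain ⟨b1, b2, b3, b4, b5, b6, rfl⟩ := hw
    exact ⟨a1 + b1, a2 + b2, a3 + b3, a4 + b4, a5 + b5, a6 + b6, by module⟩
  | smul c v _ hv =>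
    obtain ⟨a1, a2, a3, a4, a5, a6, rfl⟩ := hv
    exact ⟨c * a1, c * a2, c * a3, c * a4, c * a5, c * a6, by module⟩

theorem Tri.f4_ne (T : Tri x0 x1 x2 c0) (h2 : (2 : k) ≠ 0) : sh x2 ≠ 0 := by
  intro h
  obtain ⟨h3, h4⟩ := T.trace h2
  rw [h, cr_zero_right] at h4
  have h5 : sh x1 = 0 := (smul_eq_zero.1 h4.symm).resolve_left (mul_ne_zero h2 T.ne)
  rw [h5, tr1_zero, mul_zero, add_zero] at h3
  exact T.ne h3

/-- the dimension -/
theorem Tri.U_le (T : Tri x0 x1 x2 c0) : Usp x0 x1 x2 ≤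
    Submodule.span k (Set.range ![sh x0, cr x0 x1, sh x1, u0 k, cr x1 x2, sh x2]) := by
  intro v hv
  obtain ⟨a1, a2, a3, a4, a5, a6, rfl⟩ := T.mem_U hv
  have hm : ∀ i, (![sh x0, cr x0 x1, sh x1, u0 k, cr x1 x2, sh x2] : Fin 6 → I27 → k) i ∈
      Submodule.span k (Set.range ![sh x0, cr x0 x1, sh x1, u0 k, cr x1 x2, sh x2]) :=
    fun i => Submodule.subset_span ⟨i, rfl⟩
  exact Submodule.add_mem _ (Submodule.add_mem _ (Submodule.add_mem _ (Submodule.add_mem _ (Submodule.add_mem _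
    (Submodule.smul_mem _ _ (hm 0)) (Submodule.smul_mem _ _ (hm 1))) (Submodule.smul_mem _ _ (hm 2)))
    (Submodule.smul_mem _ _ (hm 3))) (Submodule.smul_mem _ _ (hm 4))) (Submodule.smul_mem _ _ (hm 5))

theorem Tri.finrank_le (T : Tri x0 x1 x2 c0) : finrank k (Usp x0 x1 x2) ≤ 6 := by
  refine (Submodule.finrank_mono T.U_le).trans ?_
  refine (finrank_range_le_card _).trans ?_
  simp

end

/-- seven coordinates off the diagonal -/
def off (i : Fin 7) : I27 := ![(1, 0, 0), (1, 0, 1), (1, 0, 2), (1, 1, 0), (1, 1, 1), (1, 1, 2), (1, 2, 0)] i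

theorem off_inj : Function.Injective off := by decide

/-- a small subspace does not contain the rational vectors of trace zero -/
theorem not_W0_le {F : Type u} [Field F] [Fintype F] (f : F →+* k) {U : Submodule k (I27 → k)} (hU : finrank k U ≤ 6) :
    ¬ W0 F ≤ dn f U := by
  intro h
  have h1 : ∀ i : Fin 7, (Pi.single (off i) (1 : k) : I27 → k) ∈ U := by
    intro i
    have h2 : (Pi.single (off i) (1 : F) : I27 → F) ∈ W0 F := by
      rw [mem_W0, tr1_eq]
      fin_cases i <;> simp [off]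
    have h3 := h h2
    rw [mem_dn] at h3
    have h4 : (fun l => f ((Pi.single (off i) (1 : F) : I27 → F) l)) = Pi.single (off i) (1 : k) := by
      funext l
      by_cases hl : l = off i
      · subst hl
        simp
      · simp [Pi.single_eq_of_ne hl]
    rwa [h4] at h3
  have h2 : LinearIndependent k (fun i : Fin 7 => (⟨Pi.single (off i) (1 : k), h1 i⟩ : U)) := by
    apply LinearIndependent.of_comp U.subtype
    have h3 := (Pi.basisFun k I27).linearIndependent.comp off off_inj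
    convert h3 using 1
    funext i
    simp
  have h3 := h2.fintype_card_le_finrank
  rw [Fintype.card_fin] at h3
  omega

variable {F : Type u} [Field F] [Fintype F] {K : Type v} [Field K] [Fintype K] [DecidableEq K] {p a b : ℕ}
variable {H : Subgroup ↥(chevF4.group F)} {φ : ProjectiveSpecialLinearGroup (Fin 2) K →* ↥(chevF4.group F)}
variable [DecidableEq k] {f : F →+* k} {ι : K →+* k} [Fact p.Prime] [CharP k p] [CharP K p]
variable {x0 x1 x2 : I27 → k} {c0 : k}

/-- the action of the unipotent elements on the adjoints of a triple -/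
structure TriA (f : F →+* k) (φ : ProjectiveSpecialLinearGroup (Fin 2) K →* ↥(chevF4.group F)) (ι : K →+* k) (p i : ℕ)
    (x0 x1 x2 : I27 → k) : Prop where
  u : ∀ (t : K) (a b c : k), Rk f φ (Cfsg.Agent.H943.SL2Rel.u t) (sh (a • x0 + b • x1 + c • x2)) =
    sh (a • x0 + (2 * a * (ι t ^ p ^ i) + b) • x1 + (a * (ι t ^ p ^ i) ^ 2 + b * (ι t ^ p ^ i) + c) • x2)
  w : ∀ (a b c : k), Rk f φ Cfsg.Agent.H943.SL2Rel.w (sh (a • x0 + b • x1 + c • x2)) = sh (c • x0 + (-b) • x1 + a • x2)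

section

variable {i : ℕ}

theorem TriA.u0' (A : TriA f φ ι p i x0 x1 x2) (t : K) : Rk f φ (Cfsg.Agent.H943.SL2Rel.u t) (sh x0) =
    sh (x0 + (2 * (ι t ^ p ^ i)) • x1 + (ι t ^ p ^ i) ^ 2 • x2) := by
  have := A.u t 1 0 0
  rw [one_smul, zero_smul, zero_smul, add_zero, add_zero] at this
  rw [this]
  congr 1
  module

theorem TriA.u1' (A : TriA f φ ι p i x0 x1 x2) (t : K) : Rk f φ (Cfsg.Agent.H943.SL2Rel.u t) (sh x1) =
    sh (x1 + (ι t ^ p ^ i) • x2) := by
  have := A.u t 0 1 0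
  rw [one_smul, zero_smul, zero_smul, add_zero, zero_add] at this
  rw [this]
  congr 1
  module

theorem TriA.u2' (A : TriA f φ ι p i x0 x1 x2) (t : K) : Rk f φ (Cfsg.Agent.H943.SL2Rel.u t) (sh x2) = sh x2 := by
  have := A.u t 0 0 1
  rw [one_smul, zero_smul, zero_smul, zero_add, zero_add] at this
  rw [this]
  congr 1
  module

theorem TriA.u01 (A : TriA f φ ι p i x0 x1 x2) (t : K) : Rk f φ (Cfsg.Agent.H943.SL2Rel.u t) (cr x0 x1) =
    cr (x0 + (2 * (ι t ^ p ^ i)) • x1 + (ι t ^ p ^ i) ^ 2 • x2) (x1 + (ι t ^ p ^ i) • x2) := by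
  have h1 := A.u t 1 1 0
  have e1 : (1 : k) • x0 + (1 : k) • x1 + (0 : k) • x2 = x0 + x1 := by module
  have e2 : (1 : k) • x0 + (2 * 1 * (ι t ^ p ^ i) + 1) • x1 + (1 * (ι t ^ p ^ i) ^ 2 + 1 * (ι t ^ p ^ i) + 0) • x2 =
      (x0 + (2 * (ι t ^ p ^ i)) • x1 + (ι t ^ p ^ i) ^ 2 • x2) + (x1 + (ι t ^ p ^ i) • x2) := by module
  rw [e1, e2, sh_add x0 x1, map_add, map_add, A.u0', A.u1', sh_add (x0 + _ + _) (x1 + _)] at h1
  exact add_left_cancel h1

theorem TriA.u12 (A : TriA f φ ι p i x0 x1 x2) (t : K) : Rk f φ (Cfsg.Agent.H943.SL2Rel.u t) (cr x1 x2) =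
    cr (x1 + (ι t ^ p ^ i) • x2) x2 := by
  have h1 := A.u t 0 1 1
  have e1 : (0 : k) • x0 + (1 : k) • x1 + (1 : k) • x2 = x1 + x2 := by module
  have e2 : (0 : k) • x0 + (2 * 0 * (ι t ^ p ^ i) + 1) • x1 + (0 * (ι t ^ p ^ i) ^ 2 + 1 * (ι t ^ p ^ i) + 1) • x2 =
      (x1 + (ι t ^ p ^ i) • x2) + x2 := by module
  rw [e1, e2, sh_add x1 x2, map_add, map_add, A.u2', A.u1', sh_add (x1 + _) x2] at h1
  exact add_left_cancel h1

/-- **the vectors fixed by the unipotent elements** -/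
theorem TriA.top (A : TriA f φ ι p i x0 x1 x2) (T : Tri x0 x1 x2 c0) (h2 : (2 : k) ≠ 0) (hQ : 5 ≤ Fintype.card K)
    {v : I27 → k} (hv : v ∈ Usp x0 x1 x2) (hu : ∀ t, Rk f φ (Cfsg.Agent.H943.SL2Rel.u t) v = v) (hsh : sh v = 0) :
    ∃ ζ : k, v = ζ • sh x2 := by
  have hf4 := T.f4_ne h2
  obtain ⟨α, β, γ, δ, ε, ζ, rfl⟩ := T.mem_U hv
  have h0 : ∀ t : K, ∑ j ∈ Finset.range 5, (ι t ^ p ^ i) ^ j • (fun j : ℕ => if j = 1 then
      (2 * α) • cr x0 x1 + β • (cr x0 x2 + (4 : k) • sh x1) + γ • cr x1 x2 + (2 * ε) • sh x2 else if j = 2 then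
      α • (cr x0 x2 + (4 : k) • sh x1) + (3 * β) • cr x1 x2 + γ • sh x2 else if j = 3 then
      (2 * α) • cr x1 x2 + (2 * β) • sh x2 else if j = 4 then α • sh x2 else 0) j = 0 := by
    intro t
    have h1 := hu t
    rw [map_add, map_add, map_add, map_add, map_add, map_smul, map_smul, map_smul, map_smul, map_smul, map_smul,
      A.u0', A.u1', A.u2', A.u01, A.u12, Rk_u0] at h1
    have h3 := sub_eq_zero.2 h1
    refine Eq.trans ?_ h3
    simp only [Finset.sum_range_succ, Finset.sum_range_zero, sh_add, sh_smul, cr_add_left, cr_add_right,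
      cr_smul_left, cr_smul_right, cr_self, cr_comm x2 x1]
    simp only [show (0 : ℕ) = 1 ↔ False by norm_num, show (0 : ℕ) = 2 ↔ False by norm_num, show (0 : ℕ) = 3 ↔ False by norm_num,
      show (0 : ℕ) = 4 ↔ False by norm_num, if_false, if_true,
      show (2 : ℕ) = 1 ↔ False by norm_num, show (3 : ℕ) = 1 ↔ False by norm_num, show (3 : ℕ) = 2 ↔ False by norm_num,
      show (4 : ℕ) = 1 ↔ False by norm_num, show (4 : ℕ) = 2 ↔ False by norm_num, show (4 : ℕ) = 3 ↔ False by norm_num]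
    module
  have h3 := poly0 ι hQ p i h0
  have a4 := h3 4 (by norm_num)
  simp only [show (4 : ℕ) = 1 ↔ False by norm_num, show (4 : ℕ) = 2 ↔ False by norm_num, show (4 : ℕ) = 3 ↔ False by norm_num,
    if_false, if_true] at a4
  have hα : α = 0 := (smul_eq_zero.1 a4).resolve_right hf4
  have a3 := h3 3 (by norm_num)
  simp only [show (3 : ℕ) = 1 ↔ False by norm_num, show (3 : ℕ) = 2 ↔ False by norm_num, if_false, if_true, hα, mul_zero,
    zero_smul, zero_add] at a3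
  have hβ : β = 0 := (mul_eq_zero.1 ((smul_eq_zero.1 a3).resolve_right hf4)).resolve_left h2
  have a2 := h3 2 (by norm_num)
  simp only [show (2 : ℕ) = 1 ↔ False by norm_num, if_false, if_true, hα, hβ, mul_zero, zero_smul, zero_add] at a2
  have hγ : γ = 0 := (smul_eq_zero.1 a2).resolve_right hf4
  have a1 := h3 1 (by norm_num)
  simp only [if_true, hα, hβ, hγ, mul_zero, zero_smul, zero_add] at a1
  have hε : ε = 0 := (mul_eq_zero.1 ((smul_eq_zero.1 a1).resolve_right hf4)).resolve_left h2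
  subst hα hβ hγ hε
  have e1 : (0 : k) • sh x0 + (0 : k) • cr x0 x1 + (0 : k) • sh x1 + δ • u0 k + (0 : k) • cr x1 x2 + ζ • sh x2 =
      δ • u0 k + ζ • sh x2 := by module
  rw [e1] at hsh ⊢
  rw [sh_add, sh_smul, sh_smul, sh_u0, T.sh4, cr_smul_left, cr_smul_right, cr_u0, T.r4] at hsh
  by_cases hδ : δ = 0
  · exact ⟨ζ, by rw [hδ, zero_smul, zero_add]⟩
  · exfalso
    have e2 : δ • u0 k = ζ • sh x2 := by
      have h5 : δ • (δ • u0 k - ζ • sh x2) = 0 := by
        rw [← hsh]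
        module
      exact sub_eq_zero.1 ((smul_eq_zero.1 h5).resolve_left hδ)
    have e3 := congrArg sh e2
    rw [sh_smul, sh_smul, sh_u0, T.sh4, smul_zero] at e3
    exact (pow_ne_zero 2 hδ) ((smul_eq_zero.1 e3).resolve_right u0_ne)

end

/-- **SUB6** -/
theorem sub6 (hc : Cfg p a b H φ) [IsAlgClosed k] (hp2 : p ≠ 2) {i : ℕ} (A : TriA f φ ι p i x0 x1 x2)
    (T : Tri x0 x1 x2 c0) (hH : ∀ g ∈ H, ∀ v ∈ Usp x0 x1 x2, Jr k (emb hF4 f g) v ∈ Usp x0 x1 x2)
    (hs : ∀ s : k →+* k, (∀ c, s (f c) = f c) → Function.Surjective s → ∀ v ∈ Usp x0 x1 x2, sm s v ∈ Usp x0 x1 x2) :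
    False := by
  classical
  have hcF := hc.charF
  have h2 : (2 : k) ≠ 0 := two_ne p hp2
  have hQ : 5 ≤ Fintype.card K := by
    have := hc.seven
    omega
  have hf4 := T.f4_ne h2
  have hcard := hc.cardF
  have hq : 1 < Fintype.card F := Fintype.one_lt_card
  let s : k →+* k := iterateFrobenius k p b
  have hs1 : ∀ c, s c = c ^ Fintype.card F := fun c => by rw [hcard]; exact iterateFrobenius_def p b c
  have hsf : ∀ c, s (f c) = f c := fun c => by rw [hs1, ← map_pow, FiniteField.pow_card]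
  have hsur : Function.Surjective s := fun c => by
    obtain ⟨z, hz⟩ := IsAlgClosed.exists_pow_nat_eq c (n := Fintype.card F) (by omega)
    exact ⟨z, by rw [hs1, hz]⟩
  have hRk : ∀ g v, sm s (Rk f φ g v) = Rk f φ g (sm s v) := fun g v => sm_Jr s f hsf _ v
  have hsh : ∀ v, sm s (sh v) = sh (sm s v) := fun v => (map_sh s v).symm
  -- normalization of the last vector
  obtain ⟨μ, hμ⟩ := A.top T h2 hQ (hs s hsf hsur _ mem2) (fun t => by rw [← hRk, A.u2']) (by
    rw [← hsh, T.sh4, sm_zero])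
  have hμ0 : μ ≠ 0 := by
    rintro rfl
    rw [zero_smul, ← sm_zero s] at hμ
    exact hf4 (sm_inj s hμ)
  obtain ⟨ν, hν⟩ := IsAlgClosed.exists_pow_nat_eq μ⁻¹ (n := Fintype.card F - 1) (by omega)
  have hν0 : ν ≠ 0 := by
    rintro rfl
    rw [zero_pow (by omega)] at hν
    exact hμ0 (inv_eq_zero.1 hν.symm)
  have hν1 : s ν * μ = ν := by
    rw [hs1, show Fintype.card F = Fintype.card F - 1 + 1 by omega, pow_succ, hν]
    field_simp
  have hfix : sm s (ν • sh x2) = ν • sh x2 := by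
    rw [sm_smul, hμ, smul_smul, hν1]
  have hex : ∀ l, ∃ d, f d = (ν • sh x2) l := fun l => exists_of_pow f (by
    rw [← hs1]
    exact congrFun hfix l)
  choose e' he' using hex
  have heu : (fun l => f (e' l)) = ν • sh x2 := funext he'
  have hw2 : Rk f φ Cfsg.Agent.H943.SL2Rel.w (sh x2) = sh x0 := by
    have := A.w 0 0 1
    rw [one_smul, zero_smul, zero_smul, zero_add, zero_add, one_smul, neg_zero, zero_smul, zero_smul, add_zero,
      add_zero] at this
    exact this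
  -- two rational vectors
  let a' : I27 → F := RF φ (Cfsg.Agent.H943.SL2Rel.u 1) (RF φ Cfsg.Agent.H943.SL2Rel.w e')
  let b' : I27 → F := e' - RF φ Cfsg.Agent.H943.SL2Rel.w e'
  have hwe : (fun l => f (RF φ Cfsg.Agent.H943.SL2Rel.w e' l)) = ν • sh x0 := by
    rw [up_RF, heu, map_smul, hw2]
  have hau : (fun l => f (a' l)) = ν • sh (x0 + (2 : k) • x1 + x2) := by
    show (fun l => f (RF φ (Cfsg.Agent.H943.SL2Rel.u 1) (RF φ Cfsg.Agent.H943.SL2Rel.w e') l)) = _
    rw [up_RF, hwe, map_smul, A.u0', map_one, one_pow, one_pow, mul_one, one_smul]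
  have hbu : (fun l => f (b' l)) = ν • (sh x2 - sh x0) := by
    rw [smul_sub, ← heu, ← hwe]
    funext l
    exact map_sub f _ _
  obtain ⟨g, hg1, hga, hgb⟩ := R2.F4P.common_stab a' b'
  apply hg1
  have can : ∀ {c : k} {x : I27 → k}, c ≠ 0 → c • x ∈ fixE f g → x ∈ fixE f g := fun {c x} hc hx => by
    have := (fixE f g).smul_mem c⁻¹ hx
    rwa [smul_smul, inv_mul_cancel₀ hc, one_smul] at this
  have m1 : sh (x0 + (2 : k) • x1 + x2) ∈ fixE f g := can hν0 (by rw [← hau]; exact fixE_up hga)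
  have m2 : sh x2 - sh x0 ∈ fixE f g := can hν0 (by rw [← hbu]; exact fixE_up hgb)
  obtain ⟨g0, g1, g4, g01, g12⟩ := T.closure h2 (fixE_u0 g) fixE_cr m1 m2
  have hUfix : ∀ v ∈ Usp x0 x1 x2, Jr k (emb hF4 f g) v = v := by
    intro v hv
    obtain ⟨α, β, γ, δ, ε, ζ, rfl⟩ := T.mem_U hv
    have : α • sh x0 + β • cr x0 x1 + γ • sh x1 + δ • u0 k + ε • cr x1 x2 + ζ • sh x2 ∈ fixE f g :=
      Submodule.add_mem _ (Submodule.add_mem _ (Submodule.add_mem _ (Submodule.add_mem _ (Submodule.add_mem _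
        (Submodule.smul_mem _ _ g0) (Submodule.smul_mem _ _ g01)) (Submodule.smul_mem _ _ g1))
        (Submodule.smul_mem _ _ (fixE_u0 g))) (Submodule.smul_mem _ _ g12)) (Submodule.smul_mem _ _ g4)
    exact this
  have he'U : e' ∈ dn f (Usp x0 x1 x2) := by
    rw [mem_dn, heu]
    exact Submodule.smul_mem _ _ mem2
  refine hc.kc (U := dn f (Usp x0 x1 x2)) ?_ ⟨fun hU => ?_, not_W0_le f T.finrank_le⟩ ?_ ?_
  · intro h hh x hx
    rw [mem_dn, ← Jr_map]
    exact hH h hh _ hx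
  · obtain ⟨c, hc'⟩ := Submodule.mem_span_singleton.1 (hU he'U)
    have h3 : ν • sh x2 = f c • u0 k := by
      rw [← heu, ← hc']
      funext l
      rw [Pi.smul_apply, smul_eq_mul, map_mul]
      show _ = f c * u0 k l
      congr 1
      have := congrFun (Cfsg.Agent.R2.F4P.u0_map f) l
      exact this
    have h4 := congrArg sh h3
    rw [sh_smul, sh_smul, T.sh4, smul_zero, sh_u0] at h4
    have h5 : f c = 0 := by
      have := (smul_eq_zero.1 h4.symm).resolve_right u0_ne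
      exact pow_eq_zero_iff (by norm_num) |>.1 this
    rw [h5, zero_smul] at h3
    exact hf4 ((smul_eq_zero.1 h3).resolve_left hν0)
  · by_contra hcon
    push Not at hcon
    have hall : ∀ r : SpecialLinearGroup (Fin 2) K, Rk f φ r (sh x2) = sh x2 := by
      intro r
      have h3 := hcon (pq r) e' he'U
      have h4 := up_RF (f := f) (φ := φ) r e'
      rw [RF_apply, h3, heu, map_smul] at h4
      have h5 : ν • (Rk f φ r (sh x2) - sh x2) = 0 := by rw [smul_sub, ← h4, sub_self]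
      exact sub_eq_zero.1 ((smul_eq_zero.1 h5).resolve_left hν0)
    have h02 : sh x0 = sh x2 := by rw [← hw2, hall]
    have hall0 : ∀ t : K, Rk f φ (Cfsg.Agent.H943.SL2Rel.u t) (sh x0) = sh x0 := fun t => by rw [h02, hall]
    have h0 : ∀ t : K, ∑ j ∈ Finset.range 5, (ι t ^ p ^ i) ^ j • (fun j : ℕ => if j = 1 then
        (2 : k) • cr x0 x1 else if j = 2 then cr x0 x2 + (4 : k) • sh x1 else if j = 3 then
        (2 : k) • cr x1 x2 else if j = 4 then sh x2 else 0) j = 0 := by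
      intro t
      have h1 := hall0 t
      rw [A.u0'] at h1
      have h3 := sub_eq_zero.2 h1
      refine Eq.trans ?_ h3
      simp only [Finset.sum_range_succ, Finset.sum_range_zero, sh_add3, sh_smul, cr_smul_left, cr_smul_right]
      simp only [show (0 : ℕ) = 1 ↔ False by norm_num, show (0 : ℕ) = 2 ↔ False by norm_num,
        show (0 : ℕ) = 3 ↔ False by norm_num, show (0 : ℕ) = 4 ↔ False by norm_num, if_false, if_true,
        show (2 : ℕ) = 1 ↔ False by norm_num, show (3 : ℕ) = 1 ↔ False by norm_num, show (3 : ℕ) = 2 ↔ False by norm_num,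
        show (4 : ℕ) = 1 ↔ False by norm_num, show (4 : ℕ) = 2 ↔ False by norm_num, show (4 : ℕ) = 3 ↔ False by norm_num]
      module
    have h3 := poly0 ι hQ p i h0 4 (by norm_num)
    simp only [show (4 : ℕ) = 1 ↔ False by norm_num, show (4 : ℕ) = 2 ↔ False by norm_num,
      show (4 : ℕ) = 3 ↔ False by norm_num, if_false, if_true] at h3
    exact hf4 h3
  · intro x hx
    apply up_inj (f := f)
    rw [← Jr_map]
    exact hUfix _ hx

end Cfsg.Agent.R2.F4P.Th
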