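import Cfsg.Agent.R2.F4P.Th.SkN
import Cfsg.Agent.R2.GEO.Rank

/-!
# S5931, `p = 3`, the skeleton : dimensions 16 and 12 (helper17)

* `d3` : nondegenerate invariant subspaces of `J_0` have dimension divisible by 3;
* `Cx3.no_sixteen` : no irreducible submodules of dimension 16; `Cx3.nd_twelve` : those of dimension 12 are nondegenerate.
-/

set_option autoImplicit false
set_option linter.unusedSectionVars false
set_option linter.unusedVariables false

namespace Cfsg.Agent.R2.F4P.Th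

open Cfsg.Lie
open Cfsg.Agent.ChevalleyStructure.E6Min.Tables Cfsg.Agent.ChevalleyStructure.E6Min.Basic
open Cfsg.Agent.H952.F4 (sh cr tf tr1 u0)
open Cfsg.Agent.H952.F4.Jord
open Cfsg.Agent.H952.F4.FixV (trL trL_apply W0 mem_W0 finrank_W0 exists_tr1_one)
open Cfsg.Agent.H943.SL2Rel Cfsg.Agent.H943.SL2Mod Cfsg.Agent.R2.H28.SL2 Cfsg.Agent.H943.RepAdd
open Cfsg.Agent.R2.F4L
open Cfsg.Agent.R2.GEO (tfB tfB_apply crB crB_apply)

universe u v w

/-- **nondegenerate invariant subspaces of `J_0`** -/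
theorem d3 {k : Type u} [Field k] [CharP k 3] {G : Type w} [Group G] {ρ : Representation k G (I27 → k)} (H : Act ρ)
    (fix : ∀ y : I27 → k, (∀ g, ρ g y = y) → ∃ c : k, y = c • u0 k) {X : Submodule k (I27 → k)}
    (hX : ∀ g, ∀ x ∈ X, ρ g x ∈ X) (h0 : X ≤ W0 k) (hnd : ∀ x ∈ X, (∀ y ∈ X, tf x y = 0) → x = 0) :
    ((Module.finrank k X : ℕ) : k) = 0 := by
  let B : X →ₗ[k] Module.Dual k X := (tfB k).compl₁₂ X.subtype X.subtype
  have hBa : ∀ x y : X, B x y = tf (x : I27 → k) (y : I27 → k) := fun _ _ => rfl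
  have hBi : Function.Injective B := by
    rw [← LinearMap.ker_eq_bot, LinearMap.ker_eq_bot']
    intro x hx
    refine Subtype.ext (hnd x x.2 fun y hy => ?_)
    exact LinearMap.congr_fun hx ⟨y, hy⟩
  have hBs : Function.Surjective B :=
    (LinearMap.injective_iff_surjective_of_finrank_eq_finrank Subspace.dual_finrank_eq.symm).1 hBi
  let e : X ≃ₗ[k] Module.Dual k X := LinearEquiv.ofBijective B ⟨hBi, hBs⟩
  have he : ∀ x, e x = B x := fun _ => rfl
  let T : (I27 → k) →ₗ[k] X →ₗ[k] Module.Dual k X :=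
    ((crB k).compl₂ X.subtype).compr₂ ((tfB k).compl₂ X.subtype)
  have hT : ∀ z (x y : X), T z x y = tf (cr z (x : I27 → k)) (y : I27 → k) := fun _ _ _ => rfl
  let A : (I27 → k) →ₗ[k] X →ₗ[k] X := T.compr₂ (e.symm : Module.Dual k X →ₗ[k] X)
  have hA : ∀ z (x y : X), tf ((A z x : X) : I27 → k) (y : I27 → k) = tf (cr z (x : I27 → k)) (y : I27 → k) := by
    intro z x y
    rw [← hBa, ← he]
    show e (e.symm (T z x)) y = _
    rw [e.apply_symm_apply, hT]
  let l : (I27 → k) →ₗ[k] k := (LinearMap.trace k X) ∘ₗ A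
  have hl : ∀ z, l z = LinearMap.trace k X (A z) := fun _ => rfl
  have hinv : ∀ g z, l (ρ g z) = l z := by
    intro g z
    have h1 : A (ρ g z) = subRep ρ X hX g * A z * subRep ρ X hX g⁻¹ := by
      refine LinearMap.ext fun x => ?_
      apply hBi
      refine LinearMap.ext fun y => ?_
      rw [hBa, hBa, hA]
      show _ = tf (ρ g ((A z (subRep ρ X hX g⁻¹ x) : X) : I27 → k)) (y : I27 → k)
      have e1 : ∀ v : I27 → k, ρ g (ρ g⁻¹ v) = v := fun v => by
        rw [← Module.End.mul_apply, ← map_mul, mul_inv_cancel, map_one, Module.End.one_apply]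
      have e2 : tf (ρ g ((A z (subRep ρ X hX g⁻¹ x) : X) : I27 → k)) (y : I27 → k) =
          tf ((A z (subRep ρ X hX g⁻¹ x) : X) : I27 → k) (ρ g⁻¹ (y : I27 → k)) := by
        rw [← H.tf g _ (ρ g⁻¹ (y : I27 → k)), e1]
      rw [e2]
      have e3 := hA z (subRep ρ X hX g⁻¹ x) ⟨ρ g⁻¹ (y : I27 → k), hX _ _ y.2⟩
      have e4 : tf ((A z (subRep ρ X hX g⁻¹ x) : X) : I27 → k) (ρ g⁻¹ (y : I27 → k)) =
        tf (cr z (ρ g⁻¹ (x : I27 → k))) (ρ g⁻¹ (y : I27 → k)) := e3
      rw [e4, ← H.tf g (cr z (ρ g⁻¹ (x : I27 → k))) (ρ g⁻¹ (y : I27 → k)), H.cr, e1, e1]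
    rw [hl, hl, h1, LinearMap.trace_mul_comm, ← mul_assoc, ← map_mul, inv_mul_cancel, map_one, one_mul]
  have DJ : Dul ρ ρ (tfB k) := ⟨fun g x y => H.tf g x y, fun x hx => tf_nondeg hx, fun y hy => tf_nondeg fun x => by
    rw [tf_comm]
    exact hy x⟩
  obtain ⟨y, hy⟩ := DJ.surj l
  obtain ⟨c, hc⟩ := fix y fun g => by
    rw [← sub_eq_zero]
    refine DJ.right _ fun x => ?_
    rw [map_sub, DJ.inv', hy, hy, hinv, sub_self]
  have h1 : l (u0 k) = 0 := by
    have h3 : (3 : k) = 0 := by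
      have := CharP.cast_eq_zero k 3
      exact_mod_cast this
    rw [← hy, hc, map_smul, tfB_apply, tf_u0, tr1_u0, h3, smul_zero]
  have h2 : A (u0 k) = (-1 : k) • LinearMap.id := by
    refine LinearMap.ext fun x => ?_
    apply hBi
    refine LinearMap.ext fun z => ?_
    rw [hBa, hA, cr_u0, (mem_W0 _).1 (h0 x.2), zero_smul, zero_sub, hBa]
    show _ = tf ((-1 : k) • (x : I27 → k)) (z : I27 → k)
    rw [neg_one_smul]
  rw [hl, h2, map_smul, LinearMap.trace_id, neg_one_smul, neg_eq_zero] at h1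
  exact h1

variable {k : Type u} [Field k] [DecidableEq k] {K : Type w} [Field K] [Fintype K] [DecidableEq K] {ι : K →+* k}
variable {a : ℕ} [CharP k 3] [CharP K 3] [IsAlgClosed k]
variable {ρ : Representation k (Matrix.SpecialLinearGroup (Fin 2) K) (I27 → k)}

/-- nondegenerate irreducible submodules -/
theorem Cx3.nd_dvd (C : Cx3 K a ρ) {X : Submodule k (Vk k)} {hX : ∀ g, ∀ x ∈ X, sV C.act g x ∈ X} {b : ℕ}
    (h : IsV ι 3 (subRep (sV C.act) X hX) b) (h4 : (Bf k b).card ≠ 4) (hn : Nd (PV k) X) : 3 ∣ (Bf k b).card := by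
  obtain ⟨Y, hY, hVY, hYX, hYL⟩ := C.lift h h4
  obtain ⟨hY', hVY'⟩ := C.up hVY
  have h1 := d3 C.act C.fix hY' (by
    rintro _ ⟨y, -, rfl⟩
    exact y.2) (by
    rintro _ ⟨y, hy, rfl⟩ h0
    have h1 : (Lk k).mkQ y ∈ X ⊓ orth (PV k) X := by
      refine ⟨by rw [← hYX]; exact ⟨y, hy, rfl⟩, fun x hx => ?_⟩
      rw [← hYX] at hx
      obtain ⟨z, hz, rfl⟩ := hx
      rw [PV_mk, tf_comm]
      exact h0 _ ⟨z, hz, rfl⟩
    have h2 : X ⊓ orth (PV k) X = ⊥ := hn
    rw [h2, Submodule.mem_bot] at h1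
    have h3 : y ∈ Y ⊓ Lk k := ⟨hy, (Submodule.Quotient.mk_eq_zero _).1 h1⟩
    rw [hYL, Submodule.mem_bot] at h3
    rw [h3]
    rfl)
  rw [IsV.finrank ι hVY', CharP.cast_eq_zero_iff k 3] at h1
  exact h1

/-- **no irreducible submodules of dimension 16** -/
theorem Cx3.no_sixteen (C : Cx3 K a ρ) {X : Submodule k (Vk k)} {hX : ∀ g, ∀ x ∈ X, sV C.act g x ∈ X} {b : ℕ}
    (h : IsV ι 3 (subRep (sV C.act) X hX) b) (h16 : (Bf k b).card = 16) : False := by
  rcases nd_or (dulV C.act) h with hn | hn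
  · have h1 := C.nd_dvd h (by omega) hn
    omega
  · have h1 := iso_le (W := ⊤) (dulV C.act) hX (fun _ _ _ => Submodule.mem_top) (nd_top (dulV C.act)) le_top hn
    rw [IsV.finrank ι h, finrank_top] at h1
    have h2 : Module.finrank k (Vk k) = 25 := finrank_Vk
    omega

/-- a submodule with a one-dimensional quotient -/
theorem no_succ {V : Type v} [AddCommGroup V] [Module k V] [FiniteDimensional k V]
    {σ : Representation k (Matrix.SpecialLinearGroup (Fin 2) K) V} (hF : Fintype.card K = 3 ^ a) (ha : 2 ≤ a)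
    (hfix : ∀ x, (∀ g, σ g x = x) → x = 0) {X E : Submodule k V} {hX : ∀ g, ∀ x ∈ X, σ g x ∈ X} {b : ℕ}
    (h : IsV ι 3 (subRep σ X hX) b) (h4 : (Bf k b).card ≠ 4) (hE : ∀ g, ∀ x ∈ E, σ g x ∈ E)
    (hle : X ≤ E) (hd : Module.finrank k E = Module.finrank k X + 1) : False := by
  set τ := subRep σ E hE with hτ
  let W : Submodule k E := X.comap E.subtype
  have hW : ∀ g, ∀ x ∈ W, τ g x ∈ W := fun g x hx => hX g _ hx
  have e1 := cf_add (Sy.{u, v, w} ι 3) τ W hW
  have hVW : IsV ι 3 (subRep τ W hW) b := by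
    refine IsV.iso ι 3 (Submodule.comapSubtypeEquivOfLe hle).symm (fun g x => ?_) h
    exact Subtype.ext (Subtype.ext rfl)
  rw [cf_irr (Sy.{u, v, w} ι 3) hVW] at e1
  have h1 := Submodule.finrank_quotient_add_finrank W
  have h2 : Module.finrank k W = Module.finrank k X := (Submodule.comapSubtypeEquivOfLe hle).finrank_eq
  have h3 := finrank_cf.{u, v, w} ι 3 _ (E ⧸ W) (quotRep τ W hW) le_rfl
  have h5 : Module.finrank k (E ⧸ W) = 1 := by omega
  rw [h5] at h3
  have h6 : cf (Sy.{u, v, w} ι 3) (quotRep τ W hW) = {0} := by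
    rcases Multiset.empty_or_exists_mem (cf (Sy.{u, v, w} ι 3) (quotRep τ W hW)) with h6 | ⟨c, hc⟩
    · rw [h6] at h3
      simp at h3
    · obtain ⟨s, hs⟩ := Multiset.exists_cons_of_mem hc
      rw [hs, Multiset.map_cons, Multiset.sum_cons] at h3
      have h7 := card_pos k c
      have h8 : (Bf k c).card = 1 := by omega
      have h9 : s = 0 := by
        rcases Multiset.empty_or_exists_mem s with h9 | ⟨d, hd⟩
        · exact h9
        · obtain ⟨t, ht⟩ := Multiset.exists_cons_of_mem hd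
          rw [ht, Multiset.map_cons, Multiset.sum_cons] at h3
          have h10 := card_pos k d
          omega
      rw [hs, h9, (card3 k c).1 h8]
      rfl
  rw [h6] at e1
  have h7 := pressure_cf ι 3 hF τ
  have hb0 : hb 3 a b = 0 := hb3 k ha (label_lt ι 3 hF h) h4
  have h00 : hb 3 a 0 = 0 := hb3 k ha (Nat.pow_pos (by norm_num)) (by rw [card_Bf_zero]; norm_num)
  have h8 : Hs 3 a ({b} + {0} : Multiset ℕ) = 0 := by
    rw [Hs_add]
    unfold Hs
    rw [Multiset.map_singleton, Multiset.sum_singleton, Multiset.map_singleton, Multiset.sum_singleton, hb0, h00]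
  rw [e1, h8, add_zero, Multiset.count_add, Multiset.count_singleton_self, fx_eq_bot] at h7
  · omega
  · intro x hx
    exact Subtype.ext (hfix x fun g => congrArg Subtype.val (hx g))

/-- no fixed vectors -/
theorem Cx3.fixV (C : Cx3 K a ρ) (x : Vk k) (hx : ∀ g, sV C.act g x = x) : x = 0 := by
  obtain ⟨y, rfl⟩ := (Lk k).mkQ_surjective x
  rw [Submodule.mkQ_apply, Submodule.Quotient.mk_eq_zero, mem_Lk]
  refine C.fixm _ fun g => ?_
  have h2 : (Lk k).mkQ (s0 C.act g y) = (Lk k).mkQ y := hx g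
  have h3 : s0 C.act g y - y ∈ Lk k := (Submodule.Quotient.eq _).1 h2
  obtain ⟨c, hc⟩ := mem_Lk.1 h3
  have h4 : ρ g (y : I27 → k) - y = c • u0 k := hc
  refine ⟨c, ?_⟩
  rw [← h4]
  abel

/-- **irreducible submodules of dimension 12 are nondegenerate** -/
theorem Cx3.nd_twelve (C : Cx3 K a ρ) {X : Submodule k (Vk k)} {hX : ∀ g, ∀ x ∈ X, sV C.act g x ∈ X} {b : ℕ}
    (h : IsV ι 3 (subRep (sV C.act) X hX) b) (h12 : (Bf k b).card = 12) : Nd (PV k) X := by
  rcases nd_or (dulV C.act) h with hn | hn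
  · exact hn
  · exfalso
    have h1 := rank_orth (dulV C.act) hX
    have h2 : Module.finrank k (Vk k) = 25 := finrank_Vk
    have h3 := IsV.finrank ι h
    exact no_succ C.card C.ha C.fixV h (by omega) ((dulV C.act).orth_inv hX) hn (by omega)

end Cfsg.Agent.R2.F4P.Th
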