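import Cfsg.Agent.R2.F4P.Th.SkC

/-!
# S5931, `p = 3`, the skeleton : trilinear forms on `V_{3^i + 3^j}` (helper17)

* `dig_inj`, `poly2` : two-digit polynomial identities;
* `tri11` : invariant symmetric trilinear forms on `V_{3^i + 3^j}` vanish.
-/

set_option autoImplicit false
set_option linter.unusedSectionVars false
set_option linter.unusedVariables false

namespace Cfsg.Agent.R2.F4P.Th

open Cfsg.Lie
open Cfsg.Agent.H943.SL2Rel Cfsg.Agent.H943.SL2Mod Cfsg.Agent.R2.H28.SL2 Cfsg.Agent.H943.RepAdd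
open Cfsg.Agent.R2.F4L

universe u v w

theorem dig_inj {p i j A B A' B' : ℕ} (hp : 0 < p) (hA : A < p) (hA' : A' < p) (hB : B < p) (hB' : B' < p) (hij : i ≠ j)
    (h : A * p ^ i + B * p ^ j = A' * p ^ i + B' * p ^ j) : A = A' ∧ B = B' := by
  have key : ∀ {i d A B A' B' : ℕ}, A < p → A' < p → A * p ^ i + B * p ^ (i + d + 1) = A' * p ^ i + B' * p ^ (i + d + 1) →
      A = A' ∧ B = B' := by
    intro i d A B A' B' hA hA' h
    have hpi : 0 < p ^ i := Nat.pow_pos hp
    have h1 : p ^ i * (A + p * (B * p ^ d)) = p ^ i * (A' + p * (B' * p ^ d)) := by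
      have e1 : p ^ i * (A + p * (B * p ^ d)) = A * p ^ i + B * p ^ (i + d + 1) := by ring
      have e2 : p ^ i * (A' + p * (B' * p ^ d)) = A' * p ^ i + B' * p ^ (i + d + 1) := by ring
      rw [e1, e2, h]
    have h2 := Nat.eq_of_mul_eq_mul_left hpi h1
    have h3 : A = A' := by
      have := congrArg (· % p) h2
      simp only [Nat.add_mul_mod_self_left, Nat.mod_eq_of_lt hA, Nat.mod_eq_of_lt hA'] at this
      exact this
    subst h3
    refine ⟨rfl, ?_⟩
    have h4 := Nat.eq_of_mul_eq_mul_left hp (Nat.add_left_cancel h2)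
    exact Nat.eq_of_mul_eq_mul_right (Nat.pow_pos hp) h4
  rcases Nat.lt_or_gt_of_ne hij with h' | h'
  · obtain ⟨d, rfl⟩ : ∃ d, j = i + d + 1 := ⟨j - i - 1, by omega⟩
    exact key hA hA' h
  · obtain ⟨d, rfl⟩ : ∃ d, i = j + d + 1 := ⟨i - j - 1, by omega⟩
    have := key (i := j) (d := d) hB hB' (by omega : B * p ^ j + A * p ^ (j + d + 1) = B' * p ^ j + A' * p ^ (j + d + 1))
    exact ⟨this.2, this.1⟩

variable {k : Type u} [Field k] [DecidableEq k] {K : Type w} [Field K] [Fintype K] [DecidableEq K] {ι : K →+* k}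
variable {p : ℕ} [Fact p.Prime] [CharP k p] [CharP K p] {a : ℕ}

/-- **two-digit polynomial identities** -/
theorem poly2 {V : Type*} [AddCommGroup V] [Module k V] (ι : K →+* k) (hF : Fintype.card K = p ^ a) {n i m j : ℕ}
    (A : Adm p a n i m j) (c : ℕ → ℕ → V) (h0 : ∀ t : K, ∑ l ∈ Finset.range (n + 1), ∑ l' ∈ Finset.range (m + 1),
      ((ι t ^ p ^ i) ^ l * (ι t ^ p ^ j) ^ l') • c l l' = 0) : ∀ l ≤ n, ∀ l' ≤ m, c l l' = 0 := by
  have hp : p.Prime := Fact.out
  have h := polyE (ι := ι) p (Finset.range (n + 1) ×ˢ Finset.range (m + 1)) (fun x => x.1 * p ^ i + x.2 * p ^ j)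
    (fun x => c x.1 x.2) (fun x hx => by
      rw [Finset.mem_product, Finset.mem_range, Finset.mem_range] at hx
      rw [hF]
      have hn := A.n
      have hm := A.m
      exact pair_lt p (by omega) (by omega) A.ij A.i A.j) (fun x hx y hy hxy => by
      rw [Finset.mem_product, Finset.mem_range, Finset.mem_range] at hx hy
      have hn := A.n
      have hm := A.m
      have := dig_inj hp.pos (by omega) (by omega) (by omega) (by omega) A.ij hxy
      exact Prod.ext this.1 this.2) (fun t => by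
      rw [Finset.sum_product, ← h0 t]
      refine Finset.sum_congr rfl fun l _ => Finset.sum_congr rfl fun l' _ => ?_
      show (ι t ^ (l * p ^ i + l' * p ^ j)) • c l l' = _
      rw [pow_add, ← pow_mul, ← pow_mul, mul_comm l, mul_comm l'])
  intro l hl l' hl'
  exact h (l, l') (Finset.mem_product.2 ⟨Finset.mem_range.2 (by omega), Finset.mem_range.2 (by omega)⟩)

section Bas

variable {V : Type*} [AddCommGroup V] [Module k V] {σ : Representation k (Matrix.SpecialLinearGroup (Fin 2) K) V}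
  {n i m j : ℕ} {v : ℕ → ℕ → V}

theorem BasP.toTP (hv : BasP ι p σ n i m j v) : TP ι p σ n i m j v := ⟨hv.zero, hv.u, hv.h, hv.w⟩

theorem BasP.ext0 {V' : Type*} [AddCommGroup V'] [Module k V'] (hv : BasP ι p σ n i m j v) {f : V →ₗ[k] V'}
    (h : ∀ s ≤ n, ∀ s' ≤ m, f (v s s') = 0) : f = 0 := by
  have h1 : (⊤ : Submodule k V) ≤ LinearMap.ker f := by
    refine hv.sp.trans (Submodule.span_le.2 ?_)
    rintro _ ⟨s, rfl⟩
    exact h _ (by omega) _ (by omega)
  exact LinearMap.ker_eq_top.1 (top_le_iff.1 h1)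

theorem TP.e00 {x : ℕ → ℕ → V} (hx : TP ι p σ 1 i 1 j x) (t : K) : σ (Cfsg.Agent.H943.SL2Rel.u t) (x 0 0) =
    x 0 0 + (ι t ^ p ^ i) • x 1 0 + (ι t ^ p ^ j) • x 0 1 + (ι t ^ p ^ i * ι t ^ p ^ j) • x 1 1 := by
  rw [hx.u 0 (by norm_num) 0 (by norm_num) t]
  simp only [Nat.sub_zero, Finset.sum_range_succ, Finset.sum_range_zero, zero_add, Nat.choose_zero_right, Nat.choose_self,
    Nat.cast_one, pow_zero, pow_one, one_mul, mul_one, one_smul]
  abel

end Bas

section Tri

variable {V : Type v} [AddCommGroup V] [Module k V] {σ : Representation k (Matrix.SpecialLinearGroup (Fin 2) K) V}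
  {i j : ℕ} {v : ℕ → ℕ → V}

/-- **invariant symmetric trilinear forms** -/
theorem tri11 (hp2 : 2 < p) (hF : Fintype.card K = p ^ a) (A : Adm p a 2 i 2 j) (hv : BasP ι p σ 1 i 1 j v)
    (F : V →ₗ[k] V →ₗ[k] V →ₗ[k] k) (s1 : ∀ x y z, F x y z = F y x z) (s2 : ∀ x y z, F x y z = F x z y)
    (inv : ∀ g x y z, F (σ g x) (σ g y) (σ g z) = F x y z) : F = 0 := by
  have h2 : (2 : k) ≠ 0 := two_ne p (by omega)
  have hx : TP ι p σ 1 i 1 j v := BasP.toTP hv
  have hp : p.Prime := Fact.out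
  -- transport
  have tr : ∀ g x y, (∀ z, F x y z = 0) → ∀ z, F (σ g x) (σ g y) z = 0 := by
    intro g x y h z
    have e1 : z = σ g (σ g⁻¹ z) := by
      rw [← Module.End.mul_apply, ← map_mul, mul_inv_cancel, map_one, Module.End.one_apply]
    rw [e1, inv, h]
  -- the highest weight vector
  have a1 : ∀ l ≤ 2, ∀ l' ≤ 2, (fun l l' => match l, l' with
      | 1, 0 => F (v 1 1) (v 1 1) (v 1 0)
      | 0, 1 => F (v 1 1) (v 1 1) (v 0 1)
      | 1, 1 => F (v 1 1) (v 1 1) (v 1 1)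
      | _, _ => 0 : ℕ → ℕ → k) l l' = 0 := by
    refine poly2 ι hF A _ fun t => ?_
    have e1 := inv (Cfsg.Agent.H943.SL2Rel.u t) (v 1 1) (v 1 1) (v 0 0)
    rw [hx.top, hx.e00] at e1
    simp only [map_add, map_smul, smul_eq_mul] at e1
    simp only [Finset.sum_range_succ, Finset.sum_range_zero, smul_eq_mul, pow_zero, pow_one]
    linear_combination e1
  have b10 : F (v 1 1) (v 1 1) (v 1 0) = 0 := a1 1 (by norm_num) 0 (by norm_num)
  have b01 : F (v 1 1) (v 1 1) (v 0 1) = 0 := a1 0 (by norm_num) 1 (by norm_num)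
  have b11 : F (v 1 1) (v 1 1) (v 1 1) = 0 := a1 1 (by norm_num) 1 (by norm_num)
  have b00 : F (v 1 1) (v 1 1) (v 0 0) = 0 := by
    obtain ⟨lam, hlam⟩ := exists_prim (k := k) ι 0 p
    rw [pow_zero, pow_one] at hlam
    have hl0 : ι (lam : K) ≠ 0 := (map_ne_zero ι).2 lam.ne_zero
    have e1 := inv (Cfsg.Agent.H943.SL2Rel.h lam) (v 1 1) (v 1 1) (v 0 0)
    rw [hx.h 1 le_rfl 1 le_rfl, hx.h 0 (by norm_num) 0 (by norm_num)] at e1
    simp only [map_smul, LinearMap.smul_apply, smul_eq_mul, Nat.sub_self, Nat.sub_zero, pow_zero, pow_one, mul_one, one_mul] at e1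
    have e2 : (ι lam ^ (p ^ i + p ^ j) - 1) * F (v 1 1) (v 1 1) (v 0 0) = 0 := by
      have e3 : ι (lam : K) ^ p ^ i ≠ 0 := pow_ne_zero _ hl0
      have e4 : ι (lam : K) ^ p ^ j ≠ 0 := pow_ne_zero _ hl0
      rw [pow_add]
      field_simp at e1
      linear_combination e1
    refine (mul_eq_zero.1 e2).resolve_left (sub_ne_zero.2 fun h3 => ?_)
    have h4 : 0 < p ^ i := Nat.pow_pos hp.pos
    have h5 : 0 < p ^ j := Nat.pow_pos hp.pos
    have h6 := Nat.le_of_dvd (by omega) ((hlam.pow_eq_one_iff_dvd _).1 h3)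
    have h7 := A.le hF
    omega
  have c11 : ∀ z, F (v 1 1) (v 1 1) z = 0 := by
    have : F (v 1 1) (v 1 1) = 0 := BasP.ext0 hv fun s hs s' hs' => by
      interval_cases s <;> interval_cases s'
      · exact b00
      · exact b01
      · exact b10
      · exact b11
    intro z
    rw [this]
    rfl
  have c00 : ∀ z, F (v 0 0) (v 0 0) z = 0 := by
    have e1 := tr Cfsg.Agent.H943.SL2Rel.w _ _ c11
    rw [hx.w 1 le_rfl 1 le_rfl] at e1
    simpa using e1
  -- the quadratic relations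
  have q : ∀ z, ∀ l ≤ 2, ∀ l' ≤ 2, (fun l l' => match l, l' with
      | 0, 0 => F (v 0 0) (v 0 0) z
      | 1, 0 => 2 * F (v 0 0) (v 1 0) z
      | 0, 1 => 2 * F (v 0 0) (v 0 1) z
      | 1, 1 => 2 * F (v 0 0) (v 1 1) z + 2 * F (v 1 0) (v 0 1) z
      | 2, 0 => F (v 1 0) (v 1 0) z
      | 0, 2 => F (v 0 1) (v 0 1) z
      | 2, 1 => 2 * F (v 1 0) (v 1 1) z
      | 1, 2 => 2 * F (v 0 1) (v 1 1) z
      | 2, 2 => F (v 1 1) (v 1 1) z
      | _, _ => 0 : ℕ → ℕ → k) l l' = 0 := by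
    intro z
    refine poly2 ι hF A _ fun t => ?_
    have e1 := tr (Cfsg.Agent.H943.SL2Rel.u t) _ _ c00 z
    rw [hx.e00] at e1
    simp only [map_add, map_smul, LinearMap.add_apply, LinearMap.smul_apply, smul_eq_mul] at e1
    rw [s1 (v 1 0) (v 0 0), s1 (v 0 1) (v 0 0), s1 (v 1 1) (v 0 0), s1 (v 0 1) (v 1 0), s1 (v 1 1) (v 1 0),
      s1 (v 1 1) (v 0 1)] at e1
    simp only [Finset.sum_range_succ, Finset.sum_range_zero, smul_eq_mul, pow_zero, pow_one]
    linear_combination e1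
  have can : ∀ {x : k}, 2 * x = 0 → x = 0 := fun h => (mul_eq_zero.1 h).resolve_left h2
  have d10 : ∀ z, F (v 0 0) (v 1 0) z = 0 := fun z => can (q z 1 (by norm_num) 0 (by norm_num))
  have d01 : ∀ z, F (v 0 0) (v 0 1) z = 0 := fun z => can (q z 0 (by norm_num) 1 (by norm_num))
  have d11 : ∀ z, F (v 0 0) (v 1 1) z + F (v 1 0) (v 0 1) z = 0 := fun z => can (by
    have : 2 * F (v 0 0) (v 1 1) z + 2 * F (v 1 0) (v 0 1) z = 0 := q z 1 (by norm_num) 1 (by norm_num)
    linear_combination this)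
  have e1010 : ∀ z, F (v 1 0) (v 1 0) z = 0 := fun z => q z 2 (by norm_num) 0 (by norm_num)
  have e0101 : ∀ z, F (v 0 1) (v 0 1) z = 0 := fun z => q z 0 (by norm_num) 2 (by norm_num)
  have e1011 : ∀ z, F (v 1 0) (v 1 1) z = 0 := fun z => can (q z 2 (by norm_num) 1 (by norm_num))
  have e0111 : ∀ z, F (v 0 1) (v 1 1) z = 0 := fun z => can (q z 1 (by norm_num) 2 (by norm_num))
  have g1 : F (v 0 0) (v 1 1) = 0 := BasP.ext0 hv fun s hs s' hs' => by
    interval_cases s <;> interval_cases s'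
    · rw [s2, c00]
    · rw [s2, d01]
    · rw [s2, d10]
    · rw [s1, s2, c11]
  have e0011 : ∀ z, F (v 0 0) (v 1 1) z = 0 := fun z => by rw [g1]; rfl
  have e1001 : ∀ z, F (v 1 0) (v 0 1) z = 0 := fun z => by
    have := d11 z
    rwa [e0011, zero_add] at this
  have fin : ∀ s ≤ 1, ∀ s' ≤ 1, ∀ t ≤ 1, ∀ t' ≤ 1, ∀ z, F (v s s') (v t t') z = 0 := by
    intro s hs s' hs' t ht t' ht' z
    interval_cases s <;> interval_cases s' <;> interval_cases t <;> interval_cases t' <;>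
      first
        | exact c00 z | exact c11 z | exact d10 z | exact d01 z | exact e0011 z | exact e1010 z | exact e0101 z
        | exact e1011 z | exact e0111 z | exact e1001 z
        | (rw [s1]; first | exact d10 z | exact d01 z | exact e0011 z | exact e1011 z | exact e0111 z | exact e1001 z)
  refine BasP.ext0 (V' := V →ₗ[k] V →ₗ[k] k) hv fun s hs s' hs' => ?_
  refine BasP.ext0 (V' := V →ₗ[k] k) hv fun t ht t' ht' => ?_
  refine LinearMap.ext fun z => ?_
  exact fin s hs s' hs' t ht t' ht' z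

end Tri

end Cfsg.Agent.R2.F4P.Th
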