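import Cfsg.Agent.R2.F4P.Th.SkE

/-!
# S5931, `p = 3`, the skeleton : pairings and the Steinberg module (helper17)

* `br` : the pairing of the highest and lowest weight vectors; `isV_range`;
* `st_split` : quotients isomorphic to the Steinberg module split;
* `two_copies` : two orthogonal isomorphic nondegenerate submodules give an isotropic one.
-/

set_option autoImplicit false
set_option linter.unusedSectionVars false
set_option linter.unusedVariables false

namespace Cfsg.Agent.R2.F4P.Th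

open Cfsg.Agent.H943.SL2Rel Cfsg.Agent.H943.SL2Mod Cfsg.Agent.R2.H28.SL2 Cfsg.Agent.H943.RepAdd
open Cfsg.Agent.R2.F4L

universe u v w

variable {k : Type u} [Field k] [DecidableEq k] {K : Type w} [Field K] [Fintype K] [DecidableEq K] {ι : K →+* k}
variable {p : ℕ} [Fact p.Prime] [CharP k p] [CharP K p] {a : ℕ}
variable {V : Type v} [AddCommGroup V] [Module k V] [FiniteDimensional k V]
  {σ : Representation k (Matrix.SpecialLinearGroup (Fin 2) K) V} {P : V →ₗ[k] V →ₗ[k] k}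

/-- **the pairing of the highest and lowest weight vectors** -/
theorem br [IsAlgClosed k] (D : Dul σ σ P) {X : Submodule k V} {hX : ∀ g, ∀ x ∈ X, σ g x ∈ X} {b : ℕ}
    (hV : IsV ι p (subRep σ X hX) b) {x : V} (hx : x ∈ X) (hx0 : x ≠ 0) (hu : ∀ t, σ (u t) x = x) {c : ℕ}
    (hh : ∀ a : Kˣ, σ (Cfsg.Agent.H943.SL2Rel.h a) x = ι a ^ c • x) (h0 : P x x = 0) (h1 : P x (σ w x) = 0) : ¬ Nd P X := by
  intro hn
  have key : ∀ g, P x (σ g x) = 0 := by
    intro g
    rcases bruhat g with ⟨a, t, rfl⟩ | ⟨s, a, t, rfl⟩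
    · rw [map_mul, Module.End.mul_apply, hu, hh, map_smul, h0, smul_zero]
    · rw [map_mul, Module.End.mul_apply, hu, mul_assoc, h_w, ← mul_assoc, map_mul, Module.End.mul_apply, hh, map_smul,
        map_smul, map_mul, Module.End.mul_apply, D.inv', ← u_neg, hu, h1, smul_zero]
  let Q : Submodule k V :=
    { carrier := {y | ∀ g, P x (σ g y) = 0}
      zero_mem' := fun g => by rw [map_zero, map_zero]
      add_mem' := fun {y z} hy hz g => by rw [map_add, map_add, hy, hz, add_zero]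
      smul_mem' := fun c y hy g => by rw [map_smul, map_smul, hy, smul_zero] }
  have hQ : ∀ g, ∀ y ∈ Q, σ g y ∈ Q := by
    intro g y hy g'
    rw [← Module.End.mul_apply, ← map_mul]
    exact hy _
  rcases IsV.inf_or_le ι p hV hQ with h | h
  · have h2 : x ∈ X ⊓ Q := ⟨hx, key⟩
    rw [h, Submodule.mem_bot] at h2
    exact hx0 h2
  · have hO : x ∈ orth P.flip X := by
      intro y hy
      have h3 := h hy 1
      rw [map_one] at h3
      exact h3
    -- `x` is orthogonal to `X`, on the left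
    have hOi : ∀ g, ∀ y ∈ orth P.flip X, σ g y ∈ orth P.flip X := D.flip.orth_inv hX
    rcases IsV.inf_or_le ι p hV hOi with h4 | h4
    · have h5 : x ∈ X ⊓ orth P.flip X := ⟨hx, hO⟩
      rw [h4, Submodule.mem_bot] at h5
      exact hx0 h5
    · have h5 : x ∈ X ⊓ orth P X := ⟨hx, fun y hy => h4 hy x hx⟩
      have h6 : X ⊓ orth P X = ⊥ := hn
      rw [h6, Submodule.mem_bot] at h5
      exact hx0 h5

/-- images of irreducible modules -/
theorem isV_range {B : Type*} [AddCommGroup B] [Module k B] {τ : Representation k (Matrix.SpecialLinearGroup (Fin 2) K) B}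
    {b : ℕ} (hB : IsV ι p τ b) (f : B →ₗ[k] V) (hf : ∀ g x, f (τ g x) = σ g (f x)) (hf0 : f ≠ 0) :
    ∃ hX : ∀ g, ∀ y ∈ LinearMap.range f, σ g y ∈ LinearMap.range f, IsV ι p (subRep σ (LinearMap.range f) hX) b := by
  have hX : ∀ g, ∀ y ∈ LinearMap.range f, σ g y ∈ LinearMap.range f := by
    rintro g _ ⟨z, rfl⟩
    exact ⟨_, hf g z⟩
  have hker : LinearMap.ker f = ⊥ := by
    rcases (IsV.irr ι p hB).2 (LinearMap.ker f) (fun g x hx => by
      rw [LinearMap.mem_ker] at hx ⊢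
      rw [hf, hx, map_zero]) with h | h
    · exact h
    · exact absurd (LinearMap.ker_eq_top.1 h) hf0
  exact ⟨hX, IsV.iso ι p (LinearEquiv.ofInjective f (LinearMap.ker_eq_bot.1 hker)) (fun g z => Subtype.ext (hf g z)) hB⟩

/-- **quotients isomorphic to the Steinberg module** -/
theorem st_split [IsAlgClosed k] (hF : Fintype.card K = p ^ a) (hfix : ∀ x, (∀ g, σ g x = x) → x = 0) {W : Submodule k V}
    (hW : ∀ g, ∀ x ∈ W, σ g x ∈ W) (hc : IsV ι p (quotRep σ W hW) (Fintype.card K - 1)) :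
    ∃ (X : Submodule k V) (hX : ∀ g, ∀ x ∈ X, σ g x ∈ X), IsV ι p (subRep σ X hX) (Fintype.card K - 1) ∧ ¬ X ≤ W := by
  have hp : p.Prime := Fact.out
  have hq := one_lt (F := K)
  have hcb : cb k K (Fintype.card K - 1) = -1 := by
    unfold cb
    rw [if_neg (lt_irrefl _)]
  obtain ⟨m, hm0, hmu, hmh, hmS, -⟩ := IsV.hw ι p hc
  have hmh' : ∀ b : Kˣ, quotRep σ W hW (Cfsg.Agent.H943.SL2Rel.h b) m = m := fun b => by
    rw [hmh, powQ ι b.ne_zero, one_smul]
  obtain ⟨x, hx⟩ := W.mkQ_surjective m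
  obtain ⟨x₁, hx₁, hxh⟩ := exists_tavg ι p σ W (c := 0) (x := x) (fun b => by
    rw [pow_zero, one_smul, ← Submodule.Quotient.mk_eq_zero, ← Submodule.mkQ_apply, map_sub, ← quotRep_mk σ W hW, hx, hmh',
      sub_self])
  have hxm : W.mkQ x₁ = m := by
    rw [← hx]
    exact (Submodule.Quotient.eq W).2 hx₁
  have hxh' : ∀ b : Kˣ, σ (Cfsg.Agent.H943.SL2Rel.h b) x₁ = x₁ := fun b => by rw [hxh, pow_zero, one_smul]
  obtain ⟨y, hy⟩ : ∃ y, y = -SS σ x₁ := ⟨_, rfl⟩
  have hym : W.mkQ y = m := by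
    have h1 : W.mkQ (SS σ x₁) = SS (quotRep σ W hW) m := by
      rw [SS_apply, SS_apply, map_sum]
      refine Finset.sum_congr rfl fun t _ => ?_
      rw [← hxm, quotRep_mk, quotRep_mk]
    rw [hy, map_neg, h1, hmS, hcb, neg_one_smul, neg_neg]
  have hyu : ∀ t, σ (u t) y = y := fun t => by rw [hy, map_neg, SS_u]
  have hyh : ∀ b, σ (Cfsg.Agent.H943.SL2Rel.h b) y = y := fun b => by rw [hy, map_neg, Cfsg.Agent.R2.H28.SL2.SS_h, hxh']
  have hyS : SS σ y = cb k K (Fintype.card K - 1) • y := by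
    have h1 := hfix _ (avg_fixed σ hyu hyh)
    rw [← SS_apply] at h1
    rw [hcb, neg_one_smul]
    exact eq_neg_of_add_eq_zero_right h1
  have hV : IsV ι p (RB (k := k) ι p (le_refl (Fintype.card K - 1))) (Fintype.card K - 1) := isV_RB le_rfl
  obtain ⟨m₁, h10, h1u, -⟩ := IsV.hw ι p hV
  obtain ⟨f, hf, hfm⟩ := gen_hw ι p σ hF hV h10 h1u hyu (fun b => by
    rw [hyh, powQ ι b.ne_zero, one_smul]) hyS (fun i hi hlt => by
      exfalso
      have h1 : (Fintype.card K - 1) / p ^ i % p = p - 1 := by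
        rw [hF]
        exact dg_top hp.one_lt hi
      have := hp.one_lt
      omega)
  have hf0 : f ≠ 0 := by
    rintro rfl
    rw [LinearMap.zero_apply] at hfm
    rw [← hfm, map_zero] at hym
    exact hm0 hym.symm
  obtain ⟨hX, hVX⟩ := isV_range hV f hf hf0
  refine ⟨_, hX, hVX, fun hle => hm0 ?_⟩
  rw [← hym]
  exact (Submodule.Quotient.mk_eq_zero W).2 (hle ⟨m₁, hfm⟩)

/-- the last vector of a tuple is isotropic -/
theorem self11 (D : Dul σ σ P) (hP : ∀ x y, P x y = P y x) {i j : ℕ} {x : ℕ → ℕ → V} (hx : TP ι p σ 1 i 1 j x) :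
    P (x 1 1) (x 1 1) = 0 := by
  have h1 := D.inv (u 1) (x 1 1) (x 0 1)
  have h2 : σ (u 1) (x 0 1) = x 0 1 + x 1 1 := by
    rw [hx.u 0 (by norm_num) 1 le_rfl 1]
    simp [Finset.sum_range_succ]
  rw [hx.top, h2, map_add] at h1
  exact left_eq_add.1 h1.symm

variable [IsAlgClosed k]

/-- **two orthogonal isomorphic submodules** -/
theorem two_copies (D : Dul σ σ P) (hP : ∀ x y, P x y = P y x) {b : ℕ} {X Y : Submodule k V}
    {hX : ∀ g, ∀ x ∈ X, σ g x ∈ X} {hY : ∀ g, ∀ x ∈ Y, σ g x ∈ Y} (hVX : IsV ι p (subRep σ X hX) b)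
    (hVY : IsV ι p (subRep σ Y hY) b) (hXY : ∀ x ∈ X, ∀ y ∈ Y, P x y = 0) (hdis : X ⊓ Y = ⊥)
    (hself : ∀ (Z : Submodule k V) (hZ : ∀ g, ∀ x ∈ Z, σ g x ∈ Z), IsV ι p (subRep σ Z hZ) b → ∀ z ∈ Z,
      (∀ t, σ (u t) z = z) → P z z = 0)
    (hall : ∀ (Z : Submodule k V) (hZ : ∀ g, ∀ x ∈ Z, σ g x ∈ Z), IsV ι p (subRep σ Z hZ) b → Nd P Z) : False := by
  obtain ⟨e, he⟩ := IsV.eqv ι p hVX hVY
  obtain ⟨x, hx0, hxu, hxh, -⟩ := IsV.hw ι p hVX
  have hy0 : e x ≠ 0 := fun h => hx0 (e.map_eq_zero_iff.1 h)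
  have hyu : ∀ t, subRep σ Y hY (u t) (e x) = e x := fun t => by rw [← he, hxu]
  have hyh : ∀ a, subRep σ Y hY (Cfsg.Agent.H943.SL2Rel.h a) (e x) = ι a ^ b • e x := fun a => by rw [← he, hxh, map_smul]
  have fu : ∀ t, σ (u t) (x : V) = x := fun t => congrArg Subtype.val (hxu t)
  have fh : ∀ a : Kˣ, σ (Cfsg.Agent.H943.SL2Rel.h a) (x : V) = ι a ^ b • (x : V) := fun a => congrArg Subtype.val (hxh a)
  have gu : ∀ t, σ (u t) (e x : V) = e x := fun t => congrArg Subtype.val (hyu t)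
  have gh : ∀ a : Kˣ, σ (Cfsg.Agent.H943.SL2Rel.h a) (e x : V) = ι a ^ b • (e x : V) := fun a => congrArg Subtype.val (hyh a)
  have hxx := hself X hX hVX x x.2 fu
  have hyy := hself Y hY hVY (e x : V) (e x).2 gu
  have hα : P (x : V) (σ w x) ≠ 0 := fun h =>
    br D hVX x.2 (fun h0 => hx0 (Subtype.ext h0)) fu fh hxx h (hall X hX hVX)
  have hβ : P (e x : V) (σ w (e x)) ≠ 0 := fun h =>
    br D hVY (e x).2 (fun h0 => hy0 (Subtype.ext h0)) gu gh hyy h (hall Y hY hVY)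
  obtain ⟨μ, hμ⟩ := IsAlgClosed.exists_pow_nat_eq (-(P (x : V) (σ w x)) / (P (e x : V) (σ w (e x)))) (n := 2) (by norm_num)
  let f : X →ₗ[k] V := X.subtype + μ • (Y.subtype ∘ₗ (e : X →ₗ[k] Y))
  have hf : ∀ z : X, f z = (z : V) + μ • (e z : V) := fun _ => rfl
  have hfe : ∀ g z, f (subRep σ X hX g z) = σ g (f z) := by
    intro g z
    rw [hf, hf, he, map_add, map_smul]
    rfl
  have hf0 : f x ≠ 0 := by
    intro h
    rw [hf] at h
    have h1 : (x : V) = (-μ) • (e x : V) := by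
      rw [neg_smul]
      exact eq_neg_of_add_eq_zero_left h
    have h2 : (x : V) ∈ X ⊓ Y := ⟨x.2, by rw [h1]; exact Y.smul_mem _ (e x).2⟩
    rw [hdis, Submodule.mem_bot] at h2
    exact hx0 (Subtype.ext h2)
  obtain ⟨hZ, hVZ⟩ := isV_range hVX f hfe (fun h => hf0 (by rw [h]; rfl))
  have hzu : ∀ t, σ (u t) (f x) = f x := fun t => by rw [← hfe, hxu]
  have hzh : ∀ a : Kˣ, σ (Cfsg.Agent.H943.SL2Rel.h a) (f x) = ι a ^ b • f x := fun a => by rw [← hfe, hxh, map_smul]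
  refine br D hVZ ⟨x, rfl⟩ hf0 hzu hzh (hself _ hZ hVZ _ ⟨x, rfl⟩ hzu) ?_ (hall _ hZ hVZ)
  have c1 : P (x : V) (σ w (e x)) = 0 := hXY _ x.2 _ (hY _ _ (e x).2)
  have c2 : P (e x : V) (σ w x) = 0 := by
    rw [hP]
    exact hXY _ (hX _ _ x.2) _ (e x).2
  rw [hf, map_add, map_smul, map_add, map_add, LinearMap.add_apply, LinearMap.add_apply, map_smul, map_smul, map_smul,
    LinearMap.smul_apply, LinearMap.smul_apply, c1, c2]
  simp only [smul_eq_mul, mul_zero, add_zero, zero_add]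
  have h3 : μ * (μ * P (e x : V) (σ w (e x))) = μ ^ 2 * P (e x : V) (σ w (e x)) := by ring
  rw [h3, hμ]
  field_simp
  ring

end Cfsg.Agent.R2.F4P.Th
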