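import Cfsg.Agent.R2.F4P.Th.SkI

/-!
# S5931, `p = 3`, the skeleton : the coefficients of `y(σ, τ) ^ #` (helper17)

* `uniq2` : polynomial identities over infinite fields;
* `exists_kk` : `y(σ, τ) ^ # = Σ σ^A τ^B k_AB`; the action of `SL(2, K)` on the `k_AB`.
-/

set_option autoImplicit false
set_option linter.unusedSectionVars false
set_option linter.unusedVariables false

namespace Cfsg.Agent.R2.F4P.Th

open Cfsg.Lie
open Cfsg.Agent.ChevalleyStructure.E6Min.Tables Cfsg.Agent.ChevalleyStructure.E6Min.Basic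
open Cfsg.Agent.H952.F4 (sh cr tf tr1 u0)
open Cfsg.Agent.H952.F4.Jord
open Cfsg.Agent.H943.SL2Rel Cfsg.Agent.H943.SL2Mod Cfsg.Agent.R2.H28.SL2 Cfsg.Agent.H943.RepAdd
open Cfsg.Agent.R2.F4L
open Cfsg.Agent.R2.GEO (crB crB_apply)

universe u v w

section Poly

variable {k : Type u} [Field k] [Infinite k]

theorem uniq1 {J : Type*} {N : ℕ} {c : ℕ → J → k} (h : ∀ σ : k, σ ≠ 0 → ∑ A ∈ Finset.range N, σ ^ A • c A = 0) :
    ∀ A < N, c A = 0 := by
  intro A hA
  funext x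
  let f : Polynomial k := ∑ A ∈ Finset.range N, Polynomial.monomial A (c A x)
  have h1 : Polynomial.X * f = 0 := by
    refine Polynomial.funext fun σ => ?_
    rw [Polynomial.eval_mul, Polynomial.eval_X, Polynomial.eval_zero]
    by_cases hσ : σ = 0
    · rw [hσ, zero_mul]
    · have h2 := congrFun (h σ hσ) x
      rw [Finset.sum_apply] at h2
      rw [Polynomial.eval_finsetSum]
      have h3 : ∑ i ∈ Finset.range N, Polynomial.eval σ (Polynomial.monomial i (c i x)) = 0 := by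
        refine Eq.trans (Finset.sum_congr rfl fun i _ => ?_) h2
        rw [Polynomial.eval_monomial, mul_comm]
        rfl
      rw [h3, mul_zero]
  have h2 : f = 0 := (mul_eq_zero.1 h1).resolve_left Polynomial.X_ne_zero
  have h3 : f.coeff A = c A x := by
    rw [Polynomial.finsetSum_coeff, Finset.sum_eq_single A]
    · rw [Polynomial.coeff_monomial, if_pos rfl]
    · intro b _ hb
      rw [Polynomial.coeff_monomial, if_neg hb]
    · intro h0
      exact absurd (Finset.mem_range.2 hA) h0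
  rw [← h3, h2, Polynomial.coeff_zero]
  rfl

theorem uniq2 {J : Type*} {N M : ℕ} {c : ℕ → ℕ → J → k} (h : ∀ σ τ : k, σ ≠ 0 → τ ≠ 0 →
    ∑ A ∈ Finset.range N, ∑ B ∈ Finset.range M, (σ ^ A * τ ^ B) • c A B = 0) : ∀ A < N, ∀ B < M, c A B = 0 := by
  intro A hA
  refine uniq1 fun τ hτ => ?_
  refine uniq1 (c := fun A => ∑ B ∈ Finset.range M, τ ^ B • c A B) (fun σ hσ => ?_) A hA
  rw [← h σ τ hσ hτ]
  refine Finset.sum_congr rfl fun A _ => ?_
  rw [Finset.smul_sum]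
  exact Finset.sum_congr rfl fun B _ => smul_smul _ _ _

end Poly

section KK

variable {k : Type u} [Field k]

theorem yy_eq (y : ℕ → ℕ → I27 → k) (σ τ : k) : yy y σ τ =
    ∑ x ∈ Finset.range 3 ×ˢ Finset.range 3, (σ ^ x.1 * τ ^ x.2) • ((((2 : ℕ).choose x.1 : k) * ((2 : ℕ).choose x.2 : k)) • y x.1 x.2) := by
  rw [Finset.sum_product]
  simp only [Finset.sum_range_succ, Finset.sum_range_zero, zero_add, Nat.choose_zero_right, Nat.choose_self, Nat.cast_one,
    pow_zero, pow_one, one_mul, mul_one, one_smul]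
  unfold yy
  norm_num [Nat.choose]
  module

/-- **the coefficients** -/
theorem exists_kk (h2 : (2 : k) ≠ 0) (y : ℕ → ℕ → I27 → k) : ∃ kk : ℕ → ℕ → I27 → k, ∀ σ τ : k,
    sh (yy y σ τ) = ∑ A ∈ Finset.range 5, ∑ B ∈ Finset.range 5, (σ ^ A * τ ^ B) • kk A B := by
  let S : Finset (ℕ × ℕ) := Finset.range 3 ×ˢ Finset.range 3
  let v : ℕ × ℕ → I27 → k := fun x => (((2 : ℕ).choose x.1 : k) * ((2 : ℕ).choose x.2 : k)) • y x.1 x.2
  refine ⟨fun A B => (2 : k)⁻¹ • ∑ x ∈ S, ∑ x' ∈ S, if x.1 + x'.1 = A ∧ x.2 + x'.2 = B then cr (v x) (v x') else 0,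
    fun σ τ => ?_⟩
  have e1 : yy y σ τ = ∑ x ∈ S, (σ ^ x.1 * τ ^ x.2) • v x := yy_eq y σ τ
  have e2 : sh (yy y σ τ) = (2 : k)⁻¹ • cr (yy y σ τ) (yy y σ τ) := by
    rw [cr_self, smul_smul, inv_mul_cancel₀ h2, one_smul]
  have e3 : cr (yy y σ τ) (yy y σ τ) = ∑ x ∈ S, ∑ x' ∈ S, (σ ^ (x.1 + x'.1) * τ ^ (x.2 + x'.2)) • cr (v x) (v x') := by
    rw [e1, ← crB_apply, LinearMap.map_sum₂]
    refine Finset.sum_congr rfl fun x _ => ?_
    rw [map_sum]
    refine Finset.sum_congr rfl fun x' _ => ?_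
    rw [crB_apply, cr_smul_left, cr_smul_right, smul_smul]
    congr 1
    ring
  have e4 : ∀ x ∈ S, ∀ x' ∈ S, ∑ A ∈ Finset.range 5, ∑ B ∈ Finset.range 5,
      (σ ^ A * τ ^ B) • (if x.1 + x'.1 = A ∧ x.2 + x'.2 = B then cr (v x) (v x') else 0) =
      (σ ^ (x.1 + x'.1) * τ ^ (x.2 + x'.2)) • cr (v x) (v x') := by
    intro x hx x' hx'
    rw [Finset.mem_product, Finset.mem_range, Finset.mem_range] at hx hx'
    rw [Finset.sum_eq_single (x.1 + x'.1), Finset.sum_eq_single (x.2 + x'.2), if_pos ⟨rfl, rfl⟩]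
    · intro B _ hB
      rw [if_neg (fun h => hB h.2.symm), smul_zero]
    · intro h
      exact absurd (Finset.mem_range.2 (by omega)) h
    · intro A _ hA
      refine Finset.sum_eq_zero fun B _ => ?_
      rw [if_neg (fun h => hA h.1.symm), smul_zero]
    · intro h
      exact absurd (Finset.mem_range.2 (by omega)) h
  rw [e2, e3]
  calc (2 : k)⁻¹ • ∑ x ∈ S, ∑ x' ∈ S, (σ ^ (x.1 + x'.1) * τ ^ (x.2 + x'.2)) • cr (v x) (v x')
      = (2 : k)⁻¹ • ∑ x ∈ S, ∑ x' ∈ S, ∑ A ∈ Finset.range 5, ∑ B ∈ Finset.range 5,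
        (σ ^ A * τ ^ B) • (if x.1 + x'.1 = A ∧ x.2 + x'.2 = B then cr (v x) (v x') else 0) := by
        congr 1
        exact Finset.sum_congr rfl fun x hx => Finset.sum_congr rfl fun x' hx' => (e4 x hx x' hx').symm
    _ = (2 : k)⁻¹ • ∑ A ∈ Finset.range 5, ∑ B ∈ Finset.range 5, ∑ x ∈ S, ∑ x' ∈ S,
        (σ ^ A * τ ^ B) • (if x.1 + x'.1 = A ∧ x.2 + x'.2 = B then cr (v x) (v x') else 0) := by
        congr 1
        calc _ = ∑ x ∈ S, ∑ A ∈ Finset.range 5, ∑ B ∈ Finset.range 5, ∑ x' ∈ S,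
              (σ ^ A * τ ^ B) • (if x.1 + x'.1 = A ∧ x.2 + x'.2 = B then cr (v x) (v x') else 0) := by
              refine Finset.sum_congr rfl fun x _ => ?_
              rw [Finset.sum_comm]
              refine Finset.sum_congr rfl fun A _ => ?_
              rw [Finset.sum_comm]
          _ = _ := by
              rw [Finset.sum_comm]
              refine Finset.sum_congr rfl fun A _ => ?_
              rw [Finset.sum_comm]
    _ = _ := by
        rw [Finset.smul_sum]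
        refine Finset.sum_congr rfl fun A _ => ?_
        rw [Finset.smul_sum]
        refine Finset.sum_congr rfl fun B _ => ?_
        rw [smul_comm (σ ^ A * τ ^ B) ((2 : k)⁻¹)]
        congr 1
        rw [Finset.smul_sum]
        refine Finset.sum_congr rfl fun x _ => ?_
        rw [Finset.smul_sum]

end KK

section Act

variable {k : Type u} [Field k] [DecidableEq k] {K : Type w} [Field K] [Fintype K] [DecidableEq K] {ι : K →+* k}
variable [CharP k 3] [CharP K 3]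
variable {ρ : Representation k (Matrix.SpecialLinearGroup (Fin 2) K) (I27 → k)} {i j : ℕ} {y : ℕ → ℕ → I27 → k}

theorem yy_u (hy : TP ι 3 ρ 2 i 2 j y) (t : K) (σ τ : k) :
    ρ (u t) (yy y σ τ) = yy y (σ + ι t ^ 3 ^ i) (τ + ι t ^ 3 ^ j) := by
  unfold yy
  simp only [map_add, map_smul]
  rw [hy.u 0 (by norm_num) 0 (by norm_num), hy.u 1 (by norm_num) 0 (by norm_num), hy.u 2 le_rfl 0 (by norm_num),
    hy.u 0 (by norm_num) 1 (by norm_num), hy.u 1 (by norm_num) 1 (by norm_num), hy.u 2 le_rfl 1 (by norm_num),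
    hy.u 0 (by norm_num) 2 le_rfl, hy.u 1 (by norm_num) 2 le_rfl, hy.u 2 le_rfl 2 le_rfl]
  generalize ι t ^ 3 ^ i = s
  generalize ι t ^ 3 ^ j = r
  norm_num [Finset.sum_range_succ, Nat.choose]
  module

theorem yy_h (hy : TP ι 3 ρ 2 i 2 j y) (b : Kˣ) (σ τ : k) :
    ρ (h b) (yy y σ τ) = (((ι b ^ 3 ^ i)⁻¹ ^ 2) * ((ι b ^ 3 ^ j)⁻¹ ^ 2)) •
      yy y ((ι b ^ 3 ^ i) ^ 2 * σ) ((ι b ^ 3 ^ j) ^ 2 * τ) := by
  have hb : ι (b : K) ≠ 0 := (map_ne_zero ι).2 b.ne_zero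
  have h1 : ι (b : K) ^ 3 ^ i ≠ 0 := pow_ne_zero _ hb
  have h2 : ι (b : K) ^ 3 ^ j ≠ 0 := pow_ne_zero _ hb
  unfold yy
  simp only [map_add, map_smul]
  rw [hy.h 0 (by norm_num) 0 (by norm_num), hy.h 1 (by norm_num) 0 (by norm_num), hy.h 2 le_rfl 0 (by norm_num),
    hy.h 0 (by norm_num) 1 (by norm_num), hy.h 1 (by norm_num) 1 (by norm_num), hy.h 2 le_rfl 1 (by norm_num),
    hy.h 0 (by norm_num) 2 le_rfl, hy.h 1 (by norm_num) 2 le_rfl, hy.h 2 le_rfl 2 le_rfl]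
  generalize ι (b : K) ^ 3 ^ i = s at h1 ⊢
  generalize ι (b : K) ^ 3 ^ j = r at h2 ⊢
  norm_num
  match_scalars <;> field_simp

theorem yy_w (hy : TP ι 3 ρ 2 i 2 j y) {σ τ : k} (hσ : σ ≠ 0) (hτ : τ ≠ 0) :
    ρ w (yy y σ τ) = (σ ^ 2 * τ ^ 2) • yy y (-σ⁻¹) (-τ⁻¹) := by
  unfold yy
  simp only [map_add, map_smul]
  rw [hy.w 0 (by norm_num) 0 (by norm_num), hy.w 1 (by norm_num) 0 (by norm_num), hy.w 2 le_rfl 0 (by norm_num),
    hy.w 0 (by norm_num) 1 (by norm_num), hy.w 1 (by norm_num) 1 (by norm_num), hy.w 2 le_rfl 1 (by norm_num),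
    hy.w 0 (by norm_num) 2 le_rfl, hy.w 1 (by norm_num) 2 le_rfl, hy.w 2 le_rfl 2 le_rfl]
  norm_num
  match_scalars <;> field_simp

end Act

end Cfsg.Agent.R2.F4P.Th
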