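import Cfsg.Agent.R2.F4P.Th.SkA

/-!
# S5931, `p = 3`, the skeleton : labels (helper17)

* `card3` : the labels of dimensions 1, 2, 3, 4, 6, 9, 12;
* `card_ev` : even labels of dimension at most 25;
* `hb3` : the exceptional labels have dimension 4;
* `IsV.ev` : labels of modules with `σ (-1) = 1` are even.
-/

set_option autoImplicit false
set_option linter.unusedSectionVars false
set_option linter.unusedVariables false

namespace Cfsg.Agent.R2.F4P.Th

open Cfsg.Agent.H943.SL2Rel Cfsg.Agent.H943.SL2Mod Cfsg.Agent.R2.H28.SL2 Cfsg.Agent.H943.RepAdd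
open Cfsg.Agent.R2.F4L

universe u v w

section Card

variable (k : Type*) [Field k] [DecidableEq k] [CharP k 3]

theorem card_fac (b : ℕ) : ∃ r s, (Bf k b).card = 2 ^ r * 3 ^ s ∧ b % 2 = r % 2 := by
  induction b using Nat.strong_induction_on with
  | _ b ih =>
    rcases Nat.eq_zero_or_pos b with rfl | hb
    · exact ⟨0, 0, by rw [card_Bf_zero]; norm_num, rfl⟩
    obtain ⟨r, s, h1, h2⟩ := ih (b / 3) (Nat.div_lt_self hb (by norm_num))
    have h3 := card_Bf_low k 3 b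
    rw [h1] at h3
    have h4 := Nat.mod_lt b (show 0 < 3 by norm_num)
    have h5 : b % 3 = 0 ∨ b % 3 = 1 ∨ b % 3 = 2 := by omega
    rcases h5 with h5 | h5 | h5
    · refine ⟨r, s, ?_, by omega⟩
      rw [h3, h5]
      ring
    · refine ⟨r + 1, s, ?_, by omega⟩
      rw [h3, h5]
      ring
    · refine ⟨r, s + 1, ?_, by omega⟩
      rw [h3, h5]
      ring

theorem card_pos (b : ℕ) : 0 < (Bf k b).card := by
  rcases Nat.eq_zero_or_pos b with h | h
  · rw [h, card_Bf_zero]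
    omega
  · have := card_Bf_pos (k := k) h
    omega

theorem card3 (b : ℕ) : ((Bf k b).card = 1 → b = 0) ∧ ((Bf k b).card = 2 → ∃ l, b = 3 ^ l) ∧
    ((Bf k b).card = 3 → ∃ l, b = 2 * 3 ^ l) ∧ ((Bf k b).card = 4 → ∃ i j, i < j ∧ b = 3 ^ i + 3 ^ j) ∧
    ((Bf k b).card = 6 → ∃ i j, i ≠ j ∧ b = 3 ^ i + 2 * 3 ^ j) ∧
    ((Bf k b).card = 9 → ∃ i j, i < j ∧ b = 2 * 3 ^ i + 2 * 3 ^ j) ∧
    ((Bf k b).card = 12 → ∃ i j l, i < j ∧ l ≠ i ∧ l ≠ j ∧ b = 3 ^ i + 3 ^ j + 2 * 3 ^ l) := by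
  induction b using Nat.strong_induction_on with
  | _ b ih =>
    rcases Nat.eq_zero_or_pos b with rfl | hb
    · rw [card_Bf_zero]
      refine ⟨fun _ => rfl, fun h => ?_, fun h => ?_, fun h => ?_, fun h => ?_, fun h => ?_, fun h => ?_⟩ <;> omega
    obtain ⟨k1, k2, k3, k4, k6, k9, k12⟩ := ih (b / 3) (Nat.div_lt_self hb (by norm_num))
    have h1 := card_Bf_low k 3 b
    have h3 := Nat.div_add_mod b 3
    have hpos := card_pos k (b / 3)
    obtain ⟨b', hb'⟩ : ∃ b', b' = b / 3 := ⟨_, rfl⟩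
    obtain ⟨d, hd⟩ : ∃ d, d = (Bf k (b / 3)).card := ⟨_, rfl⟩
    rw [← hd] at h1 hpos k1 k2 k3 k4 k6 k9 k12
    rw [← hb'] at h3 k1 k2 k3 k4 k6 k9 k12
    rw [h1]
    have h4 := Nat.mod_lt b (show 0 < 3 by norm_num)
    have h5 : b % 3 = 0 ∨ b % 3 = 1 ∨ b % 3 = 2 := by omega
    rcases h5 with h5 | h5 | h5
    · rw [h5] at h3 ⊢
      rw [zero_add, one_mul]
      refine ⟨fun h => ?_, fun h => ?_, fun h => ?_, fun h => ?_, fun h => ?_, fun h => ?_, fun h => ?_⟩
      · have := k1 h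
        omega
      · obtain ⟨l, e⟩ := k2 h
        exact ⟨l + 1, by rw [← h3, e]; ring⟩
      · obtain ⟨l, e⟩ := k3 h
        exact ⟨l + 1, by rw [← h3, e]; ring⟩
      · obtain ⟨i, j, hij, e⟩ := k4 h
        exact ⟨i + 1, j + 1, by omega, by rw [← h3, e]; ring⟩
      · obtain ⟨i, j, hij, e⟩ := k6 h
        exact ⟨i + 1, j + 1, by omega, by rw [← h3, e]; ring⟩
      · obtain ⟨i, j, hij, e⟩ := k9 h
        exact ⟨i + 1, j + 1, by omega, by rw [← h3, e]; ring⟩
      · obtain ⟨i, j, l, h6, h7, h8, e⟩ := k12 h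
        exact ⟨i + 1, j + 1, l + 1, by omega, by omega, by omega, by rw [← h3, e]; ring⟩
    · rw [h5] at h3 ⊢
      refine ⟨fun h => ?_, fun h => ?_, fun h => ?_, fun h => ?_, fun h => ?_, fun h => ?_, fun h => ?_⟩
      · omega
      · have e := k1 (by omega)
        exact ⟨0, by rw [← h3, e]; norm_num⟩
      · omega
      · obtain ⟨l, e⟩ := k2 (by omega)
        exact ⟨0, l + 1, by omega, by rw [← h3, e]; ring⟩
      · obtain ⟨l, e⟩ := k3 (by omega)
        exact ⟨0, l + 1, by omega, by rw [← h3, e]; ring⟩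
      · omega
      · obtain ⟨i, j, hij, e⟩ := k6 (by omega)
        exact ⟨0, i + 1, j + 1, by omega, by omega, by omega, by rw [← h3, e]; ring⟩
    · rw [h5] at h3 ⊢
      refine ⟨fun h => ?_, fun h => ?_, fun h => ?_, fun h => ?_, fun h => ?_, fun h => ?_, fun h => ?_⟩
      · omega
      · omega
      · have e := k1 (by omega)
        exact ⟨0, by rw [← h3, e]; norm_num⟩
      · omega
      · obtain ⟨l, e⟩ := k2 (by omega)
        exact ⟨l + 1, 0, by omega, by rw [← h3, e]; ring⟩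
      · obtain ⟨l, e⟩ := k3 (by omega)
        exact ⟨0, l + 1, by omega, by rw [← h3, e]; ring⟩
      · obtain ⟨i, j, hij, e⟩ := k4 (by omega)
        exact ⟨i + 1, j + 1, 0, by omega, by omega, by omega, by rw [← h3, e]; ring⟩

/-- even labels of small dimension -/
theorem card_ev {b : ℕ} (hb : b % 2 = 0) (hd : (Bf k b).card ≤ 25) : (Bf k b).card = 1 ∨ (Bf k b).card = 3 ∨
    (Bf k b).card = 4 ∨ (Bf k b).card = 9 ∨ (Bf k b).card = 12 ∨ (Bf k b).card = 16 := by
  obtain ⟨r, s, h1, h2⟩ := card_fac k b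
  have h3 : 0 < 2 ^ r := Nat.pow_pos (by norm_num)
  have h3' : 0 < 3 ^ s := Nat.pow_pos (by norm_num)
  have hr : r < 5 := by
    by_contra hc
    have h4 : 2 ^ 5 ≤ 2 ^ r := Nat.pow_le_pow_right (by norm_num) (by omega)
    have h5 : 2 ^ r * 1 ≤ 2 ^ r * 3 ^ s := Nat.mul_le_mul_left _ h3'
    omega
  have hs : s < 3 := by
    by_contra hc
    have h4 : 3 ^ 3 ≤ 3 ^ s := Nat.pow_le_pow_right (by norm_num) (by omega)
    have h5 : 1 * 3 ^ s ≤ 2 ^ r * 3 ^ s := Nat.mul_le_mul_right _ h3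
    omega
  rw [h1] at hd ⊢
  clear h1 h3 h3'
  interval_cases r <;> interval_cases s <;> omega

theorem card_pow (i : ℕ) : (Bf k (3 ^ i)).card = 2 := by
  induction i with
  | zero =>
    have h := card_Bf_mul k 3 0 (r := 1) (by norm_num)
    rw [card_Bf_zero] at h
    exact h
  | succ i ih =>
    have h := card_Bf_mul k 3 (3 ^ i) (r := 0) (by norm_num)
    rw [ih] at h
    rw [pow_succ, mul_comm]
    simpa using h

theorem card_pair (i : ℕ) : ∀ j, i ≠ j → (Bf k (3 ^ i + 3 ^ j)).card = 4 := by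
  induction i with
  | zero =>
    intro j hj
    obtain ⟨j', rfl⟩ : ∃ j', j = j' + 1 := ⟨j - 1, by omega⟩
    have h := card_Bf_mul k 3 (3 ^ j') (r := 1) (by norm_num)
    rw [card_pow] at h
    rw [pow_zero, pow_succ, show 1 + 3 ^ j' * 3 = 3 * 3 ^ j' + 1 by ring, h]
  | succ i ih =>
    intro j hj
    rcases Nat.eq_zero_or_pos j with rfl | hj0
    · have h := card_Bf_mul k 3 (3 ^ i) (r := 1) (by norm_num)
      rw [card_pow] at h
      rw [pow_zero, pow_succ, show 3 ^ i * 3 + 1 = 3 * 3 ^ i + 1 by ring, h]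
    · obtain ⟨j', rfl⟩ : ∃ j', j = j' + 1 := ⟨j - 1, by omega⟩
      have h := card_Bf_mul k 3 (3 ^ i + 3 ^ j') (r := 0) (by norm_num)
      rw [ih j' (by omega)] at h
      rw [pow_succ, pow_succ, show 3 ^ i * 3 + 3 ^ j' * 3 = 3 * (3 ^ i + 3 ^ j') + 0 by ring, h]

/-- **the exceptional labels have dimension 4** -/
theorem hb3 {a b : ℕ} (ha : 2 ≤ a) (hb' : b < 3 ^ a) (h4 : (Bf k b).card ≠ 4) : hb 3 a b = 0 := by
  unfold hb
  rw [Finset.card_eq_zero, Finset.filter_eq_empty_iff]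
  intro i hi hE
  rw [Finset.mem_range] at hi
  rcases exc_odd Nat.prime_three (by norm_num) hi hb' hE with h1 | h1
  · omega
  · apply h4
    rw [h1.2, show 3 - 2 = 1 by norm_num, one_mul]
    exact card_pair k i _ (succ_mod_ne ha hi)

end Card

variable {k : Type u} [Field k] [DecidableEq k] {K : Type w} [Field K] [Fintype K] [DecidableEq K] {ι : K →+* k}
variable {p : ℕ} [Fact p.Prime] [CharP k p] [CharP K p]
variable {V : Type v} [AddCommGroup V] [Module k V]
  {σ : Representation k (Matrix.SpecialLinearGroup (Fin 2) K) V}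

theorem h_neg_one : (Cfsg.Agent.H943.SL2Rel.h (-1 : Kˣ) : Matrix.SpecialLinearGroup (Fin 2) K) = -1 := by
  ext i j
  fin_cases i <;> fin_cases j <;> simp [Cfsg.Agent.H943.SL2Rel.h]

/-- **parity** -/
theorem IsV.ev (hp2 : p ≠ 2) {b : ℕ} (hV : IsV ι p σ b) (hneg : ∀ x, σ (-1) x = x) : b % 2 = 0 := by
  obtain ⟨m, hm0, -, hmh, -⟩ := IsV.hw ι p hV
  have h1 := hmh (-1)
  rw [h_neg_one, hneg] at h1
  by_contra hb
  have h2 : ι ((-1 : Kˣ) : K) ^ b = -1 := by
    rw [Units.val_neg, Units.val_one, map_neg, map_one]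
    exact Odd.neg_one_pow (Nat.odd_iff.2 (by omega))
  rw [h2, neg_one_smul] at h1
  have h3 : (2 : k) • m = 0 := by
    rw [two_smul]
    nth_rewrite 1 [h1]
    exact neg_add_cancel m
  exact hm0 ((smul_eq_zero.1 h3).resolve_left (two_ne p hp2))

end Cfsg.Agent.R2.F4P.Th
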