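import Cfsg.Agent.R2.F4P.Th.Def

/-!
# Two-digit tuples and submodules (helper20, S5931)

* `TP.linb` : the homomorphism of a tuple; `TP.isVb` : the span of a nonzero tuple is `V_{n p^i + m p^j}`, the tuple is
  linearly independent; `TP.schurb` : two tuples in an irreducible module are proportional.
-/

set_option autoImplicit false
set_option linter.unusedSectionVars false
set_option linter.unusedVariables false

namespace Cfsg.Agent.R2.F4P.Th

open Cfsg.Agent.H943.SL2Rel Cfsg.Agent.H943.SL2Mod Cfsg.Agent.R2.H28.SL2 Cfsg.Agent.H943.RepAdd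
open Cfsg.Agent.R2.F4L

universe u v w

variable {k : Type u} [Field k] [DecidableEq k] {K : Type w} [Field K] [Fintype K] [DecidableEq K] {ι : K →+* k}
variable {p : ℕ} [Fact p.Prime] [CharP k p] [CharP K p] {a : ℕ}
variable {V : Type v} [AddCommGroup V] [Module k V] {σ : Representation k (Matrix.SpecialLinearGroup (Fin 2) K) V}
variable {n m i j : ℕ} {x y : ℕ → ℕ → V}

/-- **the homomorphism of a tuple** -/
theorem TP.linb {M : Type*} [AddCommGroup M] [Module k M] {τ : Representation k (Matrix.SpecialLinearGroup (Fin 2) K) M}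
    {v : ℕ → ℕ → M} (hv : BasP ι p τ n i m j v) (hx : TP ι p σ n i m j x) :
    ∃ f : M →ₗ[k] V, (∀ s s', f (v s s') = x s s') ∧ ∀ g m, f (τ g m) = σ g (f m) := by
  let B : Module.Basis (Fin (n + 1) × Fin (m + 1)) k M := Module.Basis.mk hv.li hv.sp
  have hB : ∀ s : Fin (n + 1) × Fin (m + 1), B s = v s.1 s.2 := fun s => Module.Basis.mk_apply _ _ _
  let f : M →ₗ[k] V := B.constr k fun s : Fin (n + 1) × Fin (m + 1) => x s.1 s.2
  have hf0 : ∀ s : Fin (n + 1) × Fin (m + 1), f (v s.1 s.2) = x s.1 s.2 := fun s => by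
    rw [← hB, Module.Basis.constr_basis]
  have hf : ∀ s s', f (v s s') = x s s' := by
    intro s s'
    by_cases hs : s ≤ n ∧ s' ≤ m
    · exact hf0 (⟨s, by omega⟩, ⟨s', by omega⟩)
    · rw [hv.zero s s' (by omega), hx.zero s s' (by omega), map_zero]
  have ext : ∀ g, (∀ s ≤ n, ∀ s' ≤ m, f (τ g (v s s')) = σ g (x s s')) → ∀ m, f (τ g m) = σ g (f m) := by
    intro g hg m'
    have h1 : f ∘ₗ τ g = σ g ∘ₗ f := by
      refine B.ext fun s => ?_
      rw [LinearMap.comp_apply, LinearMap.comp_apply, hB, hf]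
      exact hg s.1 (by omega) s.2 (by omega)
    exact LinearMap.congr_fun h1 m'
  refine ⟨f, hf, ?_⟩
  refine induct (P := fun g => ∀ m, f (τ g m) = σ g (f m)) (fun t => ext _ fun s hs s' hs' => ?_)
    (fun b => ext _ fun s hs s' hs' => ?_) (ext _ fun s hs s' hs' => ?_) (fun g g' hg hg' m => ?_)
  · rw [hv.u s hs s' hs', hx.u s hs s' hs', map_sum]
    refine Finset.sum_congr rfl fun l _ => ?_
    rw [map_sum]
    exact Finset.sum_congr rfl fun l' _ => by rw [map_smul, hf]
  · rw [hv.h s hs s' hs', hx.h s hs s' hs', map_smul, hf]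
  · rw [hv.w s hs s' hs', hx.w s hs s' hs', map_smul, hf]
  · rw [map_mul, map_mul, Module.End.mul_apply, Module.End.mul_apply, hg, hg']

omit [CharP k p] [CharP K p] in
/-- labels with two digits -/
theorem label_lt2 (hF : Fintype.card K = p ^ a) (hn : n < p) (hm : m < p) (hij : i ≠ j) (hi : i < a) (hj : j < a) :
    n * p ^ i + m * p ^ j ≤ Fintype.card K - 1 := by
  have hp : p.Prime := Fact.out
  have key : ∀ {n m i j : ℕ}, n < p → m < p → i < j → j < a → n * p ^ i + m * p ^ j < p ^ a := by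
    intro n m i j hn hm hij hj
    have h1 : n * p ^ i < p ^ j := by
      calc n * p ^ i < p * p ^ i := Nat.mul_lt_mul_of_pos_right hn (pow_pos hp.pos _)
        _ = p ^ (i + 1) := by rw [pow_succ, mul_comm]
        _ ≤ p ^ j := Nat.pow_le_pow_right hp.pos hij
    calc n * p ^ i + m * p ^ j < p ^ j + m * p ^ j := by omega
      _ = (m + 1) * p ^ j := by ring
      _ ≤ p * p ^ j := Nat.mul_le_mul_right _ hm
      _ = p ^ (j + 1) := by rw [pow_succ, mul_comm]
      _ ≤ p ^ a := Nat.pow_le_pow_right hp.pos hj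
  rw [hF]
  rcases lt_or_gt_of_ne hij with h | h
  · have := key hn hm h hj
    omega
  · have := key hm hn h hi
    omega

section

variable [IsAlgClosed k]

/-- an embedding of `V_{n p^i + m p^j}` -/
theorem TP.emb (hF : Fintype.card K = p ^ a) (hn : n < p) (hm : m < p) (hij : i ≠ j) (hi : i < a) (hj : j < a)
    (hx : TP ι p σ n i m j x) (hx0 : x ≠ 0) :
    ∃ (M : Type (max u w)) (_ : AddCommGroup M) (_ : Module k M) (τ : Representation k (Matrix.SpecialLinearGroup (Fin 2) K) M)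
      (v : ℕ → ℕ → M) (f : M →ₗ[k] V), IsV ι p τ (n * p ^ i + m * p ^ j) ∧ BasP ι p τ n i m j v ∧
      (∀ s s', f (v s s') = x s s') ∧ (∀ g m, f (τ g m) = σ g (f m)) ∧ Function.Injective f := by
  have hb := label_lt2 (a := a) (K := K) hF hn hm hij hi hj
  have hV : IsV ι p (RB (k := k) ι p hb) (n * p ^ i + m * p ^ j) := ⟨hb, LinearEquiv.refl k _, fun _ _ => rfl⟩
  obtain ⟨v, hv⟩ := hV.basP ι p hF hn hm hij hi hj
  obtain ⟨f, hf, he⟩ := hx.linb hv
  have hne : f ≠ 0 := by
    intro h0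
    apply hx0
    funext s s'
    rw [← hf s s', h0]
    rfl
  have hker : LinearMap.ker f = ⊥ := by
    rcases (IsV.irr ι p hV).2 (LinearMap.ker f) (fun g m hm => by
      rw [LinearMap.mem_ker] at hm ⊢
      rw [he, hm, map_zero]) with h1 | h1
    · exact h1
    · exfalso
      exact hne (LinearMap.ker_eq_top.1 h1)
  exact ⟨_, _, _, _, v, f, hV, hv, hf, he, LinearMap.ker_eq_bot.1 hker⟩

/-- **linear independence** -/
theorem TP.li (hF : Fintype.card K = p ^ a) (hn : n < p) (hm : m < p) (hij : i ≠ j) (hi : i < a) (hj : j < a)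
    (hx : TP ι p σ n i m j x) (hx0 : x ≠ 0) :
    LinearIndependent k (fun q : Fin (n + 1) × Fin (m + 1) => x q.1 q.2) := by
  obtain ⟨M, _, _, τ, v, f, hV, hv, hf, he, hinj⟩ := hx.emb hF hn hm hij hi hj hx0
  have h1 := hv.li.map' f (LinearMap.ker_eq_bot.2 hinj)
  have h2 : (f ∘ fun q : Fin (n + 1) × Fin (m + 1) => v q.1 q.2) = fun q : Fin (n + 1) × Fin (m + 1) => x q.1 q.2 := by
    funext q
    exact hf _ _
  rw [h2] at h1
  exact h1

/-- a nonzero tuple has no zero entries -/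
theorem TP.ne_of (hF : Fintype.card K = p ^ a) (hn : n < p) (hm : m < p) (hij : i ≠ j) (hi : i < a) (hj : j < a)
    (hx : TP ι p σ n i m j x) (hx0 : x ≠ 0) {s s' : ℕ} (hs : s ≤ n) (hs' : s' ≤ m) : x s s' ≠ 0 :=
  (hx.li hF hn hm hij hi hj hx0).ne_zero (⟨s, by omega⟩, ⟨s', by omega⟩)

/-- the elements of the span -/
theorem TP.mem_span (hx : TP ι p σ n i m j x) {v : V} (hv : v ∈ Submodule.span k (Set.range fun q : ℕ × ℕ => x q.1 q.2)) :
    ∃ c : ℕ → ℕ → k, v = ∑ s ∈ Finset.range (n + 1), ∑ s' ∈ Finset.range (m + 1), c s s' • x s s' := by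
  induction hv using Submodule.span_induction with
  | mem v hv =>
    obtain ⟨⟨s, s'⟩, rfl⟩ := hv
    by_cases hs : s ≤ n ∧ s' ≤ m
    · refine ⟨fun l l' => if l = s ∧ l' = s' then 1 else 0, ?_⟩
      rw [Finset.sum_eq_single s, Finset.sum_eq_single s']
      · show x s s' = (if s = s ∧ s' = s' then (1 : k) else 0) • x s s'
        rw [if_pos ⟨rfl, rfl⟩, one_smul]
      · intro l _ hl
        show (if s = s ∧ l = s' then (1 : k) else 0) • x s l = 0
        rw [if_neg (fun h => hl h.2), zero_smul]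
      · intro h
        exact absurd (Finset.mem_range.2 (by omega)) h
      · intro l _ hl
        refine Finset.sum_eq_zero fun l' _ => ?_
        show (if l = s ∧ l' = s' then (1 : k) else 0) • x l l' = 0
        rw [if_neg (fun h => hl h.1), zero_smul]
      · intro h
        exact absurd (Finset.mem_range.2 (by omega)) h
    · refine ⟨0, ?_⟩
      show x s s' = _
      rw [hx.zero s s' (by omega)]
      simp
  | zero => exact ⟨0, by simp⟩
  | add v v' _ _ h h' =>
    obtain ⟨c, rfl⟩ := h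
    obtain ⟨c', rfl⟩ := h'
    refine ⟨c + c', ?_⟩
    rw [← Finset.sum_add_distrib]
    refine Finset.sum_congr rfl fun s _ => ?_
    rw [← Finset.sum_add_distrib]
    exact Finset.sum_congr rfl fun s' _ => (add_smul _ _ _).symm
  | smul b v _ h =>
    obtain ⟨c, rfl⟩ := h
    refine ⟨b • c, ?_⟩
    rw [Finset.smul_sum]
    refine Finset.sum_congr rfl fun s _ => ?_
    rw [Finset.smul_sum]
    exact Finset.sum_congr rfl fun s' _ => smul_smul _ _ _

/-- **the span of a tuple** -/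
theorem TP.isVb (hF : Fintype.card K = p ^ a) (hn : n < p) (hm : m < p) (hij : i ≠ j) (hi : i < a) (hj : j < a)
    (hx : TP ι p σ n i m j x) (hx0 : x ≠ 0) :
    ∃ hX : ∀ g, ∀ y ∈ Submodule.span k (Set.range fun q : ℕ × ℕ => x q.1 q.2), σ g y ∈
      Submodule.span k (Set.range fun q : ℕ × ℕ => x q.1 q.2),
      IsV ι p (subRep σ (Submodule.span k (Set.range fun q : ℕ × ℕ => x q.1 q.2)) hX) (n * p ^ i + m * p ^ j) := by
  obtain ⟨M, _, _, τ, v, f, hV, hv, hf, he, hinj⟩ := hx.emb hF hn hm hij hi hj hx0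
  have hr : LinearMap.range f = Submodule.span k (Set.range fun q : ℕ × ℕ => x q.1 q.2) := by
    apply le_antisymm
    · rintro _ ⟨m', rfl⟩
      have h1 : m' ∈ Submodule.span k (Set.range fun q : Fin (n + 1) × Fin (m + 1) => v q.1 q.2) := hv.sp trivial
      have h2 := Submodule.mem_map_of_mem (f := f) h1
      rw [Submodule.map_span] at h2
      refine Submodule.span_mono ?_ h2
      rintro _ ⟨_, ⟨s, rfl⟩, rfl⟩
      exact ⟨(s.1, s.2), (hf _ _).symm⟩
    · rw [Submodule.span_le]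
      rintro _ ⟨s, rfl⟩
      exact ⟨v s.1 s.2, hf _ _⟩
  have hX : ∀ g, ∀ y ∈ Submodule.span k (Set.range fun q : ℕ × ℕ => x q.1 q.2), σ g y ∈
      Submodule.span k (Set.range fun q : ℕ × ℕ => x q.1 q.2) := by
    rw [← hr]
    rintro g _ ⟨m, rfl⟩
    exact ⟨_, he g m⟩
  refine ⟨hX, ?_⟩
  let e : M ≃ₗ[k] Submodule.span k (Set.range fun q : ℕ × ℕ => x q.1 q.2) :=
    (LinearEquiv.ofInjective f hinj).trans (LinearEquiv.ofEq _ _ hr)
  exact IsV.iso ι p e (fun g m => Subtype.ext (he g m)) hV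

/-- **Schur** : two tuples in an irreducible module -/
theorem TP.schurb (hF : Fintype.card K = p ^ a) (hn : n < p) (hm : m < p) (hij : i ≠ j) (hi : i < a) (hj : j < a)
    (hx : TP ι p σ n i m j x) (hx0 : x ≠ 0) (hy : TP ι p σ n i m j y)
    (hyX : ∀ s s', y s s' ∈ Submodule.span k (Set.range fun q : ℕ × ℕ => x q.1 q.2)) : ∃ c : k, y = c • x := by
  obtain ⟨hX, hV⟩ := hx.isVb hF hn hm hij hi hj hx0
  obtain ⟨z, hz0, -, -, -, huniq⟩ := IsV.hw ι p hV
  obtain ⟨c, hc⟩ := huniq ⟨x n m, Submodule.subset_span ⟨(n, m), rfl⟩⟩ (fun t => Subtype.ext (hx.top t))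
  obtain ⟨d, hd⟩ := huniq ⟨y n m, hyX n m⟩ (fun t => Subtype.ext (hy.top t))
  have hxn := hx.ne_of hF hn hm hij hi hj hx0 le_rfl le_rfl
  have hc0 : c ≠ 0 := by
    rintro rfl
    rw [zero_smul] at hc
    exact hxn (congrArg Subtype.val hc)
  refine ⟨d * c⁻¹, ?_⟩
  have h1 : y n m = (d * c⁻¹) • x n m := by
    have e1 : x n m = c • (z : V) := congrArg Subtype.val hc
    have e2 : y n m = d • (z : V) := congrArg Subtype.val hd
    rw [e2, e1, smul_smul, mul_assoc, inv_mul_cancel₀ hc0, mul_one]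
  have h2 : y + (-(d * c⁻¹)) • x = 0 := by
    by_contra hne
    refine (hy.add (hx.smul _)).ne_of hF hn hm hij hi hj hne le_rfl le_rfl ?_
    show y n m + (-(d * c⁻¹)) • x n m = 0
    rw [h1]
    module
  have h3 : y = (y + (-(d * c⁻¹)) • x) + (d * c⁻¹) • x := by module
  rw [h3, h2, zero_add]

/-- invariant subspaces of the span -/
theorem TP.sub (hF : Fintype.card K = p ^ a) (hn : n < p) (hm : m < p) (hij : i ≠ j) (hi : i < a) (hj : j < a)
    (hx : TP ι p σ n i m j x) (hx0 : x ≠ 0) {W : Submodule k V}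
    (hW : W ≤ Submodule.span k (Set.range fun q : ℕ × ℕ => x q.1 q.2)) (hWs : ∀ g, ∀ v ∈ W, σ g v ∈ W) :
    W = ⊥ ∨ W = Submodule.span k (Set.range fun q : ℕ × ℕ => x q.1 q.2) := by
  obtain ⟨hX, hV⟩ := hx.isVb hF hn hm hij hi hj hx0
  set X := Submodule.span k (Set.range fun q : ℕ × ℕ => x q.1 q.2) with hXd
  rcases (IsV.irr ι p hV).2 (W.comap X.subtype) (fun g m hm => hWs g _ hm) with h1 | h1
  · left
    rw [eq_bot_iff]
    intro v hv
    have h2 : (⟨v, hW hv⟩ : X) ∈ W.comap X.subtype := hv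
    rw [h1, Submodule.mem_bot] at h2
    exact (Submodule.mem_bot k).2 (congrArg Subtype.val h2)
  · right
    refine le_antisymm hW fun v hv => ?_
    have h2 : (⟨v, hv⟩ : X) ∈ W.comap X.subtype := by rw [h1]; trivial
    exact h2

end

end Cfsg.Agent.R2.F4P.Th
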