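import Cfsg.Agent.R2.F4P.Th.TPb
import Cfsg.Agent.R2.F4P.Th.Wh
import Cfsg.Agent.R2.F4P.Th.No3

/-!
# The submodules `V_{2 3^i + 2 3^j}`, I (helper20, S5931)

* `mm y p r` : `Σ p_a r_b y_ab`; `tp_u`, `tp_h`, `tp_w` : the action;
* `HH y` : hypothesis (H); `HH.col` : the adjoints of the columns;
* `HY.oy` : `T(m^#, Y) = 0`; `HY.nz` : the norm vanishes.
-/

set_option autoImplicit false
set_option linter.unusedSectionVars false
set_option linter.unusedVariables false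

namespace Cfsg.Agent.R2.F4P.Th

open Cfsg.Lie
open Cfsg.Agent.ChevalleyStructure.E6Min.Tables Cfsg.Agent.ChevalleyStructure.E6Min.Basic
open Cfsg.Agent.H952.F4 (sh cr tf tr1 u0)
open Cfsg.Agent.H952.F4.Jord
open Cfsg.Agent.H943.SL2Rel Cfsg.Agent.H943.SL2Mod Cfsg.Agent.R2.H28.SL2 Cfsg.Agent.H943.RepAdd
open Cfsg.Agent.R2.F4L

universe u v w

section Alg

variable {k : Type u} [Field k]

/-- a combination of the columns -/
def col (y : ℕ → ℕ → I27 → k) (r0 r1 r2 : k) (s : ℕ) : I27 → k := r0 • y s 0 + r1 • y s 1 + r2 • y s 2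

/-- pure tensors -/
def mm (y : ℕ → ℕ → I27 → k) (p0 p1 p2 r0 r1 r2 : k) : I27 → k :=
  p0 • col y r0 r1 r2 0 + p1 • col y r0 r1 r2 1 + p2 • col y r0 r1 r2 2

theorem mm_swap (y : ℕ → ℕ → I27 → k) (p0 p1 p2 r0 r1 r2 : k) :
    mm (fun s s' => y s' s) p0 p1 p2 r0 r1 r2 = mm y r0 r1 r2 p0 p1 p2 := by
  unfold mm col
  module

/-- hypothesis (H) -/
def HH (y : ℕ → ℕ → I27 → k) : Prop := ∀ σ τ : k, sh (yy y σ τ) = 0

theorem yy_mm (y : ℕ → ℕ → I27 → k) (σ τ : k) : yy y σ τ = mm y 1 (2 * σ) (σ ^ 2) 1 (2 * τ) (τ ^ 2) := by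
  unfold yy mm col
  module

theorem HH.swap {y : ℕ → ℕ → I27 → k} (h : HH y) : HH (fun s s' => y s' s) := by
  intro σ τ
  rw [yy_mm, mm_swap, ← yy_mm]
  exact h τ σ

end Alg

variable {k : Type u} [Field k] [DecidableEq k] {K : Type w} [Field K] [Fintype K] [DecidableEq K] {ι : K →+* k}
variable [CharP k 3] [CharP K 3] {a : ℕ}

theorem poly4 (ι : K →+* k) (hQ : 5 ≤ Fintype.card K) {V : Type*} [AddCommGroup V] [Module k V] {v : ℕ → V}
    (h : ∀ τ : k, ∑ A ∈ Finset.range 5, τ ^ A • v A = 0) : ∀ A < 5, v A = 0 :=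
  poly0 ι hQ 3 0 (fun t => h _)

theorem s3 {x : I27 → k} {c : k} : (3 * c) • x = 0 := by rw [three0 k, zero_mul, zero_smul]

/-- **the adjoints of the columns** -/
theorem HH.col {y : ℕ → ℕ → I27 → k} (h : HH y) (ι : K →+* k) (hQ : 5 ≤ Fintype.card K) (r0 r1 r2 : k) {A : ℕ}
    (hA : A < 5) : ff (col y r0 r1 r2 0) (col y r0 r1 r2 1) (col y r0 r1 r2 2) A =
    (r1 ^ 2 - r0 * r2) • ff (y 0 1) (y 1 1) (y 2 1) A := by
  have key : ∀ σ : k, ∑ A ∈ Finset.range 5, σ ^ A • (ff (Th.col y r0 r1 r2 0) (Th.col y r0 r1 r2 1) (Th.col y r0 r1 r2 2) A -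
      (r1 ^ 2 - r0 * r2) • ff (y 0 1) (y 1 1) (y 2 1) A) = 0 := by
    intro σ
    set W := y 0 0 + (2 * σ) • y 1 0 + (σ ^ 2) • y 2 0 with hW
    set X := y 0 1 + (2 * σ) • y 1 1 + (σ ^ 2) • y 2 1 with hX
    set Z := y 0 2 + (2 * σ) • y 1 2 + (σ ^ 2) • y 2 2 with hZ
    have h1 : ∀ τ : k, ∑ A ∈ Finset.range 5, τ ^ A • ff W X Z A = 0 := by
      intro τ
      rw [← sh_line, ← h σ τ]
      congr 1
      rw [hW, hX, hZ]
      unfold yy
      module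
    have h2 := poly4 ι hQ h1
    have e0 : sh W = 0 := h2 0 (by norm_num)
    have e1 : (2 : k) • cr W X = 0 := h2 1 (by norm_num)
    have e2 : cr W Z + (4 : k) • sh X = 0 := h2 2 (by norm_num)
    have e3 : (2 : k) • cr X Z = 0 := h2 3 (by norm_num)
    have e4 : sh Z = 0 := h2 4 (by norm_num)
    have e1' := (smul_eq_zero.1 e1).resolve_left (two3 k)
    have e3' := (smul_eq_zero.1 e3).resolve_left (two3 k)
    have e2' : cr W Z = (-1 : k) • sh X := by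
      have h3 : cr W Z + (4 : k) • sh X = cr W Z + sh X + (3 * (1 : k)) • sh X := by module
      rw [h3, s3, add_zero] at e2
      rw [neg_one_smul]
      exact eq_neg_of_add_eq_zero_left e2
    have e5 : sh (r0 • W + r1 • X + r2 • Z) = (r1 ^ 2 - r0 * r2) • sh X := by
      rw [sh_add3]
      simp only [sh_smul, cr_smul_left, cr_smul_right, e0, e1', e2', e3', e4, smul_zero]
      module
    have e6 : r0 • W + r1 • X + r2 • Z = Th.col y r0 r1 r2 0 + (2 * σ) • Th.col y r0 r1 r2 1 + (σ ^ 2) • Th.col y r0 r1 r2 2 := by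
      rw [hW, hX, hZ]
      unfold Th.col
      module
    rw [e6, sh_line, hX, sh_line, Finset.smul_sum] at e5
    rw [← sub_eq_zero, ← Finset.sum_sub_distrib] at e5
    rw [← e5]
    refine Finset.sum_congr rfl fun A _ => ?_
    rw [smul_sub, smul_comm (σ ^ A)]
  exact sub_eq_zero.1 (poly4 ι hQ key A hA)

variable {ρ : Representation k (Matrix.SpecialLinearGroup (Fin 2) K) (I27 → k)} {i j : ℕ} {y : ℕ → ℕ → I27 → k}

/-- **the unipotent elements** -/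
theorem tp_u (hy : TP ι 3 ρ 2 i 2 j y) (t : K) (p0 p1 p2 r0 r1 r2 : k) :
    ρ (Cfsg.Agent.H943.SL2Rel.u t) (mm y p0 p1 p2 r0 r1 r2) =
      mm y p0 (2 * (ι t ^ 3 ^ i) * p0 + p1) ((ι t ^ 3 ^ i) ^ 2 * p0 + (ι t ^ 3 ^ i) * p1 + p2)
        r0 (2 * (ι t ^ 3 ^ j) * r0 + r1) ((ι t ^ 3 ^ j) ^ 2 * r0 + (ι t ^ 3 ^ j) * r1 + r2) := by
  have e : ∀ s ≤ 2, ∀ s' ≤ 2, _ := fun s hs s' hs' => hy.u s hs s' hs' t
  have e00 := e 0 (by norm_num) 0 (by norm_num)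
  have e01 := e 0 (by norm_num) 1 (by norm_num)
  have e02 := e 0 (by norm_num) 2 (by norm_num)
  have e10 := e 1 (by norm_num) 0 (by norm_num)
  have e11 := e 1 (by norm_num) 1 (by norm_num)
  have e12 := e 1 (by norm_num) 2 (by norm_num)
  have e20 := e 2 (by norm_num) 0 (by norm_num)
  have e21 := e 2 (by norm_num) 1 (by norm_num)
  have e22 := e 2 (by norm_num) 2 (by norm_num)
  simp only [Nat.sub_zero, Nat.reduceSub, Nat.reduceAdd, Finset.sum_range_succ, Finset.sum_range_zero, Nat.choose,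
    zero_add, add_zero, Nat.cast_one, Nat.cast_ofNat, pow_zero, pow_one, mul_one, one_mul] at e00 e01 e02 e10 e11 e12 e20 e21 e22
  unfold mm col
  simp only [map_add, map_smul, e00, e01, e02, e10, e11, e12, e20, e21, e22]
  module

/-- **the torus** -/
theorem tp_h (hy : TP ι 3 ρ 2 i 2 j y) (c : Kˣ) (p0 p1 p2 r0 r1 r2 : k) :
    ρ (Cfsg.Agent.H943.SL2Rel.h c) (mm y p0 p1 p2 r0 r1 r2) =
      mm y ((ι c ^ 3 ^ i)⁻¹ ^ 2 * p0) p1 ((ι c ^ 3 ^ i) ^ 2 * p2)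
        ((ι c ^ 3 ^ j)⁻¹ ^ 2 * r0) r1 ((ι c ^ 3 ^ j) ^ 2 * r2) := by
  have e : ∀ s ≤ 2, ∀ s' ≤ 2, _ := fun s hs s' hs' => hy.h s hs s' hs' c
  have e00 := e 0 (by norm_num) 0 (by norm_num)
  have e01 := e 0 (by norm_num) 1 (by norm_num)
  have e02 := e 0 (by norm_num) 2 (by norm_num)
  have e10 := e 1 (by norm_num) 0 (by norm_num)
  have e11 := e 1 (by norm_num) 1 (by norm_num)
  have e12 := e 1 (by norm_num) 2 (by norm_num)
  have e20 := e 2 (by norm_num) 0 (by norm_num)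
  have e21 := e 2 (by norm_num) 1 (by norm_num)
  have e22 := e 2 (by norm_num) 2 (by norm_num)
  have hi0 : ι (c : K) ^ 3 ^ i ≠ 0 := pow_ne_zero _ ((map_ne_zero ι).2 c.ne_zero)
  have hj0 : ι (c : K) ^ 3 ^ j ≠ 0 := pow_ne_zero _ ((map_ne_zero ι).2 c.ne_zero)
  simp only [Nat.sub_zero, Nat.reduceSub, pow_zero, pow_one, mul_one, one_mul, mul_inv_cancel₀ hi0,
    mul_inv_cancel₀ hj0, one_smul] at e00 e01 e02 e10 e11 e12 e20 e21 e22
  unfold mm col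
  simp only [map_add, map_smul, e00, e01, e02, e10, e11, e12, e20, e21, e22]
  module

/-- **the Weyl element** -/
theorem tp_w (hy : TP ι 3 ρ 2 i 2 j y) (p0 p1 p2 r0 r1 r2 : k) :
    ρ Cfsg.Agent.H943.SL2Rel.w (mm y p0 p1 p2 r0 r1 r2) = mm y p2 (-p1) p0 r2 (-r1) r0 := by
  have e : ∀ s ≤ 2, ∀ s' ≤ 2, _ := fun s hs s' hs' => hy.w s hs s' hs'
  have e00 := e 0 (by norm_num) 0 (by norm_num)
  have e01 := e 0 (by norm_num) 1 (by norm_num)
  have e02 := e 0 (by norm_num) 2 (by norm_num)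
  have e10 := e 1 (by norm_num) 0 (by norm_num)
  have e11 := e 1 (by norm_num) 1 (by norm_num)
  have e12 := e 1 (by norm_num) 2 (by norm_num)
  have e20 := e 2 (by norm_num) 0 (by norm_num)
  have e21 := e 2 (by norm_num) 1 (by norm_num)
  have e22 := e 2 (by norm_num) 2 (by norm_num)
  simp only [Nat.sub_zero, Nat.reduceSub, pow_zero, pow_one, mul_one, one_mul] at e00 e01 e02 e10 e11 e12 e20 e21 e22
  unfold mm col
  simp only [map_add, map_smul, e00, e01, e02, e10, e11, e12, e20, e21, e22]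
  module

theorem mm_y (y : ℕ → ℕ → I27 → k) : y 0 0 = mm y 1 0 0 1 0 0 ∧ y 0 1 = mm y 1 0 0 0 1 0 ∧ y 0 2 = mm y 1 0 0 0 0 1 ∧
    y 1 0 = mm y 0 1 0 1 0 0 ∧ y 1 1 = mm y 0 1 0 0 1 0 ∧ y 1 2 = mm y 0 1 0 0 0 1 ∧
    y 2 0 = mm y 0 0 1 1 0 0 ∧ y 2 1 = mm y 0 0 1 0 1 0 ∧ y 2 2 = mm y 0 0 1 0 0 1 := by
  refine ⟨?_, ?_, ?_, ?_, ?_, ?_, ?_, ?_, ?_⟩ <;> unfold mm col <;> module

end Cfsg.Agent.R2.F4P.Th
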