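import Cfsg.Agent.R2.F4P.Th.Y9a

/-!
# The submodules `V_{2 3^i + 2 3^j}`, II (helper20, S5931)

* `YC` : the configuration; `YC.oy` : `T(m^#, Y) = 0`; `YC.nz` : the norm vanishes on the pure tensors.
-/

set_option autoImplicit false
set_option linter.unusedSectionVars false
set_option linter.unusedVariables false

namespace Cfsg.Agent.R2.F4P.Th

open Cfsg.Lie
open Cfsg.Agent.ChevalleyStructure.E6Min.Tables Cfsg.Agent.ChevalleyStructure.E6Min.Basic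
open Cfsg.Agent.H952.F4 (sh cr tf tr1 u0)
open Cfsg.Agent.H952.F4.Jord
open Cfsg.Agent.H943.SL2Rel Cfsg.Agent.H943.SL2Mod Cfsg.Agent.R2.H28.SL2 Cfsg.Agent.H943.RepAdd
open Cfsg.Agent.R2.F4L

universe u v w

variable {k : Type u} [Field k] [DecidableEq k] {K : Type w} [Field K] [Fintype K] [DecidableEq K] {ι : K →+* k}
variable [CharP k 3] [CharP K 3] {a : ℕ}

theorem digb_inj {i j : ℕ} (hij : i < j) {A B A' B' : ℕ} (hA : A < 3) (hB : B < 3) (hA' : A' < 3) (hB' : B' < 3)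
    (h : A * 3 ^ i + B * 3 ^ j = A' * 3 ^ i + B' * 3 ^ j) : A = A' ∧ B = B' := by
  obtain ⟨d, rfl⟩ := Nat.exists_eq_add_of_lt hij
  have h0 : 0 < 3 ^ i := by positivity
  obtain ⟨D, hD⟩ : ∃ D, D = 3 ^ d := ⟨_, rfl⟩
  have hD1 : 1 ≤ D := by rw [hD]; exact Nat.one_le_pow _ _ (by norm_num)
  have e : ∀ A B : ℕ, A * 3 ^ i + B * 3 ^ (i + d + 1) = (A + B * (3 * D)) * 3 ^ i := by
    intro A B
    rw [hD]
    ring
  rw [e, e] at h
  have h1 := Nat.eq_of_mul_eq_mul_right h0 h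
  have hb : B = 0 ∨ B = 1 ∨ B = 2 := by omega
  have hb' : B' = 0 ∨ B' = 1 ∨ B' = 2 := by omega
  rcases hb with rfl | rfl | rfl <;> rcases hb' with rfl | rfl | rfl <;> omega

theorem digb_inj' {i j : ℕ} (hij : i ≠ j) {A B A' B' : ℕ} (hA : A < 3) (hB : B < 3) (hA' : A' < 3) (hB' : B' < 3)
    (h : A * 3 ^ i + B * 3 ^ j = A' * 3 ^ i + B' * 3 ^ j) : A = A' ∧ B = B' := by
  rcases lt_or_gt_of_ne hij with h1 | h1
  · exact digb_inj h1 hA hB hA' hB' h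
  · have := digb_inj h1 hB hA hB' hA' (by omega)
    exact ⟨this.2, this.1⟩

variable {ρ : Representation k (Matrix.SpecialLinearGroup (Fin 2) K) (I27 → k)} {i j : ℕ} {y : ℕ → ℕ → I27 → k}

/-- the configuration -/
structure YC (ι : K →+* k) (a : ℕ) (ρ : Representation k (Matrix.SpecialLinearGroup (Fin 2) K) (I27 → k)) (i j : ℕ)
    (y : ℕ → ℕ → I27 → k) : Prop where
  C : Cx3 K a ρ
  hi : i < a
  hj : j < a
  hij : i ≠ j
  tp : TP ι 3 ρ 2 i 2 j y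
  H : HH y

theorem YC.swap (h : YC ι a ρ i j y) : YC ι a ρ j i (fun s s' => y s' s) :=
  ⟨h.C, h.hj, h.hi, h.hij.symm, h.tp.swap, h.H.swap⟩

theorem YC.five (h : YC ι a ρ i j y) : 5 ≤ Fintype.card K := by have := h.C.nine; omega

/-- polynomials with two digits -/
theorem poly33 (hF : Fintype.card K = 3 ^ a) (hi : i < a) (hj : j < a) (hij : i ≠ j) {V : Type*} [AddCommGroup V] [Module k V]
    {c : ℕ × ℕ → V}
    (h : ∀ t : K, ∑ q ∈ Finset.range 3 ×ˢ Finset.range 3, ((ι t ^ 3 ^ i) ^ q.1 * (ι t ^ 3 ^ j) ^ q.2) • c q = 0) :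
    ∀ q ∈ Finset.range 3 ×ˢ Finset.range 3, c q = 0 := by
  refine polyE (ι := ι) 3 _ (fun q : ℕ × ℕ => q.1 * 3 ^ i + q.2 * 3 ^ j) c ?_ ?_ ?_
  · rintro ⟨A, B⟩ hq
    rw [Finset.mem_product, Finset.mem_range, Finset.mem_range] at hq
    have h1 := label_lt2 (K := K) (p := 3) (n := A) (m := B) hF hq.1 hq.2 hij hi hj
    have h2 : 0 < Fintype.card K := Fintype.card_pos
    show A * 3 ^ i + B * 3 ^ j < Fintype.card K
    omega
  · rintro ⟨A, B⟩ hq ⟨A', B'⟩ hq' he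
    rw [Finset.mem_product, Finset.mem_range, Finset.mem_range] at hq hq'
    obtain ⟨h1, h2⟩ := digb_inj' hij hq.1 hq.2 hq'.1 hq'.2 he
    exact Prod.ext h1 h2
  · intro t
    rw [← h t]
    refine Finset.sum_congr rfl fun q _ => ?_
    congr 1
    rw [pow_add, pow_mul', pow_mul']

theorem mm_sum (y : ℕ → ℕ → I27 → k) (s s' : k) : mm y 1 (2 * s) (s ^ 2) 1 (2 * s') (s' ^ 2) =
    ∑ q ∈ Finset.range 3 ×ˢ Finset.range 3, (s ^ q.1 * s' ^ q.2) • (((Nat.choose 2 q.1 : k) * (Nat.choose 2 q.2 : k)) • y q.1 q.2) := by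
  rw [Finset.sum_product]
  simp only [Finset.sum_range_succ, Finset.sum_range_zero, Nat.choose, zero_add, add_zero, Nat.cast_one, Nat.cast_ofNat]
  unfold mm col
  module

theorem ch_ne {A : ℕ} (hA : A < 3) : (Nat.choose 2 A : k) ≠ 0 := by
  have hA' : A = 0 ∨ A = 1 ∨ A = 2 := by omega
  rcases hA' with rfl | rfl | rfl
  · simp
  · simpa using two3 k
  · simp

/-- **invariant functionals** -/
theorem YC.kap (h : YC ι a ρ i j y) {κ : (I27 → k) →ₗ[k] k}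
    (hk : ∀ t, κ (ρ (Cfsg.Agent.H943.SL2Rel.u t) (y 0 0)) = κ (y 0 0)) {A B : ℕ} (hA : A < 3) (hB : B < 3)
    (hAB : (A, B) ≠ (0, 0)) : κ (y A B) = 0 := by
  have h1 := poly33 (ι := ι) h.C.card h.hi h.hj h.hij (V := k) (c := fun q => if q = (0, 0) then 0 else
    ((Nat.choose 2 q.1 : k) * (Nat.choose 2 q.2 : k)) * κ (y q.1 q.2)) (by
      intro t
      have h2 := hk t
      have h3 : ρ (Cfsg.Agent.H943.SL2Rel.u t) (y 0 0) = mm y 1 (2 * (ι t ^ 3 ^ i)) ((ι t ^ 3 ^ i) ^ 2) 1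
          (2 * (ι t ^ 3 ^ j)) ((ι t ^ 3 ^ j) ^ 2) := by
        conv_lhs => rw [(mm_y y).1]
        rw [tp_u h.tp]
        congr 1 <;> ring
      rw [h3, mm_sum, map_sum, ← Finset.add_sum_erase _ _ (a := ((0 : ℕ), (0 : ℕ))) (by decide)] at h2
      rw [← Finset.add_sum_erase _ _ (a := ((0 : ℕ), (0 : ℕ))) (by decide)]
      have h4 : κ (((ι t ^ 3 ^ i) ^ ((0 : ℕ), (0 : ℕ)).1 * (ι t ^ 3 ^ j) ^ ((0 : ℕ), (0 : ℕ)).2) •
          (((Nat.choose 2 ((0 : ℕ), (0 : ℕ)).1 : k) * (Nat.choose 2 ((0 : ℕ), (0 : ℕ)).2 : k)) •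
          y ((0 : ℕ), (0 : ℕ)).1 ((0 : ℕ), (0 : ℕ)).2)) = κ (y 0 0) := by
        simp
      rw [h4] at h2
      have h5 := add_left_cancel (h2.trans (add_zero _).symm)
      rw [if_pos rfl, smul_zero, zero_add, ← h5]
      refine Finset.sum_congr rfl fun q hq => ?_
      rw [if_neg (Finset.mem_erase.1 hq).1, map_smul, map_smul, smul_eq_mul, smul_eq_mul, smul_eq_mul])
      (A, B) (Finset.mem_product.2 ⟨Finset.mem_range.2 hA, Finset.mem_range.2 hB⟩)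
  rw [if_neg hAB] at h1
  exact (mul_eq_zero.1 h1).resolve_left (mul_ne_zero (ch_ne hA) (ch_ne hB))

/-- orthogonality to the span -/
def OY (y : ℕ → ℕ → I27 → k) (v : I27 → k) : Prop := ∀ p0 p1 p2 r0 r1 r2 : k, tf v (mm y p0 p1 p2 r0 r1 r2) = 0

theorem OY.of_y {v : I27 → k} (h : ∀ A < 3, ∀ B < 3, tf v (y A B) = 0) : OY y v := by
  intro p0 p1 p2 r0 r1 r2
  unfold mm col
  simp only [tf_add_right, tf_smul_right, h 0 (by norm_num) 0 (by norm_num), h 0 (by norm_num) 1 (by norm_num),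
    h 0 (by norm_num) 2 (by norm_num), h 1 (by norm_num) 0 (by norm_num), h 1 (by norm_num) 1 (by norm_num),
    h 1 (by norm_num) 2 (by norm_num), h 2 (by norm_num) 0 (by norm_num), h 2 (by norm_num) 1 (by norm_num),
    h 2 (by norm_num) 2 (by norm_num), mul_zero, add_zero]

theorem OY.add {v w : I27 → k} (hv : OY y v) (hw : OY y w) : OY y (v + w) := fun p0 p1 p2 r0 r1 r2 => by
  rw [tf_add_left, hv, hw, add_zero]

theorem OY.smul {v : I27 → k} (c : k) (hv : OY y v) : OY y (c • v) := fun p0 p1 p2 r0 r1 r2 => by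
  rw [tf_smul_left, hv, mul_zero]

theorem OY.of_smul {v : I27 → k} {c : k} (hc : c ≠ 0) (hv : OY y (c • v)) : OY y v := fun p0 p1 p2 r0 r1 r2 => by
  have := hv p0 p1 p2 r0 r1 r2
  rw [tf_smul_left] at this
  exact (mul_eq_zero.1 this).resolve_left hc

theorem OY.y' {v : I27 → k} (hv : OY y v) {A B : ℕ} (hA : A < 3) (hB : B < 3) : tf v (y A B) = 0 := by
  have hA' : A = 0 ∨ A = 1 ∨ A = 2 := by omega
  have hB' : B = 0 ∨ B = 1 ∨ B = 2 := by omega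
  obtain ⟨e00, e01, e02, e10, e11, e12, e20, e21, e22⟩ := mm_y y
  rcases hA' with rfl | rfl | rfl <;> rcases hB' with rfl | rfl | rfl <;>
    first
    | (rw [e00]; exact hv _ _ _ _ _ _) | (rw [e01]; exact hv _ _ _ _ _ _) | (rw [e02]; exact hv _ _ _ _ _ _)
    | (rw [e10]; exact hv _ _ _ _ _ _) | (rw [e11]; exact hv _ _ _ _ _ _) | (rw [e12]; exact hv _ _ _ _ _ _)
    | (rw [e20]; exact hv _ _ _ _ _ _) | (rw [e21]; exact hv _ _ _ _ _ _) | (rw [e22]; exact hv _ _ _ _ _ _)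

theorem OY.swap {v : I27 → k} (hv : OY (fun s s' => y s' s) v) : OY y v := fun p0 p1 p2 r0 r1 r2 => by
  have := hv r0 r1 r2 p0 p1 p2
  rwa [mm_swap] at this

theorem YC.oy_w (h : YC ι a ρ i j y) {v : I27 → k} (hv : OY y v) : OY y (ρ Cfsg.Agent.H943.SL2Rel.w v) := by
  intro p0 p1 p2 r0 r1 r2
  have h1 : mm y p0 p1 p2 r0 r1 r2 = ρ Cfsg.Agent.H943.SL2Rel.w (mm y p2 (-p1) p0 r2 (-r1) r0) := by
    rw [tp_w h.tp, neg_neg, neg_neg]
  rw [h1, h.C.act.tf]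
  exact hv _ _ _ _ _ _

theorem YC.oy_u (h : YC ι a ρ i j y) {v : I27 → k} (hv : OY y v) (t : K) :
    OY y (ρ (Cfsg.Agent.H943.SL2Rel.u t) v) := by
  intro p0 p1 p2 r0 r1 r2
  have h1 : mm y p0 p1 p2 r0 r1 r2 = ρ (Cfsg.Agent.H943.SL2Rel.u t) (mm y p0 (p1 - 2 * (ι t ^ 3 ^ i) * p0)
      (p2 - (ι t ^ 3 ^ i) * p1 + (ι t ^ 3 ^ i) ^ 2 * p0) r0 (r1 - 2 * (ι t ^ 3 ^ j) * r0)
      (r2 - (ι t ^ 3 ^ j) * r1 + (ι t ^ 3 ^ j) ^ 2 * r0)) := by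
    rw [tp_u h.tp]
    congr 1 <;> ring
  rw [h1, h.C.act.tf]
  exact hv _ _ _ _ _ _

/-- the traces -/
theorem YC.oy_u0 (h : YC ι a ρ i j y) : OY y (u0 k) := by
  have h1 : ∀ A < 3, ∀ B < 3, (A, B) ≠ (0, 0) → tf (u0 k) (y A B) = 0 := by
    intro A hA B hB hAB
    refine h.kap (κ := Cfsg.Agent.R2.GEO.tfB k (u0 k)) (fun t => ?_) hA hB hAB
    show tf (u0 k) (ρ _ (y 0 0)) = tf (u0 k) (y 0 0)
    rw [tf_u0, tf_u0, h.C.act.tr]
  refine OY.of_y fun A hA B hB => ?_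
  by_cases hAB : (A, B) = (0, 0)
  · obtain ⟨rfl, rfl⟩ := Prod.mk.inj hAB
    have h2 := h1 2 (by norm_num) 2 (by norm_num) (by decide)
    have h3 : ρ Cfsg.Agent.H943.SL2Rel.w (y 2 2) = y 0 0 := by
      have := h.tp.w 2 le_rfl 2 le_rfl
      rw [this]
      simp
    rw [← h3, tf_u0, h.C.act.tr, ← tf_u0]
    exact h2
  · exact h1 A hA B hB hAB

theorem YC.tr (h : YC ι a ρ i j y) (p0 p1 p2 r0 r1 r2 : k) : tr1 (mm y p0 p1 p2 r0 r1 r2) = 0 := by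
  rw [← tf_u0]
  exact h.oy_u0 _ _ _ _ _ _

/-- the columns -/
theorem YC.col_ff (h : YC ι a ρ i j y) (r0 r1 r2 : k) {A : ℕ} (hA : A < 5) :
    ff (col y r0 r1 r2 0) (col y r0 r1 r2 1) (col y r0 r1 r2 2) A = (r1 ^ 2 - r0 * r2) • ff (y 0 1) (y 1 1) (y 2 1) A :=
  h.H.col ι h.five r0 r1 r2 hA

theorem YC.c_0 (h : YC ι a ρ i j y) (r0 r1 r2 : k) : sh (col y r0 r1 r2 0) = (r1 ^ 2 - r0 * r2) • sh (y 0 1) :=
  h.col_ff r0 r1 r2 (A := 0) (by norm_num)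

theorem YC.c_4 (h : YC ι a ρ i j y) (r0 r1 r2 : k) : sh (col y r0 r1 r2 2) = (r1 ^ 2 - r0 * r2) • sh (y 2 1) :=
  h.col_ff r0 r1 r2 (A := 4) (by norm_num)

theorem YC.c_1 (h : YC ι a ρ i j y) (r0 r1 r2 : k) :
    cr (col y r0 r1 r2 0) (col y r0 r1 r2 1) = (r1 ^ 2 - r0 * r2) • cr (y 0 1) (y 1 1) := by
  have h1 : (2 : k) • cr (col y r0 r1 r2 0) (col y r0 r1 r2 1) = (r1 ^ 2 - r0 * r2) • (2 : k) • cr (y 0 1) (y 1 1) :=
    h.col_ff r0 r1 r2 (A := 1) (by norm_num)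
  rw [smul_comm, ← sub_eq_zero, ← smul_sub] at h1
  exact sub_eq_zero.1 ((smul_eq_zero.1 h1).resolve_left (two3 k))

theorem YC.c_3 (h : YC ι a ρ i j y) (r0 r1 r2 : k) :
    cr (col y r0 r1 r2 1) (col y r0 r1 r2 2) = (r1 ^ 2 - r0 * r2) • cr (y 1 1) (y 2 1) := by
  have h1 : (2 : k) • cr (col y r0 r1 r2 1) (col y r0 r1 r2 2) = (r1 ^ 2 - r0 * r2) • (2 : k) • cr (y 1 1) (y 2 1) :=
    h.col_ff r0 r1 r2 (A := 3) (by norm_num)
  rw [smul_comm, ← sub_eq_zero, ← smul_sub] at h1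
  exact sub_eq_zero.1 ((smul_eq_zero.1 h1).resolve_left (two3 k))

theorem YC.c_2 (h : YC ι a ρ i j y) (r0 r1 r2 : k) :
    cr (col y r0 r1 r2 0) (col y r0 r1 r2 2) = (r1 ^ 2 - r0 * r2) • (cr (y 0 1) (y 2 1) + (4 : k) • sh (y 1 1)) +
      (-4 : k) • sh (col y r0 r1 r2 1) := by
  have h1 : cr (col y r0 r1 r2 0) (col y r0 r1 r2 2) + (4 : k) • sh (col y r0 r1 r2 1) =
    (r1 ^ 2 - r0 * r2) • (cr (y 0 1) (y 2 1) + (4 : k) • sh (y 1 1)) := h.col_ff r0 r1 r2 (A := 2) (by norm_num)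
  rw [← h1]
  module

/-- the adjoint of a pure tensor -/
theorem YC.sh_mm (h : YC ι a ρ i j y) (p0 p1 p2 r0 r1 r2 : k) : sh (mm y p0 p1 p2 r0 r1 r2) =
    (r1 ^ 2 - r0 * r2) • (p0 ^ 2 • sh (y 0 1) + (p0 * p1) • cr (y 0 1) (y 1 1) +
      (p0 * p2) • (cr (y 0 1) (y 2 1) + (4 : k) • sh (y 1 1)) + (p1 * p2) • cr (y 1 1) (y 2 1) + p2 ^ 2 • sh (y 2 1)) +
      (p1 ^ 2 - 4 * p0 * p2) • sh (col y r0 r1 r2 1) := by
  unfold mm
  rw [sh_add3]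
  simp only [sh_smul, cr_smul_left, cr_smul_right, h.c_0, h.c_1, h.c_2, h.c_3, h.c_4]
  module

theorem col_swap (y : ℕ → ℕ → I27 → k) (r0 r1 r2 : k) : col y r0 r1 r2 1 = mm y 0 1 0 r0 r1 r2 := by
  unfold mm
  module

end Cfsg.Agent.R2.F4P.Th
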