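import Cfsg.Agent.R2.F4P.Th.Y9b

/-!
# The submodules `V_{2 3^i + 2 3^j}`, III (helper20, S5931)

* `YC.oy` : `T(m^#, Y) = 0`; `YC.norm` : the norm vanishes on the pure tensors; `YC.nz` : the columns.
-/

set_option autoImplicit false
set_option linter.unusedSectionVars false
set_option linter.unusedVariables false

namespace Cfsg.Agent.R2.F4P.Th

open Cfsg.Lie
open Cfsg.Agent.ChevalleyStructure.E6Min.Tables Cfsg.Agent.ChevalleyStructure.E6Min.Basic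
open Cfsg.Agent.H952.F4 (sh cr tf tr1 u0)
open Cfsg.Agent.H952.F4.Jord
open Cfsg.Agent.H943.SL2Rel Cfsg.Agent.H943.SL2Mod Cfsg.Agent.R2.H28.SL2 Cfsg.Agent.H943.RepAdd
open Cfsg.Agent.R2.F4L

universe u v w

variable {k : Type u} [Field k] [DecidableEq k] {K : Type w} [Field K] [Fintype K] [DecidableEq K] {ι : K →+* k}
variable [CharP k 3] [CharP K 3] {a : ℕ}
variable {ρ : Representation k (Matrix.SpecialLinearGroup (Fin 2) K) (I27 → k)} {i j : ℕ} {y : ℕ → ℕ → I27 → k}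

/-- the last vector is fixed -/
theorem YC.f4_fix (h : YC ι a ρ i j y) (t : K) : ρ (Cfsg.Agent.H943.SL2Rel.u t) (sh (y 2 1)) = sh (y 2 1) := by
  rw [h.C.act.sh, (mm_y y).2.2.2.2.2.2.2.1, tp_u h.tp, h.sh_mm, h.sh_mm]
  module

theorem YC.w21 (h : YC ι a ρ i j y) : ρ Cfsg.Agent.H943.SL2Rel.w (sh (y 2 1)) = sh (y 0 1) := by
  rw [h.C.act.sh, (mm_y y).2.2.2.2.2.2.2.1, tp_w h.tp, h.sh_mm]
  module

/-- the first vector -/
theorem YC.f0_u (h : YC ι a ρ i j y) (t : K) : ρ (Cfsg.Agent.H943.SL2Rel.u t) (sh (y 0 1)) =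
    ∑ A ∈ Finset.range 5, (ι t ^ 3 ^ i) ^ A • ff (y 0 1) (y 1 1) (y 2 1) A := by
  rw [h.C.act.sh, (mm_y y).2.1, tp_u h.tp, ← (mm_y y).2.1]
  have e : mm y 1 (2 * ι t ^ 3 ^ i * 1 + 0) ((ι t ^ 3 ^ i) ^ 2 * 1 + ι t ^ 3 ^ i * 0 + 0) 0 (2 * ι t ^ 3 ^ j * 0 + 1)
      ((ι t ^ 3 ^ j) ^ 2 * 0 + ι t ^ 3 ^ j * 1 + 0) =
      col y 0 1 (ι t ^ 3 ^ j) 0 + (2 * (ι t ^ 3 ^ i)) • col y 0 1 (ι t ^ 3 ^ j) 1 +
        ((ι t ^ 3 ^ i) ^ 2) • col y 0 1 (ι t ^ 3 ^ j) 2 := by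
    unfold mm col
    module
  rw [e, sh_line]
  refine Finset.sum_congr rfl fun A hA => ?_
  rw [h.col_ff _ _ _ (Finset.mem_range.1 hA)]
  module

/-- **`T(f_4, Y) = 0`** -/
theorem YC.oy_f4 (h : YC ι a ρ i j y) : OY y (sh (y 2 1)) := by
  have h9 := h.C.nine
  refine OY.of_y fun A hA B hB => ?_
  by_cases hAB : (A, B) = (0, 0)
  · obtain ⟨rfl, rfl⟩ := Prod.mk.inj hAB
    -- the torus
    obtain ⟨lam, hl⟩ := exists_prim ι 0 3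
    rw [pow_zero, pow_one] at hl
    set α := ι (lam : K) ^ 3 ^ i with hα
    set β := ι (lam : K) ^ 3 ^ j with hβ
    have hα0 : α ≠ 0 := pow_ne_zero _ ((map_ne_zero ι).2 lam.ne_zero)
    have hβ0 : β ≠ 0 := pow_ne_zero _ ((map_ne_zero ι).2 lam.ne_zero)
    have h1 := h.C.act.tf (Cfsg.Agent.H943.SL2Rel.h lam) (sh (y 2 1)) (y 0 0)
    have e1 : ρ (Cfsg.Agent.H943.SL2Rel.h lam) (sh (y 2 1)) = (α ^ 4) • sh (y 2 1) := by
      rw [h.C.act.sh, (mm_y y).2.2.2.2.2.2.2.1, tp_h h.tp, ← hα, ← hβ, h.sh_mm, h.sh_mm]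
      module
    have e2 : ρ (Cfsg.Agent.H943.SL2Rel.h lam) (y 0 0) = (α⁻¹ ^ 2 * β⁻¹ ^ 2) • y 0 0 := by
      conv_lhs => rw [(mm_y y).1]
      rw [tp_h h.tp, ← hα, ← hβ]
      unfold mm col
      module
    rw [e1, e2, tf_smul_left, tf_smul_right] at h1
    have h2 : (α ^ 2 - β ^ 2) * tf (sh (y 2 1)) (y 0 0) = 0 := by
      have h3 : α ^ 4 * (α⁻¹ ^ 2 * β⁻¹ ^ 2 * tf (sh (y 2 1)) (y 0 0)) * β ^ 2 = α ^ 2 * tf (sh (y 2 1)) (y 0 0) := by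
        field_simp
      rw [h1] at h3
      linear_combination -h3
    refine (mul_eq_zero.1 h2).resolve_left (sub_ne_zero.2 fun h4 => ?_)
    rw [hα, hβ, ← pow_mul, ← pow_mul] at h4
    have hlt : ∀ {l : ℕ}, l < a → 3 ^ l * 2 < Fintype.card K - 1 := by
      intro l hl
      have h5 : 3 ^ (l + 1) ≤ 3 ^ a := Nat.pow_le_pow_right (by norm_num) hl
      rw [← h.C.card, pow_succ] at h5
      have h6 : 0 < 3 ^ l := by positivity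
      rcases Nat.eq_zero_or_pos l with rfl | hl0
      · rw [pow_zero]
        omega
      · have h7 : 3 ≤ 3 ^ l := by
          calc 3 = 3 ^ 1 := by norm_num
            _ ≤ 3 ^ l := Nat.pow_le_pow_right (by norm_num) hl0
        omega
    have h5 := hl.pow_inj (hlt h.hi) (hlt h.hj) h4
    have h6 : 3 ^ i = 3 ^ j := by omega
    exact h.hij (Nat.pow_right_injective (by norm_num : 2 ≤ 3) h6)
  · refine h.kap (κ := Cfsg.Agent.R2.GEO.tfB k (sh (y 2 1))) (fun t => ?_) hA hB hAB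
    show tf (sh (y 2 1)) (ρ _ (y 0 0)) = tf (sh (y 2 1)) (y 0 0)
    conv_lhs => rw [← h.f4_fix t]
    rw [h.C.act.tf]

/-- **`T(f_A, Y) = 0`** -/
theorem YC.oy_ff (h : YC ι a ρ i j y) {A : ℕ} (hA : A < 5) : OY y (ff (y 0 1) (y 1 1) (y 2 1) A) := by
  intro p0 p1 p2 r0 r1 r2
  have h0 : OY y (sh (y 0 1)) := by
    rw [← h.w21]
    exact h.oy_w h.oy_f4
  refine poly0 ι h.five 3 i (a := fun A => tf (ff (y 0 1) (y 1 1) (y 2 1) A) (mm y p0 p1 p2 r0 r1 r2)) (fun t => ?_) A hA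
  have h1 := h.oy_u h0 t p0 p1 p2 r0 r1 r2
  rw [h.f0_u, tf_sum_left] at h1
  rw [← h1]
  refine Finset.sum_congr rfl fun A _ => ?_
  rw [tf_smul_left, smul_eq_mul]

theorem YC.oy_0 (h : YC ι a ρ i j y) : OY y (sh (y 0 1)) := h.oy_ff (A := 0) (by norm_num)
theorem YC.oy_1 (h : YC ι a ρ i j y) : OY y (cr (y 0 1) (y 1 1)) := OY.of_smul (two3 k) (h.oy_ff (A := 1) (by norm_num))
theorem YC.oy_2 (h : YC ι a ρ i j y) : OY y (cr (y 0 1) (y 2 1) + (4 : k) • sh (y 1 1)) := h.oy_ff (A := 2) (by norm_num)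
theorem YC.oy_3 (h : YC ι a ρ i j y) : OY y (cr (y 1 1) (y 2 1)) := OY.of_smul (two3 k) (h.oy_ff (A := 3) (by norm_num))
theorem YC.oy_4 (h : YC ι a ρ i j y) : OY y (sh (y 2 1)) := h.oy_ff (A := 4) (by norm_num)

/-- the middle vector -/
theorem YC.oy_m (h : YC ι a ρ i j y) : OY y (sh (y 1 1)) := by
  have key : ∀ t : K, ∀ p0 p1 p2 r0 r1 r2 : k, tf (ρ (Cfsg.Agent.H943.SL2Rel.u t) (sh (y 1 1))) (mm y p0 p1 p2 r0 r1 r2) =
      tf (sh (y 1 1)) (mm y p0 p1 p2 r0 r1 r2) := by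
    intro t p0 p1 p2 r0 r1 r2
    have e1 : ρ (Cfsg.Agent.H943.SL2Rel.u t) (sh (y 1 1)) = sh (mm y 0 1 (ι t ^ 3 ^ i) 0 1 (ι t ^ 3 ^ j)) := by
      rw [h.C.act.sh, (mm_y y).2.2.2.2.1, tp_u h.tp]
      congr 2 <;> ring
    have e2 := h.swap.sh_mm 0 1 (ι t ^ 3 ^ j) 0 1 0
    rw [mm_swap] at e2
    have e3 : sh (mm y 0 1 0 0 1 (ι t ^ 3 ^ j)) = sh (y 1 1) + (ι t ^ 3 ^ j) • cr (y 1 1) (y 1 2) +
        (ι t ^ 3 ^ j) ^ 2 • sh (y 1 2) := by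
      have e4 : col (fun s s' => y s' s) 0 1 0 1 = y 1 1 := by unfold col; module
      rw [e4] at e2
      refine e2.trans ?_
      module
    rw [e1, h.sh_mm, col_swap, e3]
    simp only [tf_add_left, tf_smul_left]
    rw [h.oy_0, h.oy_1, h.oy_3, h.oy_4, OY.swap h.swap.oy_3, OY.swap h.swap.oy_4]
    have e5 := h.oy_2 p0 p1 p2 r0 r1 r2
    rw [tf_add_left, tf_smul_left] at e5
    rw [e5]
    ring
  have h1 : ∀ A < 3, ∀ B < 3, (A, B) ≠ (0, 0) → tf (sh (y 1 1)) (y A B) = 0 := by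
    intro A hA B hB hAB
    refine h.kap (κ := Cfsg.Agent.R2.GEO.tfB k (sh (y 1 1))) (fun t => ?_) hA hB hAB
    show tf (sh (y 1 1)) (ρ _ (y 0 0)) = tf (sh (y 1 1)) (y 0 0)
    have e : ρ (Cfsg.Agent.H943.SL2Rel.u t) (y 0 0) = mm y 1 (2 * (ι t ^ 3 ^ i)) ((ι t ^ 3 ^ i) ^ 2) 1
        (2 * (ι t ^ 3 ^ j)) ((ι t ^ 3 ^ j) ^ 2) := by
      conv_lhs => rw [(mm_y y).1]
      rw [tp_u h.tp]
      congr 1 <;> ring
    have e2 := key t 1 (2 * (ι t ^ 3 ^ i)) ((ι t ^ 3 ^ i) ^ 2) 1 (2 * (ι t ^ 3 ^ j)) ((ι t ^ 3 ^ j) ^ 2)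
    rw [e, ← e2, ← e, h.C.act.tf]
  refine OY.of_y fun A hA B hB => ?_
  by_cases hAB : (A, B) = (0, 0)
  · obtain ⟨rfl, rfl⟩ := Prod.mk.inj hAB
    have h3 : ρ Cfsg.Agent.H943.SL2Rel.w (y 2 2) = y 0 0 := by
      rw [h.tp.w 2 le_rfl 2 le_rfl]
      simp
    have h4 : ρ Cfsg.Agent.H943.SL2Rel.w (sh (y 1 1)) = sh (y 1 1) := by
      rw [h.C.act.sh, h.tp.w 1 (by norm_num) 1 (by norm_num)]
      simp
    rw [← h3, ← h4, h.C.act.tf]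
    exact h1 2 (by norm_num) 2 (by norm_num) (by decide)
  · exact h1 A hA B hB hAB

/-- **`T(m^#, Y) = 0`** -/
theorem YC.oy (h : YC ι a ρ i j y) (p0 p1 p2 r0 r1 r2 : k) : OY y (sh (mm y p0 p1 p2 r0 r1 r2)) := by
  have h1 : OY y (sh (col y r0 r1 r2 1)) := by
    have e2 := h.swap.sh_mm r0 r1 r2 0 1 0
    rw [mm_swap] at e2
    rw [col_swap, e2]
    have e4 : col (fun s s' => y s' s) 0 1 0 1 = y 1 1 := by unfold col; module
    rw [e4]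
    exact OY.add (OY.smul _ (OY.add (OY.add (OY.add (OY.add (OY.smul _ (OY.swap h.swap.oy_0)) (OY.smul _ (OY.swap h.swap.oy_1)))
      (OY.smul _ (OY.swap h.swap.oy_2))) (OY.smul _ (OY.swap h.swap.oy_3))) (OY.smul _ (OY.swap h.swap.oy_4))))
      (OY.smul _ h.oy_m)
  rw [h.sh_mm]
  exact OY.add (OY.smul _ (OY.add (OY.add (OY.add (OY.add (OY.smul _ h.oy_0) (OY.smul _ h.oy_1))
      (OY.smul _ h.oy_2)) (OY.smul _ h.oy_3)) (OY.smul _ h.oy_4))) (OY.smul _ h1)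

/-- the mixed products -/
theorem YC.oy_cr (h : YC ι a ρ i j y) (p0 p1 p2 q0 q1 q2 r0 r1 r2 : k) :
    OY y (cr (mm y p0 p1 p2 r0 r1 r2) (mm y q0 q1 q2 r0 r1 r2)) := by
  have e : cr (mm y p0 p1 p2 r0 r1 r2) (mm y q0 q1 q2 r0 r1 r2) = sh (mm y (p0 + q0) (p1 + q1) (p2 + q2) r0 r1 r2) +
      (-1 : k) • sh (mm y p0 p1 p2 r0 r1 r2) + (-1 : k) • sh (mm y q0 q1 q2 r0 r1 r2) := by
    have e1 : mm y (p0 + q0) (p1 + q1) (p2 + q2) r0 r1 r2 = mm y p0 p1 p2 r0 r1 r2 + mm y q0 q1 q2 r0 r1 r2 := by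
      unfold mm
      module
    rw [e1, sh_add]
    module
  rw [e]
  exact OY.add (OY.add (h.oy _ _ _ _ _ _) (OY.smul _ (h.oy _ _ _ _ _ _))) (OY.smul _ (h.oy _ _ _ _ _ _))

/-- the norm on the columns -/
theorem YC.N_p (h : YC ι a ρ i j y) (p0 p1 p2 r0 r1 r2 : k) : cubicT (mm y p0 p1 p2 r0 r1 r2) =
    p0 ^ 3 * cubicT (mm y 1 0 0 r0 r1 r2) + p1 ^ 3 * cubicT (mm y 0 1 0 r0 r1 r2) +
      p2 ^ 3 * cubicT (mm y 0 0 1 r0 r1 r2) := by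
  have e0 : mm y 1 0 0 r0 r1 r2 = col y r0 r1 r2 0 := by unfold mm; module
  have e1 : mm y 0 1 0 r0 r1 r2 = col y r0 r1 r2 1 := by unfold mm; module
  have e2 : mm y 0 0 1 r0 r1 r2 = col y r0 r1 r2 2 := by unfold mm; module
  rw [e0, e1, e2]
  conv_lhs => unfold mm
  rw [N_lin3]
  rw [← e0, ← e1, ← e2]
  rw [h.oy, h.oy, h.oy, h.oy, h.oy, h.oy, h.oy_cr]
  ring

theorem YC.N_eq (h : YC ι a ρ i j y) (p0 p1 p2 r0 r1 r2 : k) : cubicT (mm y p0 p1 p2 r0 r1 r2) =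
    p0 ^ 3 * (r0 ^ 3 * cubicT (y 0 0) + r1 ^ 3 * cubicT (y 0 1) + r2 ^ 3 * cubicT (y 0 2)) +
    p1 ^ 3 * (r0 ^ 3 * cubicT (y 1 0) + r1 ^ 3 * cubicT (y 1 1) + r2 ^ 3 * cubicT (y 1 2)) +
    p2 ^ 3 * (r0 ^ 3 * cubicT (y 2 0) + r1 ^ 3 * cubicT (y 2 1) + r2 ^ 3 * cubicT (y 2 2)) := by
  have e : ∀ p0 p1 p2 : k, cubicT (mm y p0 p1 p2 r0 r1 r2) = r0 ^ 3 * cubicT (mm y p0 p1 p2 1 0 0) +
      r1 ^ 3 * cubicT (mm y p0 p1 p2 0 1 0) + r2 ^ 3 * cubicT (mm y p0 p1 p2 0 0 1) := by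
    intro p0 p1 p2
    have := h.swap.N_p r0 r1 r2 p0 p1 p2
    rwa [mm_swap y, mm_swap y, mm_swap y, mm_swap y] at this
  obtain ⟨e00, e01, e02, e10, e11, e12, e20, e21, e22⟩ := mm_y y
  rw [h.N_p, e, e, e, ← e00, ← e01, ← e02, ← e10, ← e11, ← e12, ← e20, ← e21, ← e22]

/-- **the norm vanishes** -/
theorem YC.N_y (h : YC ι a ρ i j y) {A B : ℕ} (hA : A < 3) (hB : B < 3) : cubicT (y A B) = 0 := by
  have key : ∀ q ∈ Finset.range 3 ×ˢ Finset.range 3, (fun q : ℕ × ℕ => if q = (0, 0) then 0 else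
      ((Nat.choose 2 q.1 : k) * (Nat.choose 2 q.2 : k)) ^ 3 * cubicT (y q.1 q.2)) q = 0 := by
    refine poly33 (ι := ι) h.C.card h.hi h.hj h.hij (V := k) (fun t' => ?_)
    obtain ⟨t, ht⟩ : ∃ t : K, t ^ 3 = t' := by
      have hinj : Function.Injective (fun t : K => t ^ 3) := by
        have : (fun t : K => t ^ 3) = frobenius K 3 := rfl
        rw [this]
        exact frobenius_inj K 3
      exact (Finite.injective_iff_surjective.1 hinj) t'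
    have es : ∀ l : ℕ, ι t' ^ 3 ^ l = (ι t ^ 3 ^ l) ^ 3 := fun l => by
      rw [← ht, map_pow, ← pow_mul, ← pow_mul, mul_comm]
    have h2 := h.C.act.N (Cfsg.Agent.H943.SL2Rel.u t) (y 0 0)
    have h3 : ρ (Cfsg.Agent.H943.SL2Rel.u t) (y 0 0) = mm y 1 (2 * (ι t ^ 3 ^ i)) ((ι t ^ 3 ^ i) ^ 2) 1
        (2 * (ι t ^ 3 ^ j)) ((ι t ^ 3 ^ j) ^ 2) := by
      conv_lhs => rw [(mm_y y).1]
      rw [tp_u h.tp]
      congr 1 <;> ring
    rw [h3, h.N_eq] at h2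
    rw [es, es, Finset.sum_product]
    simp only [Finset.sum_range_succ, Finset.sum_range_zero, Nat.choose, zero_add, add_zero, Nat.cast_one]
    simp only [Prod.mk.injEq, show (1 : ℕ) = 0 ↔ False by norm_num, show (2 : ℕ) = 0 ↔ False by norm_num, and_false, false_and,
      if_false, and_self, if_true, smul_eq_mul]
    linear_combination h2
  have h1 : ∀ A < 3, ∀ B < 3, (A, B) ≠ (0, 0) → cubicT (y A B) = 0 := by
    intro A hA B hB hAB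
    have h2 := key (A, B) (Finset.mem_product.2 ⟨Finset.mem_range.2 hA, Finset.mem_range.2 hB⟩)
    beta_reduce at h2
    rw [if_neg hAB] at h2
    exact (mul_eq_zero.1 h2).resolve_left (pow_ne_zero _ (mul_ne_zero (ch_ne hA) (ch_ne hB)))
  by_cases hAB : (A, B) = (0, 0)
  · obtain ⟨rfl, rfl⟩ := Prod.mk.inj hAB
    have h3 : ρ Cfsg.Agent.H943.SL2Rel.w (y 2 2) = y 0 0 := by
      rw [h.tp.w 2 le_rfl 2 le_rfl]
      simp
    rw [← h3, h.C.act.N]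
    exact h1 2 (by norm_num) 2 (by norm_num) (by decide)
  · exact h1 A hA B hB hAB

theorem YC.N_mm (h : YC ι a ρ i j y) (p0 p1 p2 r0 r1 r2 : k) : cubicT (mm y p0 p1 p2 r0 r1 r2) = 0 := by
  rw [h.N_eq]
  simp only [h.N_y (show 0 < 3 by norm_num) (show 0 < 3 by norm_num), h.N_y (show 0 < 3 by norm_num) (show 1 < 3 by norm_num),
    h.N_y (show 0 < 3 by norm_num) (show 2 < 3 by norm_num), h.N_y (show 1 < 3 by norm_num) (show 0 < 3 by norm_num),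
    h.N_y (show 1 < 3 by norm_num) (show 1 < 3 by norm_num), h.N_y (show 1 < 3 by norm_num) (show 2 < 3 by norm_num),
    h.N_y (show 2 < 3 by norm_num) (show 0 < 3 by norm_num), h.N_y (show 2 < 3 by norm_num) (show 1 < 3 by norm_num),
    h.N_y (show 2 < 3 by norm_num) (show 2 < 3 by norm_num), mul_zero, add_zero]

/-- the columns -/
theorem YC.nz (h : YC ι a ρ i j y) (r0 r1 r2 : k) : Nz (col y r0 r1 r2 0) (col y r0 r1 r2 1) (col y r0 r1 r2 2) := by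
  have e0 : mm y 1 0 0 r0 r1 r2 = col y r0 r1 r2 0 := by unfold mm; module
  have e1 : mm y 0 1 0 r0 r1 r2 = col y r0 r1 r2 1 := by unfold mm; module
  have e2 : mm y 0 0 1 r0 r1 r2 = col y r0 r1 r2 2 := by unfold mm; module
  rw [← e0, ← e1, ← e2]
  exact ⟨h.N_mm _ _ _ _ _ _, h.N_mm _ _ _ _ _ _, h.N_mm _ _ _ _ _ _, h.oy _ _ _ _ _ _ _ _ _ _ _ _,
    h.oy _ _ _ _ _ _ _ _ _ _ _ _, h.oy _ _ _ _ _ _ _ _ _ _ _ _, h.oy _ _ _ _ _ _ _ _ _ _ _ _,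
    h.oy _ _ _ _ _ _ _ _ _ _ _ _, h.oy _ _ _ _ _ _ _ _ _ _ _ _, h.oy_cr _ _ _ _ _ _ _ _ _ _ _ _ _ _ _⟩

end Cfsg.Agent.R2.F4P.Th
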