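import Cfsg.Agent.R2.F4P.Th.Zt

/-!
# The alternating products of a two-digit tuple, II (helper20, S5931)

`tp_zz` : `zz y` is a two-digit tuple.
-/

set_option autoImplicit false
set_option linter.unusedSectionVars false
set_option linter.unusedVariables false

namespace Cfsg.Agent.R2.F4P.Th

open Cfsg.Lie
open Cfsg.Agent.ChevalleyStructure.E6Min.Tables Cfsg.Agent.ChevalleyStructure.E6Min.Basic
open Cfsg.Agent.H952.F4 (sh cr tf tr1 u0)
open Cfsg.Agent.H952.F4.Jord
open Cfsg.Agent.H943.SL2Rel Cfsg.Agent.H943.SL2Mod Cfsg.Agent.R2.H28.SL2 Cfsg.Agent.H943.RepAdd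
open Cfsg.Agent.R2.F4L

universe u v w

variable {k : Type u} [Field k] [DecidableEq k] {K : Type w} [Field K] [Fintype K] [DecidableEq K] {ι : K →+* k}
variable [CharP k 3] [CharP K 3] {a : ℕ}
variable {ρ : Representation k (Matrix.SpecialLinearGroup (Fin 2) K) (I27 → k)} {i j : ℕ} {y : ℕ → ℕ → I27 → k}

theorem canc {V : Type*} [AddCommGroup V] [Module k V] {c : k} (hc : c ≠ 0) {v w : V} (h : c • v = c • w) : v = w := by
  rw [← sub_eq_zero, ← smul_sub] at h
  exact sub_eq_zero.1 ((smul_eq_zero.1 h).resolve_left hc)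

theorem one3 : (1 : k) ≠ 0 := one_ne_zero

theorem four3 (k : Type u) [Field k] [CharP k 3] : (4 : k) ≠ 0 := by
  rw [show (4 : k) = 2 * 2 by norm_num]
  exact mul_ne_zero (two3 k) (two3 k)

/-- an equation for the nine vectors suffices -/
theorem ext_u {z : ℕ → ℕ → I27 → k} {S S' : k} {f : (I27 → k) →ₗ[k] (I27 → k)}
    (e00 : f (z 0 0) = mm z 1 (2 * S) (S ^ 2) 1 (2 * S') (S' ^ 2)) (e01 : f (z 0 1) = mm z 1 (2 * S) (S ^ 2) 0 1 S')
    (e02 : f (z 0 2) = mm z 1 (2 * S) (S ^ 2) 0 0 1) (e10 : f (z 1 0) = mm z 0 1 S 1 (2 * S') (S' ^ 2))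
    (e11 : f (z 1 1) = mm z 0 1 S 0 1 S') (e12 : f (z 1 2) = mm z 0 1 S 0 0 1)
    (e20 : f (z 2 0) = mm z 0 0 1 1 (2 * S') (S' ^ 2)) (e21 : f (z 2 1) = mm z 0 0 1 0 1 S')
    (e22 : f (z 2 2) = mm z 0 0 1 0 0 1) (p0 p1 p2 r0 r1 r2 : k) : f (mm z p0 p1 p2 r0 r1 r2) =
      mm z p0 (2 * S * p0 + p1) (S ^ 2 * p0 + S * p1 + p2) r0 (2 * S' * r0 + r1) (S' ^ 2 * r0 + S' * r1 + r2) := by
  unfold mm col at *
  simp only [map_add, map_smul, e00, e01, e02, e10, e11, e12, e20, e21, e22]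
  module

theorem ext_h {z : ℕ → ℕ → I27 → k} {s0 s2 t0 t2 : k} {f : (I27 → k) →ₗ[k] (I27 → k)}
    (e00 : f (z 0 0) = (s0 * t0) • z 0 0) (e01 : f (z 0 1) = s0 • z 0 1) (e02 : f (z 0 2) = (s0 * t2) • z 0 2)
    (e10 : f (z 1 0) = t0 • z 1 0) (e11 : f (z 1 1) = z 1 1) (e12 : f (z 1 2) = t2 • z 1 2)
    (e20 : f (z 2 0) = (s2 * t0) • z 2 0) (e21 : f (z 2 1) = s2 • z 2 1) (e22 : f (z 2 2) = (s2 * t2) • z 2 2)
    (p0 p1 p2 r0 r1 r2 : k) : f (mm z p0 p1 p2 r0 r1 r2) = mm z (s0 * p0) p1 (s2 * p2) (t0 * r0) r1 (t2 * r2) := by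
  unfold mm col at *
  simp only [map_add, map_smul, e00, e01, e02, e10, e11, e12, e20, e21, e22]
  module

theorem ext_w {z : ℕ → ℕ → I27 → k} {f : (I27 → k) →ₗ[k] (I27 → k)}
    (e00 : f (z 0 0) = z 2 2) (e01 : f (z 0 1) = -z 2 1) (e02 : f (z 0 2) = z 2 0)
    (e10 : f (z 1 0) = -z 1 2) (e11 : f (z 1 1) = z 1 1) (e12 : f (z 1 2) = -z 1 0)
    (e20 : f (z 2 0) = z 0 2) (e21 : f (z 2 1) = -z 0 1) (e22 : f (z 2 2) = z 0 0)
    (p0 p1 p2 r0 r1 r2 : k) : f (mm z p0 p1 p2 r0 r1 r2) = mm z p2 (-p1) p0 r2 (-r1) r0 := by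
  unfold mm col at *
  simp only [map_add, map_smul, e00, e01, e02, e10, e11, e12, e20, e21, e22]
  module

/-- **the alternating products form a tuple** -/
theorem tp_zz (H : Act ρ) (hy : TP ι 3 ρ 2 i 2 j y) : TP ι 3 ρ 2 i 2 j (zz y) := by
  have h2 := two3 k
  have h4 := four3 k
  have h1 : (1 : k) ≠ 0 := one_ne_zero
  refine TP.of_nine (fun s s' hs => ?_) (fun t => ?_) (fun c => ?_) ?_
  · have : ∀ s s', 2 < s ∨ 2 < s' → zz y s s' = 0 := by
      intro s s' hs
      unfold zz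
      split <;> first | omega | rfl
    exact this s s' hs
  · have key : ∀ p0 p1 p2 q0 q1 q2 r0 r1 r2 s0 s1 s2 : k, ρ (Cfsg.Agent.H943.SL2Rel.u t)
        (mm (zz y) (p0 * q1 - p1 * q0) (2 * (p0 * q2 - p2 * q0)) (p1 * q2 - p2 * q1)
        (r0 * s1 - r1 * s0) (2 * (r0 * s2 - r2 * s0)) (r1 * s2 - r2 * s1)) =
        mm (zz y) (p0 * q1 - p1 * q0) (2 * (ι t ^ 3 ^ i) * (p0 * q1 - p1 * q0) + 2 * (p0 * q2 - p2 * q0))
          ((ι t ^ 3 ^ i) ^ 2 * (p0 * q1 - p1 * q0) + (ι t ^ 3 ^ i) * (2 * (p0 * q2 - p2 * q0)) + (p1 * q2 - p2 * q1))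
          (r0 * s1 - r1 * s0) (2 * (ι t ^ 3 ^ j) * (r0 * s1 - r1 * s0) + 2 * (r0 * s2 - r2 * s0))
          ((ι t ^ 3 ^ j) ^ 2 * (r0 * s1 - r1 * s0) + (ι t ^ 3 ^ j) * (2 * (r0 * s2 - r2 * s0)) + (r1 * s2 - r2 * s1)) := by
      intro p0 p1 p2 q0 q1 q2 r0 r1 r2 s0 s1 s2
      apply canc h2
      rw [← map_smul, ← BB_eq h2, tp_uB H hy, BB_eq h2]
      congr 2 <;> ring
    have e00 : ρ (Cfsg.Agent.H943.SL2Rel.u t) (zz y 0 0) = mm (zz y) 1 (2 * (ι t ^ 3 ^ i)) ((ι t ^ 3 ^ i) ^ 2) 1 (2 * (ι t ^ 3 ^ j)) ((ι t ^ 3 ^ j) ^ 2) := by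
      have := key 1 0 0 0 1 0 1 0 0 0 1 0
      apply canc h1
      rw [← map_smul]
      refine Eq.trans ?_ (this.trans ?_)
      · congr 1
        unfold mm col
        module
      · unfold mm col
        module
    have e01 : ρ (Cfsg.Agent.H943.SL2Rel.u t) (zz y 0 1) = mm (zz y) 1 (2 * (ι t ^ 3 ^ i)) ((ι t ^ 3 ^ i) ^ 2) 0 1 (ι t ^ 3 ^ j) := by
      have := key 1 0 0 0 1 0 1 0 0 0 0 1
      apply canc h2
      rw [← map_smul]
      refine Eq.trans ?_ (this.trans ?_)
      · congr 1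
        unfold mm col
        module
      · unfold mm col
        module
    have e02 : ρ (Cfsg.Agent.H943.SL2Rel.u t) (zz y 0 2) = mm (zz y) 1 (2 * (ι t ^ 3 ^ i)) ((ι t ^ 3 ^ i) ^ 2) 0 0 1 := by
      have := key 1 0 0 0 1 0 0 1 0 0 0 1
      apply canc h1
      rw [← map_smul]
      refine Eq.trans ?_ (this.trans ?_)
      · congr 1
        unfold mm col
        module
      · unfold mm col
        module
    have e10 : ρ (Cfsg.Agent.H943.SL2Rel.u t) (zz y 1 0) = mm (zz y) 0 1 (ι t ^ 3 ^ i) 1 (2 * (ι t ^ 3 ^ j)) ((ι t ^ 3 ^ j) ^ 2) := by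
      have := key 1 0 0 0 0 1 1 0 0 0 1 0
      apply canc h2
      rw [← map_smul]
      refine Eq.trans ?_ (this.trans ?_)
      · congr 1
        unfold mm col
        module
      · unfold mm col
        module
    have e11 : ρ (Cfsg.Agent.H943.SL2Rel.u t) (zz y 1 1) = mm (zz y) 0 1 (ι t ^ 3 ^ i) 0 1 (ι t ^ 3 ^ j) := by
      have := key 1 0 0 0 0 1 1 0 0 0 0 1
      apply canc h4
      rw [← map_smul]
      refine Eq.trans ?_ (this.trans ?_)
      · congr 1
        unfold mm col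
        module
      · unfold mm col
        module
    have e12 : ρ (Cfsg.Agent.H943.SL2Rel.u t) (zz y 1 2) = mm (zz y) 0 1 (ι t ^ 3 ^ i) 0 0 1 := by
      have := key 1 0 0 0 0 1 0 1 0 0 0 1
      apply canc h2
      rw [← map_smul]
      refine Eq.trans ?_ (this.trans ?_)
      · congr 1
        unfold mm col
        module
      · unfold mm col
        module
    have e20 : ρ (Cfsg.Agent.H943.SL2Rel.u t) (zz y 2 0) = mm (zz y) 0 0 1 1 (2 * (ι t ^ 3 ^ j)) ((ι t ^ 3 ^ j) ^ 2) := by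
      have := key 0 1 0 0 0 1 1 0 0 0 1 0
      apply canc h1
      rw [← map_smul]
      refine Eq.trans ?_ (this.trans ?_)
      · congr 1
        unfold mm col
        module
      · unfold mm col
        module
    have e21 : ρ (Cfsg.Agent.H943.SL2Rel.u t) (zz y 2 1) = mm (zz y) 0 0 1 0 1 (ι t ^ 3 ^ j) := by
      have := key 0 1 0 0 0 1 1 0 0 0 0 1
      apply canc h2
      rw [← map_smul]
      refine Eq.trans ?_ (this.trans ?_)
      · congr 1
        unfold mm col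
        module
      · unfold mm col
        module
    have e22 : ρ (Cfsg.Agent.H943.SL2Rel.u t) (zz y 2 2) = mm (zz y) 0 0 1 0 0 1 := by
      have := key 0 1 0 0 0 1 0 1 0 0 0 1
      apply canc h1
      rw [← map_smul]
      refine Eq.trans ?_ (this.trans ?_)
      · congr 1
        unfold mm col
        module
      · unfold mm col
        module
    exact ext_u e00 e01 e02 e10 e11 e12 e20 e21 e22
  · have hi0 : ι (c : K) ^ 3 ^ i ≠ 0 := pow_ne_zero _ ((map_ne_zero ι).2 c.ne_zero)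
    have hj0 : ι (c : K) ^ 3 ^ j ≠ 0 := pow_ne_zero _ ((map_ne_zero ι).2 c.ne_zero)
    have key : ∀ p0 p1 p2 q0 q1 q2 r0 r1 r2 s0 s1 s2 : k, ρ (Cfsg.Agent.H943.SL2Rel.h c)
        (mm (zz y) (p0 * q1 - p1 * q0) (2 * (p0 * q2 - p2 * q0)) (p1 * q2 - p2 * q1)
        (r0 * s1 - r1 * s0) (2 * (r0 * s2 - r2 * s0)) (r1 * s2 - r2 * s1)) =
        mm (zz y) ((ι c ^ 3 ^ i)⁻¹ ^ 2 * (p0 * q1 - p1 * q0)) (2 * (p0 * q2 - p2 * q0))
          ((ι c ^ 3 ^ i) ^ 2 * (p1 * q2 - p2 * q1))
          ((ι c ^ 3 ^ j)⁻¹ ^ 2 * (r0 * s1 - r1 * s0)) (2 * (r0 * s2 - r2 * s0))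
          ((ι c ^ 3 ^ j) ^ 2 * (r1 * s2 - r2 * s1)) := by
      intro p0 p1 p2 q0 q1 q2 r0 r1 r2 s0 s1 s2
      apply canc h2
      rw [← map_smul, ← BB_eq h2, tp_hB H hy, BB_eq h2]
      congr 2 <;> field_simp
    have e00 : ρ (Cfsg.Agent.H943.SL2Rel.h c) (zz y 0 0) = (((ι c ^ 3 ^ i)⁻¹ ^ 2) * ((ι c ^ 3 ^ j)⁻¹ ^ 2)) • zz y 0 0 := by
      have := key 1 0 0 0 1 0 1 0 0 0 1 0
      apply canc h1
      rw [← map_smul]
      refine Eq.trans ?_ (this.trans ?_)
      · congr 1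
        unfold mm col
        module
      · unfold mm col
        module
    have e01 : ρ (Cfsg.Agent.H943.SL2Rel.h c) (zz y 0 1) = ((ι c ^ 3 ^ i)⁻¹ ^ 2) • zz y 0 1 := by
      have := key 1 0 0 0 1 0 1 0 0 0 0 1
      apply canc h2
      rw [← map_smul]
      refine Eq.trans ?_ (this.trans ?_)
      · congr 1
        unfold mm col
        module
      · unfold mm col
        module
    have e02 : ρ (Cfsg.Agent.H943.SL2Rel.h c) (zz y 0 2) = (((ι c ^ 3 ^ i)⁻¹ ^ 2) * ((ι c ^ 3 ^ j) ^ 2)) • zz y 0 2 := by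
      have := key 1 0 0 0 1 0 0 1 0 0 0 1
      apply canc h1
      rw [← map_smul]
      refine Eq.trans ?_ (this.trans ?_)
      · congr 1
        unfold mm col
        module
      · unfold mm col
        module
    have e10 : ρ (Cfsg.Agent.H943.SL2Rel.h c) (zz y 1 0) = ((ι c ^ 3 ^ j)⁻¹ ^ 2) • zz y 1 0 := by
      have := key 1 0 0 0 0 1 1 0 0 0 1 0
      apply canc h2
      rw [← map_smul]
      refine Eq.trans ?_ (this.trans ?_)
      · congr 1
        unfold mm col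
        module
      · unfold mm col
        module
    have e11 : ρ (Cfsg.Agent.H943.SL2Rel.h c) (zz y 1 1) = zz y 1 1 := by
      have := key 1 0 0 0 0 1 1 0 0 0 0 1
      apply canc h4
      rw [← map_smul]
      refine Eq.trans ?_ (this.trans ?_)
      · congr 1
        unfold mm col
        module
      · unfold mm col
        module
    have e12 : ρ (Cfsg.Agent.H943.SL2Rel.h c) (zz y 1 2) = ((ι c ^ 3 ^ j) ^ 2) • zz y 1 2 := by
      have := key 1 0 0 0 0 1 0 1 0 0 0 1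
      apply canc h2
      rw [← map_smul]
      refine Eq.trans ?_ (this.trans ?_)
      · congr 1
        unfold mm col
        module
      · unfold mm col
        module
    have e20 : ρ (Cfsg.Agent.H943.SL2Rel.h c) (zz y 2 0) = (((ι c ^ 3 ^ i) ^ 2) * ((ι c ^ 3 ^ j)⁻¹ ^ 2)) • zz y 2 0 := by
      have := key 0 1 0 0 0 1 1 0 0 0 1 0
      apply canc h1
      rw [← map_smul]
      refine Eq.trans ?_ (this.trans ?_)
      · congr 1
        unfold mm col
        module
      · unfold mm col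
        module
    have e21 : ρ (Cfsg.Agent.H943.SL2Rel.h c) (zz y 2 1) = ((ι c ^ 3 ^ i) ^ 2) • zz y 2 1 := by
      have := key 0 1 0 0 0 1 1 0 0 0 0 1
      apply canc h2
      rw [← map_smul]
      refine Eq.trans ?_ (this.trans ?_)
      · congr 1
        unfold mm col
        module
      · unfold mm col
        module
    have e22 : ρ (Cfsg.Agent.H943.SL2Rel.h c) (zz y 2 2) = (((ι c ^ 3 ^ i) ^ 2) * ((ι c ^ 3 ^ j) ^ 2)) • zz y 2 2 := by
      have := key 0 1 0 0 0 1 0 1 0 0 0 1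
      apply canc h1
      rw [← map_smul]
      refine Eq.trans ?_ (this.trans ?_)
      · congr 1
        unfold mm col
        module
      · unfold mm col
        module
    exact ext_h e00 e01 e02 e10 e11 e12 e20 e21 e22
  · have key : ∀ p0 p1 p2 q0 q1 q2 r0 r1 r2 s0 s1 s2 : k, ρ Cfsg.Agent.H943.SL2Rel.w
        (mm (zz y) (p0 * q1 - p1 * q0) (2 * (p0 * q2 - p2 * q0)) (p1 * q2 - p2 * q1)
        (r0 * s1 - r1 * s0) (2 * (r0 * s2 - r2 * s0)) (r1 * s2 - r2 * s1)) =
        mm (zz y) (p1 * q2 - p2 * q1) (-(2 * (p0 * q2 - p2 * q0))) (p0 * q1 - p1 * q0)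
          (r1 * s2 - r2 * s1) (-(2 * (r0 * s2 - r2 * s0))) (r0 * s1 - r1 * s0) := by
      intro p0 p1 p2 q0 q1 q2 r0 r1 r2 s0 s1 s2
      apply canc h2
      rw [← map_smul, ← BB_eq h2, tp_wB H hy, BB_eq h2]
      congr 2 <;> ring
    have e00 : ρ Cfsg.Agent.H943.SL2Rel.w (zz y 0 0) = zz y 2 2 := by
      have := key 1 0 0 0 1 0 1 0 0 0 1 0
      apply canc h1
      rw [← map_smul]
      refine Eq.trans ?_ (this.trans ?_)
      · congr 1
        unfold mm col
        module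
      · unfold mm col
        module
    have e01 : ρ Cfsg.Agent.H943.SL2Rel.w (zz y 0 1) = -zz y 2 1 := by
      have := key 1 0 0 0 1 0 1 0 0 0 0 1
      apply canc h2
      rw [← map_smul]
      refine Eq.trans ?_ (this.trans ?_)
      · congr 1
        unfold mm col
        module
      · unfold mm col
        module
    have e02 : ρ Cfsg.Agent.H943.SL2Rel.w (zz y 0 2) = zz y 2 0 := by
      have := key 1 0 0 0 1 0 0 1 0 0 0 1
      apply canc h1
      rw [← map_smul]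
      refine Eq.trans ?_ (this.trans ?_)
      · congr 1
        unfold mm col
        module
      · unfold mm col
        module
    have e10 : ρ Cfsg.Agent.H943.SL2Rel.w (zz y 1 0) = -zz y 1 2 := by
      have := key 1 0 0 0 0 1 1 0 0 0 1 0
      apply canc h2
      rw [← map_smul]
      refine Eq.trans ?_ (this.trans ?_)
      · congr 1
        unfold mm col
        module
      · unfold mm col
        module
    have e11 : ρ Cfsg.Agent.H943.SL2Rel.w (zz y 1 1) = zz y 1 1 := by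
      have := key 1 0 0 0 0 1 1 0 0 0 0 1
      apply canc h4
      rw [← map_smul]
      refine Eq.trans ?_ (this.trans ?_)
      · congr 1
        unfold mm col
        module
      · unfold mm col
        module
    have e12 : ρ Cfsg.Agent.H943.SL2Rel.w (zz y 1 2) = -zz y 1 0 := by
      have := key 1 0 0 0 0 1 0 1 0 0 0 1
      apply canc h2
      rw [← map_smul]
      refine Eq.trans ?_ (this.trans ?_)
      · congr 1
        unfold mm col
        module
      · unfold mm col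
        module
    have e20 : ρ Cfsg.Agent.H943.SL2Rel.w (zz y 2 0) = zz y 0 2 := by
      have := key 0 1 0 0 0 1 1 0 0 0 1 0
      apply canc h1
      rw [← map_smul]
      refine Eq.trans ?_ (this.trans ?_)
      · congr 1
        unfold mm col
        module
      · unfold mm col
        module
    have e21 : ρ Cfsg.Agent.H943.SL2Rel.w (zz y 2 1) = -zz y 0 1 := by
      have := key 0 1 0 0 0 1 1 0 0 0 0 1
      apply canc h2
      rw [← map_smul]
      refine Eq.trans ?_ (this.trans ?_)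
      · congr 1
        unfold mm col
        module
      · unfold mm col
        module
    have e22 : ρ Cfsg.Agent.H943.SL2Rel.w (zz y 2 2) = zz y 0 0 := by
      have := key 0 1 0 0 0 1 0 1 0 0 0 1
      apply canc h1
      rw [← map_smul]
      refine Eq.trans ?_ (this.trans ?_)
      · congr 1
        unfold mm col
        module
      · unfold mm col
        module
    exact ext_w e00 e01 e02 e10 e11 e12 e20 e21 e22

end Cfsg.Agent.R2.F4P.Th
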