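import Cfsg.Agent.R2.F4P.Th.Y9c
import Cfsg.Agent.R2.F4P.Th.Zu

/-!
# The submodules `V_{2 3^i + 2 3^j}`, IV (helper20, S5931)

* `YC.exists_c` : the constant; `YC.zero` : both constants cannot vanish.
-/

set_option autoImplicit false
set_option linter.unusedSectionVars false
set_option linter.unusedVariables false

namespace Cfsg.Agent.R2.F4P.Th

open Cfsg.Lie
open Cfsg.Agent.ChevalleyStructure.E6Min.Tables Cfsg.Agent.ChevalleyStructure.E6Min.Basic
open Cfsg.Agent.H952.F4 (sh cr tf tr1 u0)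
open Cfsg.Agent.H952.F4.Jord
open Cfsg.Agent.H943.SL2Rel Cfsg.Agent.H943.SL2Mod Cfsg.Agent.R2.H28.SL2 Cfsg.Agent.H943.RepAdd
open Cfsg.Agent.R2.F4L

universe u v w

variable {k : Type u} [Field k] [DecidableEq k] {K : Type w} [Field K] [Fintype K] [DecidableEq K] {ι : K →+* k}
variable [CharP k 3] [CharP K 3] {a : ℕ}
variable {ρ : Representation k (Matrix.SpecialLinearGroup (Fin 2) K) (I27 → k)} {i j : ℕ} {y : ℕ → ℕ → I27 → k}

/-- **the constant** -/
theorem YC.exists_c (h : YC ι a ρ i j y) : ∃ c : k, cr (y 0 1) (y 2 1) + (4 : k) • sh (y 1 1) = c • u0 k := by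
  refine h.C.fix _ fun g => fix_of (fun t => ?_) (fun c => ?_) ?_ g
  · set r := ι t ^ 3 ^ j with hr
    set s := ι t ^ 3 ^ i with hs
    have e0 : ρ (Cfsg.Agent.H943.SL2Rel.u t) (y 0 1) = col y 0 1 r 0 + (2 * s) • col y 0 1 r 1 + (s ^ 2) • col y 0 1 r 2 := by
      conv_lhs => rw [(mm_y y).2.1, tp_u h.tp]
      unfold mm col
      module
    have e1 : ρ (Cfsg.Agent.H943.SL2Rel.u t) (y 1 1) = col y 0 1 r 1 + s • col y 0 1 r 2 := by
      conv_lhs => rw [(mm_y y).2.2.2.2.1, tp_u h.tp]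
      unfold mm col
      module
    have e2 : ρ (Cfsg.Agent.H943.SL2Rel.u t) (y 2 1) = col y 0 1 r 2 := by
      conv_lhs => rw [(mm_y y).2.2.2.2.2.2.2.1, tp_u h.tp]
      unfold mm col
      module
    rw [map_add, map_smul, h.C.act.cr, h.C.act.sh, e0, e1, e2, cr_add_left, cr_add_left, cr_smul_left, cr_smul_left,
      cr_self, sh_add, sh_smul, cr_smul_right, h.c_2]
    have h3 : ∀ v : I27 → k, (6 : k) • v = 0 := fun v => by
      rw [show (6 : k) = 3 * 2 by norm_num, s3]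
    calc _ = (1 ^ 2 - 0 * r) • (cr (y 0 1) (y 2 1) + (4 : k) • sh (y 1 1)) +
          (6 : k) • (s • cr (col y 0 1 r 1) (col y 0 1 r 2) + s ^ 2 • sh (col y 0 1 r 2)) := by module
      _ = _ := by rw [h3]; module
  · have hi0 : ι (c : K) ^ 3 ^ i ≠ 0 := pow_ne_zero _ ((map_ne_zero ι).2 c.ne_zero)
    have e0 : ρ (Cfsg.Agent.H943.SL2Rel.h c) (y 0 1) = ((ι c ^ 3 ^ i)⁻¹ ^ 2) • y 0 1 := by
      conv_lhs => rw [(mm_y y).2.1, tp_h h.tp]
      unfold mm col
      module
    have e1 : ρ (Cfsg.Agent.H943.SL2Rel.h c) (y 1 1) = y 1 1 := by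
      conv_lhs => rw [(mm_y y).2.2.2.2.1, tp_h h.tp]
      unfold mm col
      module
    have e2 : ρ (Cfsg.Agent.H943.SL2Rel.h c) (y 2 1) = ((ι c ^ 3 ^ i) ^ 2) • y 2 1 := by
      conv_lhs => rw [(mm_y y).2.2.2.2.2.2.2.1, tp_h h.tp]
      unfold mm col
      module
    rw [map_add, map_smul, h.C.act.cr, h.C.act.sh, e0, e1, e2, cr_smul_left, cr_smul_right, smul_smul, ← mul_pow,
      inv_mul_cancel₀ hi0, one_pow, one_smul]
  · have e0 : ρ Cfsg.Agent.H943.SL2Rel.w (y 0 1) = (-1 : k) • y 2 1 := by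
      conv_lhs => rw [(mm_y y).2.1, tp_w h.tp]
      unfold mm col
      module
    have e1 : ρ Cfsg.Agent.H943.SL2Rel.w (y 1 1) = y 1 1 := by
      conv_lhs => rw [(mm_y y).2.2.2.2.1, tp_w h.tp]
      unfold mm col
      module
    have e2 : ρ Cfsg.Agent.H943.SL2Rel.w (y 2 1) = (-1 : k) • y 0 1 := by
      conv_lhs => rw [(mm_y y).2.2.2.2.2.2.2.1, tp_w h.tp]
      unfold mm col
      module
    rw [map_add, map_smul, h.C.act.cr, h.C.act.sh, e0, e1, e2, cr_smul_left, cr_smul_right, cr_comm]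
    module

/-- the columns -/
theorem YC.w_r (h : YC ι a ρ i j y) {c : k} (hc : cr (y 0 1) (y 2 1) + (4 : k) • sh (y 1 1) = c • u0 k) (r0 r1 r2 : k) :
    cr (col y r0 r1 r2 0) (col y r0 r1 r2 2) = ((r1 ^ 2 - r0 * r2) * c) • u0 k + (2 : k) • sh (col y r0 r1 r2 1) := by
  rw [h.c_2, hc]
  have h3 : (6 : k) • sh (col y r0 r1 r2 1) = 0 := by rw [show (6 : k) = 3 * 2 by norm_num, s3]
  calc _ = ((r1 ^ 2 - r0 * r2) * c) • u0 k + (2 : k) • sh (col y r0 r1 r2 1) - (6 : k) • sh (col y r0 r1 r2 1) := by module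
    _ = _ := by rw [h3, sub_zero]

/-- the middle column vector -/
theorem YC.sh_c1 (h : YC ι a ρ i j y) (r0 r1 r2 : k) : sh (col y r0 r1 r2 1) =
    (r0 ^ 2 • sh (y 1 0) + (r0 * r1) • cr (y 1 0) (y 1 1) +
      (r0 * r2) • (cr (y 1 0) (y 1 2) + (4 : k) • sh (y 1 1)) + (r1 * r2) • cr (y 1 1) (y 1 2) + r2 ^ 2 • sh (y 1 2)) +
      (r1 ^ 2 - 4 * r0 * r2) • sh (y 1 1) := by
  have e2 := h.swap.sh_mm r0 r1 r2 0 1 0
  have e4 : col (fun s s' => y s' s) 0 1 0 1 = y 1 1 := by unfold col; module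
  rw [mm_swap, ← col_swap, e4] at e2
  refine e2.trans ?_
  module

theorem cr_span {S T : Set (I27 → k)} (h : ∀ x ∈ S, ∀ y ∈ T, cr x y = 0) {x y : I27 → k} (hx : x ∈ Submodule.span k S)
    (hy : y ∈ Submodule.span k T) : cr x y = 0 := by
  induction hx using Submodule.span_induction with
  | mem x hx =>
    induction hy using Submodule.span_induction with
    | mem y hy => exact h x hx y hy
    | zero => exact cr_zero_right x
    | add a b _ _ ha hb => rw [cr_add_right, ha, hb, add_zero]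
    | smul c a _ ha => rw [cr_smul_right, ha, smul_zero]
  | zero => exact cr_zero_left y
  | add a b _ _ ha hb => rw [cr_add_left, ha, hb, add_zero]
  | smul c a _ ha => rw [cr_smul_left, ha, smul_zero]

theorem Wh.all {v1 v2 v3 v4 v5 : I27 → k} (W : Wh v1 v2 v3 v4 v5) :
    ∀ x ∈ ({v1, v2, v3, v4, v5} : Set (I27 → k)), ∀ y ∈ ({v1, v2, v3, v4, v5} : Set (I27 → k)), cr x y = 0 := by
  have S : ∀ {x : I27 → k}, H952.F4.sh x = 0 → cr x x = 0 := fun hx => by rw [cr_self, hx, smul_zero]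
  have h11 := S W.s1
  have h22 := S W.s2
  have h33 := S W.s3
  have h44 := S W.s4
  have h55 := S W.s5
  have h12 := W.c12
  have h13 := W.c13
  have h14 := W.c14
  have h15 := W.c15
  have h23 := W.c23
  have h24 := W.c24
  have h25 := W.c25
  have h34 := W.c34
  have h35 := W.c35
  have h45 := W.c45
  intro x hx y hy
  simp only [Set.mem_insert_iff, Set.mem_singleton_iff] at hx hy
  rcases hx with rfl | rfl | rfl | rfl | rfl <;> rcases hy with rfl | rfl | rfl | rfl | rfl <;>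
    first | assumption | (rw [cr_comm]; assumption)

/-- **both constants cannot vanish, I** : all the adjoints of the pure tensors vanish -/
theorem YC.pure0 (h : YC ι a ρ i j y) (hc : cr (y 0 1) (y 2 1) + (4 : k) • sh (y 1 1) = 0)
    (hc' : cr (y 1 0) (y 1 2) + (4 : k) • sh (y 1 1) = 0) (p0 p1 p2 r0 r1 r2 : k) : sh (mm y p0 p1 p2 r0 r1 r2) = 0 := by
  have h2 := two3 k
  have hW : ∀ r0 r1 r2 : k, Wh (sh (col y r0 r1 r2 0)) (sh (col y r0 r1 r2 1)) (sh (col y r0 r1 r2 2))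
      (cr (col y r0 r1 r2 0) (col y r0 r1 r2 1)) (cr (col y r0 r1 r2 1) (col y r0 r1 r2 2)) := fun r0 r1 r2 =>
    (h.nz r0 r1 r2).wh h2 (by
      rw [h.w_r (c := 0) (by rw [hc, zero_smul]), mul_zero, zero_smul, zero_add])
  have hV : ∀ r0 r1 r2 : k, Wh (sh (col (fun s s' => y s' s) r0 r1 r2 0)) (sh (col (fun s s' => y s' s) r0 r1 r2 1))
      (sh (col (fun s s' => y s' s) r0 r1 r2 2)) (cr (col (fun s s' => y s' s) r0 r1 r2 0) (col (fun s s' => y s' s) r0 r1 r2 1))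
      (cr (col (fun s s' => y s' s) r0 r1 r2 1) (col (fun s s' => y s' s) r0 r1 r2 2)) := fun r0 r1 r2 =>
    (h.swap.nz r0 r1 r2).wh h2 (by
      rw [h.swap.w_r (c := 0) (by rw [hc', zero_smul]), mul_zero, zero_smul, zero_add])
  -- the columns with `n(r) = 1`
  have hw : ∀ r0 r1 r2 : k, r1 ^ 2 - r0 * r2 = 1 → ∀ v ∈ ({sh (y 0 1), cr (y 0 1) (y 1 1), cr (y 1 1) (y 2 1), sh (y 2 1)} :
      Set (I27 → k)), cr v (sh (col y r0 r1 r2 1)) = 0 := by
    intro r0 r1 r2 hr v hv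
    have W := hW r0 r1 r2
    have e0 := h.c_0 r0 r1 r2
    have e1 := h.c_1 r0 r1 r2
    have e3 := h.c_3 r0 r1 r2
    have e4 := h.c_4 r0 r1 r2
    rw [hr, one_smul] at e0 e1 e3 e4
    rw [e0, e1, e3, e4] at W
    simp only [Set.mem_insert_iff, Set.mem_singleton_iff] at hv
    rcases hv with rfl | rfl | rfl | rfl
    · exact W.c12
    · rw [cr_comm]; exact W.c24
    · rw [cr_comm]; exact W.c25
    · rw [cr_comm]; exact W.c23
  have hx : ∀ v ∈ ({sh (y 0 1), cr (y 0 1) (y 1 1), cr (y 1 1) (y 2 1), sh (y 2 1)} : Set (I27 → k)),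
      ∀ w ∈ ({sh (y 1 0), sh (y 1 1), sh (y 1 2), cr (y 1 0) (y 1 1), cr (y 1 1) (y 1 2)} : Set (I27 → k)), cr v w = 0 := by
    intro v hv w hww
    have a1 := hw 0 1 0 (by ring) v hv
    have a2 := hw 1 1 0 (by ring) v hv
    have a3 := hw (-1) 1 0 (by ring) v hv
    have a4 := hw 0 1 1 (by ring) v hv
    have a5 := hw 0 1 (-1) (by ring) v hv
    rw [h.sh_c1] at a1 a2 a3 a4 a5
    simp only [cr_add_right, cr_smul_right] at a1 a2 a3 a4 a5
    have b1 : cr v (sh (y 1 1)) = 0 := by rw [← a1]; module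
    have b2 : cr v (sh (y 1 0)) = 0 := by
      apply canc h2
      rw [smul_zero]
      refine Eq.trans ?_ ((congrArg₂ (· + ·) a2 a3).trans (add_zero 0))
      rw [b1]
      module
    have b3 : cr v (cr (y 1 0) (y 1 1)) = 0 := by
      rw [← a2, b1, b2]
      module
    have b4 : cr v (sh (y 1 2)) = 0 := by
      apply canc h2
      rw [smul_zero]
      refine Eq.trans ?_ ((congrArg₂ (· + ·) a4 a5).trans (add_zero 0))
      rw [b1]
      module
    have b5 : cr v (cr (y 1 1) (y 1 2)) = 0 := by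
      rw [← a4, b1, b4]
      module
    simp only [Set.mem_insert_iff, Set.mem_singleton_iff] at hww
    rcases hww with rfl | rfl | rfl | rfl | rfl
    · exact b2
    · exact b1
    · exact b4
    · exact b3
    · exact b5
  -- the span
  have W1 : Wh (sh (y 0 1)) (sh (y 1 1)) (sh (y 2 1)) (cr (y 0 1) (y 1 1)) (cr (y 1 1) (y 2 1)) := by
    have := hW 0 1 0
    have e : ∀ s, col y 0 1 0 s = y s 1 := fun s => by unfold col; module
    rwa [e, e, e] at this
  have V1 : Wh (sh (y 1 0)) (sh (y 1 1)) (sh (y 1 2)) (cr (y 1 0) (y 1 1)) (cr (y 1 1) (y 1 2)) := by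
    have := hV 0 1 0
    have e : ∀ s, col (fun s s' => y s' s) 0 1 0 s = y 1 s := fun s => by unfold col; module
    rwa [e, e, e] at this
  set SF : Set (I27 → k) := {sh (y 0 1), sh (y 1 1), sh (y 2 1), cr (y 0 1) (y 1 1), cr (y 1 1) (y 2 1)} with hSF
  set SG : Set (I27 → k) := {sh (y 1 0), sh (y 1 1), sh (y 1 2), cr (y 1 0) (y 1 1), cr (y 1 1) (y 1 2)} with hSG
  have hFG : ∀ v ∈ SF, ∀ w ∈ SG, cr v w = 0 := by
    intro v hv w hww
    rw [hSF] at hv
    simp only [Set.mem_insert_iff, Set.mem_singleton_iff] at hv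
    rcases hv with rfl | rfl | rfl | rfl | rfl
    · exact hx _ (by simp) w hww
    · exact V1.all _ (by simp) w hww
    · exact hx _ (by simp) w hww
    · exact hx _ (by simp) w hww
    · exact hx _ (by simp) w hww
  have mF : ∀ v ∈ ({sh (y 0 1), sh (y 1 1), sh (y 2 1), cr (y 0 1) (y 1 1), cr (y 1 1) (y 2 1)} : Set (I27 → k)),
      v ∈ Submodule.span k (SF ∪ SG) := fun v hv => Submodule.subset_span (Or.inl hv)
  have mG : ∀ v ∈ ({sh (y 1 0), sh (y 1 1), sh (y 1 2), cr (y 1 0) (y 1 1), cr (y 1 1) (y 1 2)} : Set (I27 → k)),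
      v ∈ Submodule.span k (SF ∪ SG) := fun v hv => Submodule.subset_span (Or.inr hv)
  have hmem : ∀ p0 p1 p2 r0 r1 r2 : k, sh (mm y p0 p1 p2 r0 r1 r2) ∈ Submodule.span k (SF ∪ SG) := by
    intro p0 p1 p2 r0 r1 r2
    rw [h.sh_mm, h.sh_c1, hc, hc', smul_zero, smul_zero, add_zero, add_zero]
    refine Submodule.add_mem _ (Submodule.smul_mem _ _ ?_) (Submodule.smul_mem _ _ ?_)
    · exact Submodule.add_mem _ (Submodule.add_mem _ (Submodule.add_mem _ (Submodule.smul_mem _ _ (mF _ (by simp)))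
        (Submodule.smul_mem _ _ (mF _ (by simp)))) (Submodule.smul_mem _ _ (mF _ (by simp))))
        (Submodule.smul_mem _ _ (mF _ (by simp)))
    · exact Submodule.add_mem _ (Submodule.add_mem _ (Submodule.add_mem _ (Submodule.add_mem _
        (Submodule.smul_mem _ _ (mG _ (by simp))) (Submodule.smul_mem _ _ (mG _ (by simp))))
        (Submodule.smul_mem _ _ (mG _ (by simp)))) (Submodule.smul_mem _ _ (mG _ (by simp))))
        (Submodule.smul_mem _ _ (mG _ (by simp)))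
  have half : ∀ x : I27 → k, cr x x = 0 → sh x = 0 := fun x hx => by
    rw [cr_self] at hx
    exact (smul_eq_zero.1 hx).resolve_left h2
  have hwh : ∀ x ∈ Submodule.span k (SF ∪ SG), sh x = 0 := by
    intro x hxx
    rw [Submodule.span_union] at hxx
    obtain ⟨v, hv, w, hww, rfl⟩ := Submodule.mem_sup.1 hxx
    rw [sh_add, half v (cr_span W1.all hv hv), half w (cr_span V1.all hww hww), cr_span hFG hv hww, add_zero, add_zero]
  let D : Set (I27 → k) := {v | ∃ p0 p1 p2 r0 r1 r2 : k, v = sh (mm y p0 p1 p2 r0 r1 r2)}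
  have hD : Submodule.span k D = ⊥ := by
    refine h.C.white _ (st_span ?_ ?_ ?_) fun x hx => ?_
    · rintro t _ ⟨p0, p1, p2, r0, r1, r2, rfl⟩
      rw [h.C.act.sh, tp_u h.tp]
      exact Submodule.subset_span ⟨_, _, _, _, _, _, rfl⟩
    · rintro t _ ⟨p0, p1, p2, r0, r1, r2, rfl⟩
      rw [h.C.act.sh, tp_h h.tp]
      exact Submodule.subset_span ⟨_, _, _, _, _, _, rfl⟩
    · rintro _ ⟨p0, p1, p2, r0, r1, r2, rfl⟩
      rw [h.C.act.sh, tp_w h.tp]
      exact Submodule.subset_span ⟨_, _, _, _, _, _, rfl⟩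
    · have hle : Submodule.span k D ≤ Submodule.span k (SF ∪ SG) := by
        rw [Submodule.span_le]
        rintro _ ⟨p0, p1, p2, r0, r1, r2, rfl⟩
        exact hmem _ _ _ _ _ _
      exact hwh x (hle hx)
  have : sh (mm y p0 p1 p2 r0 r1 r2) ∈ Submodule.span k D := Submodule.subset_span ⟨_, _, _, _, _, _, rfl⟩
  rw [hD] at this
  exact (Submodule.mem_bot k).1 this

end Cfsg.Agent.R2.F4P.Th
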