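import Cfsg.Agent.R2.F4P.Th.Y9d

/-!
# The submodules `V_{2 3^i + 2 3^j}`, V (helper20, S5931)

* `YC.zero` : the case of vanishing constants.
-/

set_option autoImplicit false
set_option linter.unusedSectionVars false
set_option linter.unusedVariables false

namespace Cfsg.Agent.R2.F4P.Th

open Cfsg.Lie
open Cfsg.Agent.ChevalleyStructure.E6Min.Tables Cfsg.Agent.ChevalleyStructure.E6Min.Basic
open Cfsg.Agent.H952.F4 (sh cr tf tr1 u0)
open Cfsg.Agent.H952.F4.Jord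
open Cfsg.Agent.H943.SL2Rel Cfsg.Agent.H943.SL2Mod Cfsg.Agent.R2.H28.SL2 Cfsg.Agent.H943.RepAdd
open Cfsg.Agent.R2.F4L

universe u v w

variable {k : Type u} [Field k] [DecidableEq k] {K : Type w} [Field K] [Fintype K] [DecidableEq K] {ι : K →+* k}
variable [CharP k 3] [CharP K 3] {a : ℕ}
variable {ρ : Representation k (Matrix.SpecialLinearGroup (Fin 2) K) (I27 → k)} {i j : ℕ} {y : ℕ → ℕ → I27 → k}

/-- the products of pure tensors, if all adjoints of pure tensors vanish -/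
theorem cr_pure (hp : ∀ p0 p1 p2 r0 r1 r2 : k, sh (mm y p0 p1 p2 r0 r1 r2) = 0) (p0 p1 p2 q0 q1 q2 r0 r1 r2 s0 s1 s2 : k) :
    cr (mm y p0 p1 p2 r0 r1 r2) (mm y q0 q1 q2 s0 s1 s2) =
      mm (zz y) (p0 * q1 - p1 * q0) (2 * (p0 * q2 - p2 * q0)) (p1 * q2 - p2 * q1)
        (r0 * s1 - r1 * s0) (2 * (r0 * s2 - r2 * s0)) (r1 * s2 - r2 * s1) := by
  have P1 : ∀ p0 p1 p2 q0 q1 q2 r0 r1 r2 : k, cr (mm y p0 p1 p2 r0 r1 r2) (mm y q0 q1 q2 r0 r1 r2) = 0 := by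
    intro p0 p1 p2 q0 q1 q2 r0 r1 r2
    have e : mm y (p0 + q0) (p1 + q1) (p2 + q2) r0 r1 r2 = mm y p0 p1 p2 r0 r1 r2 + mm y q0 q1 q2 r0 r1 r2 := by
      unfold mm
      module
    have h1 := hp (p0 + q0) (p1 + q1) (p2 + q2) r0 r1 r2
    rw [e, sh_add, hp, hp, zero_add, zero_add] at h1
    exact h1
  have P3 : cr (mm y p0 p1 p2 r0 r1 r2) (mm y q0 q1 q2 s0 s1 s2) + cr (mm y p0 p1 p2 s0 s1 s2) (mm y q0 q1 q2 r0 r1 r2) = 0 := by
    have h1 := P1 p0 p1 p2 q0 q1 q2 (r0 + s0) (r1 + s1) (r2 + s2)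
    have e : ∀ p0 p1 p2 : k, mm y p0 p1 p2 (r0 + s0) (r1 + s1) (r2 + s2) = mm y p0 p1 p2 r0 r1 r2 + mm y p0 p1 p2 s0 s1 s2 := by
      intro p0 p1 p2
      unfold mm col
      module
    rw [e, e, cr_add_left, cr_add_right, cr_add_right, P1, P1, zero_add, add_zero] at h1
    exact h1
  have h2 := BB_eq (two3 k) y p0 p1 p2 q0 q1 q2 r0 r1 r2 s0 s1 s2
  unfold BB at h2
  apply canc (two3 k)
  rw [← h2, ← sub_eq_zero]
  refine Eq.trans ?_ P3
  module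

/-- **the case of vanishing constants** -/
theorem YC.zero (h : YC ι a ρ i j y) [IsAlgClosed k] (hy0 : y ≠ 0) (hu : ∀ z, TP ι 3 ρ 2 i 2 j z → ∃ c : k, z = c • y)
    (hp : ∀ p0 p1 p2 r0 r1 r2 : k, sh (mm y p0 p1 p2 r0 r1 r2) = 0) : False := by
  obtain ⟨e00, e01, e02, e10, e11, e12, e20, e21, e22⟩ := mm_y y
  obtain ⟨γ, hγ⟩ := hu _ (tp_zz h.C.act h.tp)
  have hmz : ∀ a0 a1 a2 b0 b1 b2 : k, mm (zz y) a0 a1 a2 b0 b1 b2 = γ • mm y a0 a1 a2 b0 b1 b2 := by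
    intro a0 a1 a2 b0 b1 b2
    rw [hγ]
    unfold mm col
    simp only [Pi.smul_apply]
    module
  have hcr : ∀ p0 p1 p2 q0 q1 q2 r0 r1 r2 s0 s1 s2 : k, cr (mm y p0 p1 p2 r0 r1 r2) (mm y q0 q1 q2 s0 s1 s2) =
      γ • mm y (p0 * q1 - p1 * q0) (2 * (p0 * q2 - p2 * q0)) (p1 * q2 - p2 * q1)
        (r0 * s1 - r1 * s0) (2 * (r0 * s2 - r2 * s0)) (r1 * s2 - r2 * s1) := by
    intro p0 p1 p2 q0 q1 q2 r0 r1 r2 s0 s1 s2
    rw [cr_pure hp, hmz]
  -- the vector `y00 + y11 + y22`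
  have c1 : cr (y 0 0) (y 1 1) = γ • y 0 0 := by
    have := hcr 1 0 0 0 1 0 1 0 0 0 1 0
    rw [← e00, ← e11] at this
    rw [this]
    unfold mm col
    module
  have c2 : cr (y 0 0) (y 2 2) = γ • y 1 1 := by
    have := hcr 1 0 0 0 0 1 1 0 0 0 0 1
    rw [← e00, ← e22] at this
    rw [this]
    have h3 : (3 * γ) • y 1 1 = 0 := s3
    calc _ = γ • y 1 1 + (3 * γ) • y 1 1 := by unfold mm col; module
      _ = _ := by rw [h3, add_zero]
  have c3 : cr (y 1 1) (y 2 2) = γ • y 2 2 := by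
    have := hcr 0 1 0 0 0 1 0 1 0 0 0 1
    rw [← e11, ← e22] at this
    rw [this]
    unfold mm col
    module
  have s0 : sh (y 0 0) = 0 := by rw [e00]; exact hp _ _ _ _ _ _
  have s1 : sh (y 1 1) = 0 := by rw [e11]; exact hp _ _ _ _ _ _
  have s2 : sh (y 2 2) = 0 := by rw [e22]; exact hp _ _ _ _ _ _
  have hsh : sh (y 0 0 + y 1 1 + y 2 2) = γ • (y 0 0 + y 1 1 + y 2 2) := by
    rw [sh_add3, s0, s1, s2, c1, c2, c3]
    module
  have ht : tf (y 0 0) (y 2 2) = 0 := by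
    have h1 := tr1_cr (y 0 0) (y 2 2)
    have t00 : tr1 (y 0 0) = 0 := by rw [e00]; exact h.tr _ _ _ _ _ _
    have t11 : tr1 (y 1 1) = 0 := by rw [e11]; exact h.tr _ _ _ _ _ _
    rw [c2, tr1_smul, t11, t00] at h1
    linear_combination h1
  have hN : cubicT (y 0 0 + y 1 1 + y 2 2) = 0 := by
    have h1 := N_lin3 1 1 1 (y 0 0) (y 1 1) (y 2 2)
    rw [one_smul, one_smul, one_smul] at h1
    rw [h1, s0, s1, s2, c1, tf_smul_left, ht, tf_zero_left, tf_zero_left, tf_zero_left,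
      h.N_y (by norm_num) (by norm_num), h.N_y (by norm_num) (by norm_num), h.N_y (by norm_num) (by norm_num)]
    ring
  have hne : y 0 0 + y 1 1 + y 2 2 ≠ 0 := by
    intro h0
    have hli := h.tp.li (a := a) h.C.card (by norm_num) (by norm_num) h.hij h.hi h.hj hy0
    rw [Fintype.linearIndependent_iff] at hli
    have h1 := hli (fun q => if q.1 = q.2 then 1 else 0) (by
      rw [Fintype.sum_prod_type]
      simp [Fin.sum_univ_three]
      exact h0) (0, 0)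
    simp at h1
  have hγ0 : γ = 0 := by
    have h1 := sh_sh (y 0 0 + y 1 1 + y 2 2)
    rw [hN, zero_smul, hsh, sh_smul, hsh, smul_smul] at h1
    have h3 := (smul_eq_zero.1 h1).resolve_right hne
    have h4 : γ ^ 3 = 0 := by rw [← h3]; ring
    exact pow_eq_zero_iff (by norm_num) |>.1 h4
  -- the span is white
  let S : Set (I27 → k) := {v | ∃ p0 p1 p2 r0 r1 r2 : k, v = mm y p0 p1 p2 r0 r1 r2}
  have hS : Submodule.span k S = ⊥ := by
    refine h.C.white _ (st_span ?_ ?_ ?_) fun x hx => ?_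
    · rintro t _ ⟨p0, p1, p2, r0, r1, r2, rfl⟩
      rw [tp_u h.tp]
      exact Submodule.subset_span ⟨_, _, _, _, _, _, rfl⟩
    · rintro t _ ⟨p0, p1, p2, r0, r1, r2, rfl⟩
      rw [tp_h h.tp]
      exact Submodule.subset_span ⟨_, _, _, _, _, _, rfl⟩
    · rintro _ ⟨p0, p1, p2, r0, r1, r2, rfl⟩
      rw [tp_w h.tp]
      exact Submodule.subset_span ⟨_, _, _, _, _, _, rfl⟩
    · have h1 : cr x x = 0 := cr_span (by
        rintro _ ⟨p0, p1, p2, r0, r1, r2, rfl⟩ _ ⟨q0, q1, q2, s0, s1, s2, rfl⟩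
        rw [hcr, hγ0, zero_smul]) hx hx
      rw [cr_self] at h1
      exact (smul_eq_zero.1 h1).resolve_left (two3 k)
  have h00 : y 0 0 ∈ Submodule.span k S := Submodule.subset_span ⟨_, _, _, _, _, _, e00⟩
  rw [hS, Submodule.mem_bot] at h00
  exact h.tp.ne_of (a := a) h.C.card (by norm_num) (by norm_num) h.hij h.hi h.hj hy0 (by norm_num) (by norm_num) h00

end Cfsg.Agent.R2.F4P.Th
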