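import Cfsg.Agent.R2.F4P.Th.Y9e

/-!
# The submodules `V_{2 3^i + 2 3^j}`, VI (helper20, S5931)

* `card9` : labels of dimension 9; `YC.uq` : uniqueness; `y9` : the submodules `V_{2 3^i + 2 3^j}` with (H) do not exist.
-/

set_option autoImplicit false
set_option linter.unusedSectionVars false
set_option linter.unusedVariables false

namespace Cfsg.Agent.R2.F4P.Th

open Cfsg Cfsg.Lie Module Matrix
open Cfsg.Agent.ChevalleyStructure.E6Min.Tables Cfsg.Agent.ChevalleyStructure.E6Min.Basic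
open Cfsg.Agent.H952.F4 (sh cr tf tr1 u0 hF4)
open Cfsg.Agent.H952.F4.Jord
open Cfsg.Agent.H952.F4.FixV (W0 mem_W0 finrank_W0 u0_ne_zero tr1_eq)
open Cfsg.Agent.R2.H9.E6
open Cfsg.Agent.GpExc.Field (emb)
open Cfsg.Agent.H943.SL2Rel Cfsg.Agent.H943.SL2Mod Cfsg.Agent.R2.H28.SL2 Cfsg.Agent.H943.RepAdd
open Cfsg.Agent.R2.F4M Cfsg.Agent.R2.F4N Cfsg.Agent.R2.F4L

universe u v w

section Gen

variable {k : Type u} [Field k] [DecidableEq k] {K : Type w} [Field K] [Fintype K] [DecidableEq K] {ι : K →+* k}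
variable [CharP k 3] [CharP K 3] {a : ℕ}

/-- labels of dimension 9 -/
theorem card9 (b : ℕ) : (Bf k b).card = 9 → ∃ i j, i ≠ j ∧ b = 2 * 3 ^ i + 2 * 3 ^ j := by
  induction b using Nat.strong_induction_on with
  | _ b ih =>
    intro h
    rcases Nat.eq_zero_or_pos b with rfl | hb
    · rw [card_Bf_zero] at h
      omega
    have h1 := card_Bf_low k 3 b
    have h2 := ih (b / 3) (Nat.div_lt_self hb (by norm_num))
    have h3 := Nat.div_add_mod b 3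
    have h4 : b % 3 < 3 := Nat.mod_lt _ (by norm_num)
    rw [h] at h1
    have h5 : b % 3 = 0 ∨ b % 3 = 1 ∨ b % 3 = 2 := by omega
    rcases h5 with h5 | h5 | h5
    · rw [h5] at h1 h3
      obtain ⟨i, j, hij, hb'⟩ := h2 (by omega)
      refine ⟨i + 1, j + 1, by omega, ?_⟩
      rw [pow_succ, pow_succ]
      omega
    · rw [h5] at h1
      omega
    · rw [h5] at h1 h3
      obtain ⟨-, l, hl⟩ := (card_cases k 3 (by norm_num) (b / 3)).2.2.1 (by omega)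
      refine ⟨0, l + 1, by omega, ?_⟩
      rw [pow_zero, pow_succ]
      omega

variable {ρ : Representation k (Matrix.SpecialLinearGroup (Fin 2) K) (I27 → k)} {i j : ℕ} {y : ℕ → ℕ → I27 → k}

/-- the triples of the columns -/
theorem YC.tri (h : YC ι a ρ i j y) {c0 : k} (hc0 : c0 ≠ 0)
    (hc : cr (y 0 1) (y 2 1) + (4 : k) • sh (y 1 1) = c0 • u0 k) {r0 r1 r2 : k} (hr : r1 ^ 2 - r0 * r2 = 1) :
    Tri (col y r0 r1 r2 0) (col y r0 r1 r2 1) (col y r0 r1 r2 2) c0 := by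
  have h9 := h.C.nine
  obtain ⟨lam, hl⟩ := exists_prim ι i 3
  set α := ι (lam : K) ^ 3 ^ i with hα
  have hα0 : α ≠ 0 := pow_ne_zero _ ((map_ne_zero ι).2 lam.ne_zero)
  have ne : ∀ m : ℕ, 0 < m → m < 8 → α ^ m ≠ 1 := fun m h0 h6 => hl.pow_ne_one_of_pos_of_lt (by omega) (by omega)
  have ine : ∀ m : ℕ, 0 < m → m < 8 → α⁻¹ ^ m ≠ 1 := fun m h0 h6 h => by
    rw [inv_pow] at h
    exact ne m h0 h6 (inv_injective (h.trans inv_one.symm))
  have e0 : ρ (Cfsg.Agent.H943.SL2Rel.h lam) (y 0 1) = (α⁻¹ ^ 2) • y 0 1 := by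
    conv_lhs => rw [(mm_y y).2.1, tp_h h.tp]
    unfold mm col
    module
  have e1 : ρ (Cfsg.Agent.H943.SL2Rel.h lam) (y 1 1) = y 1 1 := by
    conv_lhs => rw [(mm_y y).2.2.2.2.1, tp_h h.tp]
    unfold mm col
    module
  have e2 : ρ (Cfsg.Agent.H943.SL2Rel.h lam) (y 2 1) = (α ^ 2) • y 2 1 := by
    conv_lhs => rw [(mm_y y).2.2.2.2.2.2.2.1, tp_h h.tp]
    unfold mm col
    module
  have t0 : tr1 (sh (y 0 1)) = 0 := by
    refine wt_tr h.C.act (g := Cfsg.Agent.H943.SL2Rel.h lam) (α := α⁻¹ ^ 4) ?_ (ine 4 (by norm_num) (by norm_num))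
    rw [h.C.act.sh, e0, sh_smul]
    congr 1
    ring
  have t1 : tr1 (cr (y 0 1) (y 1 1)) = 0 := by
    refine wt_tr h.C.act (g := Cfsg.Agent.H943.SL2Rel.h lam) (α := α⁻¹ ^ 2) ?_ (ine 2 (by norm_num) (by norm_num))
    rw [h.C.act.cr, e0, e1, cr_smul_left]
  have t3 : tr1 (cr (y 1 1) (y 2 1)) = 0 := by
    refine wt_tr h.C.act (g := Cfsg.Agent.H943.SL2Rel.h lam) (α := α ^ 2) ?_ (ne 2 (by norm_num) (by norm_num))
    rw [h.C.act.cr, e2, e1, cr_smul_right]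
  have t4 : tr1 (sh (y 2 1)) = 0 := by
    refine wt_tr h.C.act (g := Cfsg.Agent.H943.SL2Rel.h lam) (α := α ^ 4) ?_ (ne 4 (by norm_num) (by norm_num))
    rw [h.C.act.sh, e2, sh_smul]
    congr 1
    ring
  refine { h.nz r0 r1 r2 with ne := hc0, w := ?_, r0 := ?_, r1 := ?_, r3 := ?_, r4 := ?_ }
  · rw [h.w_r hc, hr, one_mul]
  · rw [h.c_0, hr, one_smul, t0]
  · rw [h.c_1, hr, one_smul, t1]
  · rw [h.c_3, hr, one_smul, t3]
  · rw [h.c_4, hr, one_smul, t4]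

theorem col1 (y : ℕ → ℕ → I27 → k) (s : ℕ) : col y 0 1 0 s = y s 1 := by unfold col; module

/-- **the middle vector does not depend on the column** -/
theorem YC.mid (h : YC ι a ρ i j y) {c0 : k} (hc0 : c0 ≠ 0)
    (hc : cr (y 0 1) (y 2 1) + (4 : k) • sh (y 1 1) = c0 • u0 k) {r0 r1 r2 : k} (hr : r1 ^ 2 - r0 * r2 = 1) :
    sh (col y r0 r1 r2 1) = sh (y 1 1) := by
  have T := h.tri hc0 hc hr
  have T1 := h.tri hc0 hc (r0 := 0) (r1 := 1) (r2 := 0) (by ring)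
  obtain ⟨-, e⟩ := T.trace (two3 k)
  obtain ⟨-, e1⟩ := T1.trace (two3 k)
  rw [h.c_0, h.c_4, hr, one_smul, one_smul] at e
  rw [col1, col1, col1] at e1
  rw [e1] at e
  exact (canc (mul_ne_zero (two3 k) hc0) e).symm

/-- **the adjoints of pure tensors, `c ≠ 0`** -/
theorem YC.sh_pure (h : YC ι a ρ i j y) {c0 : k} (hc0 : c0 ≠ 0)
    (hc : cr (y 0 1) (y 2 1) + (4 : k) • sh (y 1 1) = c0 • u0 k) (p0 p1 p2 r0 r1 r2 : k) :
    sh (mm y p0 p1 p2 r0 r1 r2) = (r1 ^ 2 - r0 * r2) • sh (mm y p0 p1 p2 0 1 0) := by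
  have h2 := two3 k
  have a2 := h.mid hc0 hc (r0 := 1) (r1 := 1) (r2 := 0) (by ring)
  have a3 := h.mid hc0 hc (r0 := -1) (r1 := 1) (r2 := 0) (by ring)
  have a4 := h.mid hc0 hc (r0 := 0) (r1 := 1) (r2 := 1) (by ring)
  have a5 := h.mid hc0 hc (r0 := 0) (r1 := 1) (r2 := -1) (by ring)
  have a6 := h.mid hc0 hc (r0 := 1) (r1 := 0) (r2 := -1) (by ring)
  rw [h.sh_c1] at a2 a3 a4 a5 a6
  have b2 : sh (y 1 0) = 0 := by
    apply canc h2
    rw [smul_zero]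
    have := congrArg₂ (· + ·) a2 a3
    rw [← sub_eq_zero] at this
    rw [← this]
    module
  have b3 : cr (y 1 0) (y 1 1) = 0 := by
    rw [← sub_eq_zero] at a2
    rw [b2] at a2
    rw [← a2]
    module
  have b4 : sh (y 1 2) = 0 := by
    apply canc h2
    rw [smul_zero]
    have := congrArg₂ (· + ·) a4 a5
    rw [← sub_eq_zero] at this
    rw [← this]
    module
  have b5 : cr (y 1 1) (y 1 2) = 0 := by
    rw [← sub_eq_zero] at a4
    rw [b4] at a4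
    rw [← a4]
    module
  have b6 : cr (y 1 0) (y 1 2) + (4 : k) • sh (y 1 1) = 0 := by
    rw [← sub_eq_zero, b2, b3, b4, b5] at a6
    have h3 : (3 * (1 : k)) • sh (y 1 1) = 0 := s3
    have : cr (y 1 0) (y 1 2) + (4 : k) • sh (y 1 1) = (3 * (1 : k)) • sh (y 1 1) := by
      rw [← sub_eq_zero, ← neg_eq_zero]
      rw [← a6]
      module
    rw [this, h3]
  have key : ∀ r0 r1 r2 : k, sh (col y r0 r1 r2 1) = (r1 ^ 2 - r0 * r2) • sh (y 1 1) := by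
    intro r0 r1 r2
    rw [h.sh_c1, b2, b3, b4, b5, b6]
    have h3 : (3 * (r0 * r2)) • sh (y 1 1) = 0 := s3
    calc _ = (r1 ^ 2 - r0 * r2) • sh (y 1 1) - (3 * (r0 * r2)) • sh (y 1 1) := by module
      _ = _ := by rw [h3, sub_zero]
  rw [h.sh_mm, h.sh_mm, key, key]
  module

/-- the form on the span is not zero -/
theorem YC.tf11 (h : YC ι a ρ i j y) {c0 : k} (hc0 : c0 ≠ 0)
    (hc : cr (y 0 1) (y 2 1) + (4 : k) • sh (y 1 1) = c0 • u0 k) : tf (y 1 1) (y 1 1) ≠ 0 := by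
  have T1 := h.tri hc0 hc (r0 := 0) (r1 := 1) (r2 := 0) (by ring)
  obtain ⟨e, -⟩ := T1.trace (two3 k)
  rw [col1] at e
  have h3 := tr1_sh (y 1 1)
  have t11 : tr1 (y 1 1) = 0 := by
    rw [(mm_y y).2.2.2.2.1]
    exact h.tr _ _ _ _ _ _
  rw [t11] at h3
  intro h0
  rw [h0] at h3
  exact hc0 (by linear_combination e - h3)

/-- the span of a two-digit tuple -/
def Ys (y : ℕ → ℕ → I27 → k) : Submodule k (I27 → k) := Submodule.span k (Set.range fun q : ℕ × ℕ => y q.1 q.2)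

theorem mem_Ys (y : ℕ → ℕ → I27 → k) (s s' : ℕ) : y s s' ∈ Ys y := Submodule.subset_span ⟨(s, s'), rfl⟩

theorem mm_mem (y : ℕ → ℕ → I27 → k) (p0 p1 p2 r0 r1 r2 : k) : mm y p0 p1 p2 r0 r1 r2 ∈ Ys y := by
  have hc : ∀ s, col y r0 r1 r2 s ∈ Ys y := fun s =>
    Submodule.add_mem _ (Submodule.add_mem _ (Submodule.smul_mem _ _ (mem_Ys y _ _)) (Submodule.smul_mem _ _ (mem_Ys y _ _)))
      (Submodule.smul_mem _ _ (mem_Ys y _ _))
  exact Submodule.add_mem _ (Submodule.add_mem _ (Submodule.smul_mem _ _ (hc 0)) (Submodule.smul_mem _ _ (hc 1)))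
      (Submodule.smul_mem _ _ (hc 2))

theorem Ys_swap (y : ℕ → ℕ → I27 → k) : Ys (fun s s' => y s' s) = Ys y := by
  apply le_antisymm
  · refine Submodule.span_le.2 ?_
    rintro _ ⟨⟨s, s'⟩, rfl⟩
    exact mem_Ys y s' s
  · refine Submodule.span_le.2 ?_
    rintro _ ⟨⟨s, s'⟩, rfl⟩
    exact mem_Ys (fun s s' => y s' s) s' s

/-- **nondegeneracy** -/
theorem YC.nd (h : YC ι a ρ i j y) [IsAlgClosed k] (hy0 : y ≠ 0) (h11 : tf (y 1 1) (y 1 1) ≠ 0) {v : I27 → k} (hv : v ∈ Ys y)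
    (ho : ∀ w ∈ Ys y, tf v w = 0) : v = 0 := by
  obtain ⟨hX, -⟩ := h.tp.isVb (a := a) h.C.card (by norm_num) (by norm_num) h.hij h.hi h.hj hy0
  let W : Submodule k (I27 → k) :=
    { carrier := {v | v ∈ Ys y ∧ ∀ w ∈ Ys y, tf v w = 0}
      add_mem' := fun {v w} hv hw => ⟨Submodule.add_mem _ hv.1 hw.1, fun x hx => by
        rw [tf_add_left, hv.2 x hx, hw.2 x hx, add_zero]⟩
      zero_mem' := ⟨Submodule.zero_mem _, fun w _ => tf_zero_left w⟩
      smul_mem' := fun c v hv => ⟨Submodule.smul_mem _ _ hv.1, fun x hx => by rw [tf_smul_left, hv.2 x hx, mul_zero]⟩ }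
  have hW : ∀ g, ∀ v ∈ W, ρ g v ∈ W := by
    intro g v hv
    refine ⟨hX g v hv.1, fun w hw => ?_⟩
    have h1 : w = ρ g (ρ g⁻¹ w) := by
      rw [← Module.End.mul_apply, ← map_mul, mul_inv_cancel, map_one, Module.End.one_apply]
    rw [h1, h.C.act.tf]
    exact hv.2 _ (hX g⁻¹ w hw)
  rcases h.tp.sub (a := a) h.C.card (by norm_num) (by norm_num) h.hij h.hi h.hj hy0 (W := W) (fun v hv => hv.1) hW with h1 | h1
  · have h2 : v ∈ W := ⟨hv, ho⟩
    rw [h1] at h2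
    exact (Submodule.mem_bot k).1 h2
  · exfalso
    have h2 : y 1 1 ∈ W := by rw [h1]; exact mem_Ys y 1 1
    exact h11 (h2.2 _ (mem_Ys y 1 1))

end Gen

end Cfsg.Agent.R2.F4P.Th
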