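import Cfsg.Agent.R2.F4P.Th.Y9f

/-!
# The submodules `V_{2 3^i + 2 3^j}`, VII (helper20, S5931)

* `YC.usp_iff` : the canonical description of the span of the adjoints; `YC.nonzero` : the case `c ≠ 0`; `y9`.
-/

set_option autoImplicit false
set_option linter.unusedSectionVars false
set_option linter.unusedVariables false

namespace Cfsg.Agent.R2.F4P.Th

open Cfsg Cfsg.Lie Module Matrix
open Cfsg.Agent.ChevalleyStructure.E6Min.Tables Cfsg.Agent.ChevalleyStructure.E6Min.Basic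
open Cfsg.Agent.H952.F4 (sh cr tf tr1 u0 hF4)
open Cfsg.Agent.H952.F4.Jord
open Cfsg.Agent.H952.F4.FixV (W0 mem_W0 finrank_W0 u0_ne_zero tr1_eq)
open Cfsg.Agent.R2.H9.E6
open Cfsg.Agent.GpExc.Field (emb)
open Cfsg.Agent.H943.SL2Rel Cfsg.Agent.H943.SL2Mod Cfsg.Agent.R2.H28.SL2 Cfsg.Agent.H943.RepAdd
open Cfsg.Agent.R2.F4M Cfsg.Agent.R2.F4N Cfsg.Agent.R2.F4L

universe u v w

section Gen

variable {k : Type u} [Field k] [DecidableEq k] {K : Type w} [Field K] [Fintype K] [DecidableEq K] {ι : K →+* k}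
variable [CharP k 3] [CharP K 3] {a : ℕ}

omit [DecidableEq k] [CharP k 3] in
theorem cr_mem_of {S : Set (I27 → k)} {T : Submodule k (I27 → k)} (h : ∀ x ∈ S, ∀ y ∈ S, cr x y ∈ T) {x y : I27 → k}
    (hx : x ∈ Submodule.span k S) (hy : y ∈ Submodule.span k S) : cr x y ∈ T := by
  induction hx using Submodule.span_induction with
  | mem x hx =>
    induction hy using Submodule.span_induction with
    | mem y hy => exact h x hx y hy
    | zero => rw [cr_zero_right]; exact T.zero_mem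
    | add a b _ _ ha hb => rw [cr_add_right]; exact T.add_mem ha hb
    | smul c a _ ha => rw [cr_smul_right]; exact T.smul_mem _ ha
  | zero => rw [cr_zero_left]; exact T.zero_mem
  | add a b _ _ ha hb => rw [cr_add_left]; exact T.add_mem ha hb
  | smul c a _ ha => rw [cr_smul_left]; exact T.smul_mem _ ha

variable {ρ : Representation k (Matrix.SpecialLinearGroup (Fin 2) K) (I27 → k)} {i j : ℕ} {y : ℕ → ℕ → I27 → k}

theorem Ys_eq (hy : TP ι 3 ρ 2 i 2 j y) : Ys y = Submodule.span k {v | ∃ p0 p1 p2 r0 r1 r2 : k, v = mm y p0 p1 p2 r0 r1 r2} := by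
  obtain ⟨e00, e01, e02, e10, e11, e12, e20, e21, e22⟩ := mm_y y
  apply le_antisymm
  · refine Submodule.span_le.2 ?_
    rintro _ ⟨⟨s, s'⟩, rfl⟩
    show y s s' ∈ Submodule.span k _
    by_cases hs : 2 < s ∨ 2 < s'
    · rw [hy.zero s s' hs]
      exact Submodule.zero_mem _
    · have h1 : s = 0 ∨ s = 1 ∨ s = 2 := by omega
      have h2 : s' = 0 ∨ s' = 1 ∨ s' = 2 := by omega
      rcases h1 with rfl | rfl | rfl <;> rcases h2 with rfl | rfl | rfl
      · exact Submodule.subset_span ⟨_, _, _, _, _, _, e00⟩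
      · exact Submodule.subset_span ⟨_, _, _, _, _, _, e01⟩
      · exact Submodule.subset_span ⟨_, _, _, _, _, _, e02⟩
      · exact Submodule.subset_span ⟨_, _, _, _, _, _, e10⟩
      · exact Submodule.subset_span ⟨_, _, _, _, _, _, e11⟩
      · exact Submodule.subset_span ⟨_, _, _, _, _, _, e12⟩
      · exact Submodule.subset_span ⟨_, _, _, _, _, _, e20⟩
      · exact Submodule.subset_span ⟨_, _, _, _, _, _, e21⟩
      · exact Submodule.subset_span ⟨_, _, _, _, _, _, e22⟩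
  · refine Submodule.span_le.2 ?_
    rintro _ ⟨p0, p1, p2, r0, r1, r2, rfl⟩
    exact mm_mem y _ _ _ _ _ _

theorem OY.ys {v : I27 → k} (hy : TP ι 3 ρ 2 i 2 j y) (hv : OY y v) {w : I27 → k} (hw : w ∈ Ys y) : tf v w = 0 := by
  rw [Ys_eq hy] at hw
  induction hw using Submodule.span_induction with
  | mem w hw =>
    obtain ⟨p0, p1, p2, r0, r1, r2, rfl⟩ := hw
    exact hv _ _ _ _ _ _
  | zero => rw [tf_comm, tf_zero_left]
  | add a b _ _ ha hb => rw [tf_add_right, ha, hb, add_zero]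
  | smul c a _ ha => rw [tf_smul_right, ha, mul_zero]

theorem comb_mm (y : ℕ → ℕ → I27 → k) (α β γ : k) : α • y 0 1 + β • y 1 1 + γ • y 2 1 = mm y α β γ 0 1 0 := by
  unfold mm col
  module

/-- **the canonical description** -/
theorem YC.usp_iff (h : YC ι a ρ i j y) [IsAlgClosed k] (hy0 : y ≠ 0) {c0 : k} (hc0 : c0 ≠ 0)
    (hc : cr (y 0 1) (y 2 1) + (4 : k) • sh (y 1 1) = c0 • u0 k) (hu : ∃ c : k, zz y = c • y) {v : I27 → k} :
    v ∈ Usp (y 0 1) (y 1 1) (y 2 1) ↔ v ∈ Bcr (Ys y) ∧ ∀ w ∈ Ys y, tf v w = 0 := by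
  have h2 := two3 k
  have hle1 : Usp (y 0 1) (y 1 1) (y 2 1) ≤ Bcr (Ys y) := by
    refine Submodule.span_le.2 ?_
    rintro _ ⟨α, β, γ, rfl⟩
    rw [comb_mm]
    have h3 : cr (mm y α β γ 0 1 0) (mm y α β γ 0 1 0) ∈ Bcr (Ys y) := cr_mem_Bcr (mm_mem y _ _ _ _ _ _) (mm_mem y _ _ _ _ _ _)
    rw [cr_self] at h3
    have := (Bcr (Ys y)).smul_mem (2 : k)⁻¹ h3
    rwa [smul_smul, inv_mul_cancel₀ h2, one_smul] at this
  have hort : ∀ v ∈ Usp (y 0 1) (y 1 1) (y 2 1), ∀ w ∈ Ys y, tf v w = 0 := by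
    intro v hv w hw
    unfold Usp at hv
    induction hv using Submodule.span_induction with
    | mem v hv =>
      obtain ⟨α, β, γ, rfl⟩ := hv
      rw [comb_mm]
      exact (h.oy _ _ _ _ _ _).ys h.tp hw
    | zero => exact tf_zero_left w
    | add a b _ _ ha hb => rw [tf_add_left, ha, hb, add_zero]
    | smul c a _ ha => rw [tf_smul_left, ha, mul_zero]
  refine ⟨fun hv => ⟨hle1 hv, hort v hv⟩, fun hv => ?_⟩
  have hle2 : Bcr (Ys y) ≤ Usp (y 0 1) (y 1 1) (y 2 1) ⊔ Ys (zz y) := by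
    refine Bcr_le fun m hm m' hm' => ?_
    rw [Ys_eq h.tp] at hm hm'
    refine cr_mem_of ?_ hm hm'
    rintro _ ⟨p0, p1, p2, r0, r1, r2, rfl⟩ _ ⟨q0, q1, q2, s0, s1, s2, rfl⟩
    have Q1 : ∀ r0 r1 r2 : k, cr (mm y p0 p1 p2 r0 r1 r2) (mm y q0 q1 q2 r0 r1 r2) =
        (r1 ^ 2 - r0 * r2) • cr (mm y p0 p1 p2 0 1 0) (mm y q0 q1 q2 0 1 0) := by
      intro r0 r1 r2
      have e : ∀ r0 r1 r2 : k, mm y (p0 + q0) (p1 + q1) (p2 + q2) r0 r1 r2 = mm y p0 p1 p2 r0 r1 r2 + mm y q0 q1 q2 r0 r1 r2 := by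
        intro r0 r1 r2
        unfold mm
        module
      have h1 := h.sh_pure hc0 hc (p0 + q0) (p1 + q1) (p2 + q2) r0 r1 r2
      rw [e, e, sh_add, sh_add, h.sh_pure hc0 hc p0 p1 p2 r0 r1 r2, h.sh_pure hc0 hc q0 q1 q2 r0 r1 r2, smul_add,
        smul_add] at h1
      exact add_left_cancel h1
    have Q3 : cr (mm y p0 p1 p2 r0 r1 r2) (mm y q0 q1 q2 s0 s1 s2) + cr (mm y p0 p1 p2 s0 s1 s2) (mm y q0 q1 q2 r0 r1 r2) =
        (2 * r1 * s1 - r0 * s2 - s0 * r2) • cr (mm y p0 p1 p2 0 1 0) (mm y q0 q1 q2 0 1 0) := by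
      have h1 := Q1 (r0 + s0) (r1 + s1) (r2 + s2)
      have e : ∀ p0 p1 p2 : k, mm y p0 p1 p2 (r0 + s0) (r1 + s1) (r2 + s2) = mm y p0 p1 p2 r0 r1 r2 + mm y p0 p1 p2 s0 s1 s2 := by
        intro p0 p1 p2
        unfold mm col
        module
      rw [e, e, cr_add_left, cr_add_right, cr_add_right, Q1 r0 r1 r2, Q1 s0 s1 s2] at h1
      rw [← sub_eq_zero] at h1 ⊢
      rw [← h1]
      module
    have hB := BB_eq h2 y p0 p1 p2 q0 q1 q2 r0 r1 r2 s0 s1 s2
    unfold BB at hB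
    have e : cr (mm y p0 p1 p2 r0 r1 r2) (mm y q0 q1 q2 s0 s1 s2) = (2 : k)⁻¹ •
        ((cr (mm y p0 p1 p2 r0 r1 r2) (mm y q0 q1 q2 s0 s1 s2) + cr (mm y p0 p1 p2 s0 s1 s2) (mm y q0 q1 q2 r0 r1 r2)) +
        (cr (mm y p0 p1 p2 r0 r1 r2) (mm y q0 q1 q2 s0 s1 s2) - cr (mm y p0 p1 p2 s0 s1 s2) (mm y q0 q1 q2 r0 r1 r2))) := by
      rw [add_add_sub_cancel, ← two_smul k, smul_smul, inv_mul_cancel₀ h2, one_smul]
    rw [e, hB, Q3]
    refine Submodule.smul_mem _ _ (Submodule.add_mem _ (Submodule.smul_mem _ _ (Submodule.mem_sup_left ?_))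
      (Submodule.smul_mem _ _ (Submodule.mem_sup_right (mm_mem (zz y) _ _ _ _ _ _))))
    have e3 : cr (mm y p0 p1 p2 0 1 0) (mm y q0 q1 q2 0 1 0) = sh ((p0 + q0) • y 0 1 + (p1 + q1) • y 1 1 + (p2 + q2) • y 2 1) -
        sh (p0 • y 0 1 + p1 • y 1 1 + p2 • y 2 1) - sh (q0 • y 0 1 + q1 • y 1 1 + q2 • y 2 1) := by
      have e5 : (p0 + q0) • y 0 1 + (p1 + q1) • y 1 1 + (p2 + q2) • y 2 1 = mm y p0 p1 p2 0 1 0 + mm y q0 q1 q2 0 1 0 := by
        unfold mm col
        module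
      rw [e5, comb_mm, comb_mm, sh_add]
      module
    rw [e3]
    exact Submodule.sub_mem _ (Submodule.sub_mem _ (mem_Usp _ _ _ _ _ _) (mem_Usp _ _ _ _ _ _)) (mem_Usp _ _ _ _ _ _)
  obtain ⟨m, hm, z', hz', rfl⟩ := Submodule.mem_sup.1 (hle2 hv.1)
  obtain ⟨γ, hγ⟩ := hu
  have hz'Y : z' ∈ Ys y := by
    have hle3 : Ys (zz y) ≤ Ys y := by
      refine Submodule.span_le.2 ?_
      rintro _ ⟨⟨s, s'⟩, rfl⟩
      show zz y s s' ∈ Ys y
      rw [hγ]
      exact Submodule.smul_mem _ _ (mem_Ys y s s')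
    exact hle3 hz'
  have hz'0 : z' = 0 := by
    refine h.nd hy0 (h.tf11 hc0 hc) hz'Y fun w hw => ?_
    have h1 := hv.2 w hw
    rwa [tf_add_left, hort m hm w hw, zero_add] at h1
  rw [hz'0, add_zero]
  exact hm

end Gen

section cfg

variable {F : Type u} [Field F] [Fintype F] {K : Type v} [Field K] [Fintype K] [DecidableEq K] {a b : ℕ}
variable {H : Subgroup ↥(chevF4.group F)} {φ : ProjectiveSpecialLinearGroup (Fin 2) K →* ↥(chevF4.group F)}
variable {k : Type u} [Field k] [DecidableEq k] {f : F →+* k} {ι : K →+* k} [CharP k 3] [CharP K 3]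
variable [IsAlgClosed k] {i j : ℕ} {y : ℕ → ℕ → I27 → k}

/-- **the span is the only irreducible submodule of its dimension** -/
theorem YC.uq (hc : Cfg 3 a b H φ) (h : YC ι a (Rk f φ) i j y) (hy0 : y ≠ 0)
    (huniq : ∀ i' j' z, i' < a → j' < a → i' ≠ j' → TP ι 3 (Rk f φ) 2 i' 2 j' z → ∀ s s', z s s' ∈ Ys y) :
    Uq f φ (Ys y) := by
  obtain ⟨hX, hV⟩ := h.tp.isVb (a := a) h.C.card (by norm_num) (by norm_num) h.hij h.hi h.hj hy0
  have hir : Ir f φ (Ys y) := by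
    refine ⟨?_, hX, ?_, fun Z hZ hZs => ?_⟩
    · rw [Ys_eq h.tp]
      refine Submodule.span_le.2 ?_
      rintro _ ⟨p0, p1, p2, r0, r1, r2, rfl⟩
      exact (mem_W0 _).2 (h.tr _ _ _ _ _ _)
    · intro h0
      have h1 := mem_Ys y 0 0
      rw [h0] at h1
      exact h.tp.ne_of (a := a) h.C.card (by norm_num) (by norm_num) h.hij h.hi h.hj hy0 (by norm_num) (by norm_num)
        ((Submodule.mem_bot k).1 h1)
    · exact h.tp.sub (a := a) h.C.card (by norm_num) (by norm_num) h.hij h.hi h.hj hy0 hZ hZs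
  refine ⟨hir, fun Z hZ hdim => ?_⟩
  have h9 : finrank k (Ys y) = 9 := by
    obtain ⟨v, hv⟩ := IsV.basP ι 3 h.C.card (by norm_num) (by norm_num) h.hij h.hi h.hj hV
    have := Module.finrank_eq_card_basis (Module.Basis.mk hv.li hv.sp)
    rw [Fintype.card_prod, Fintype.card_fin] at this
    exact this
  obtain ⟨c, hcV, hcd⟩ := isV_of_ir (p := 3) (ι := ι) hc hZ
  rw [hdim, h9] at hcd
  obtain ⟨i', j', hij', rfl⟩ := card9 c hcd.symm
  have hlt : 2 * 3 ^ i' + 2 * 3 ^ j' ≤ Fintype.card K - 1 := hcV.choose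
  have hi' : i' < a := pos_lt hc (n := 2) (by norm_num) (by omega)
  have hj' : j' < a := pos_lt hc (n := 2) (by norm_num) (by omega)
  obtain ⟨v, hv⟩ := IsV.basP ι 3 h.C.card (by norm_num) (by norm_num) hij' hi' hj' hcV
  have hz := BasP.tp hv
  have hle : Z ≤ Ys y := by
    intro z hz'
    have h2 : (⟨z, hz'⟩ : Z) ∈ Submodule.span k (Set.range fun q : Fin (2 + 1) × Fin (2 + 1) => v q.1 q.2) := hv.sp trivial
    have h3 := Submodule.mem_map_of_mem (f := Z.subtype) h2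
    rw [Submodule.map_span] at h3
    have h4 : Submodule.span k (Z.subtype '' Set.range fun q : Fin (2 + 1) × Fin (2 + 1) => v q.1 q.2) ≤ Ys y := by
      refine Submodule.span_le.2 ?_
      rintro _ ⟨_, ⟨q, rfl⟩, rfl⟩
      exact huniq i' j' _ hi' hj' hij' hz q.1 q.2
    exact h4 h3
  rcases hir.ir Z hle hZ.st with h5 | h5
  · exact absurd h5 hZ.ne
  · exact h5

/-- **the case of a nonvanishing constant** -/
theorem YC.nonzero (hc : Cfg 3 a b H φ) (h : YC ι a (Rk f φ) i j y) (hy0 : y ≠ 0)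
    (huniq : ∀ i' j' z, i' < a → j' < a → i' ≠ j' → TP ι 3 (Rk f φ) 2 i' 2 j' z → ∀ s s', z s s' ∈ Ys y)
    {c0 : k} (hc0 : c0 ≠ 0) (hcc : cr (y 0 1) (y 2 1) + (4 : k) • sh (y 1 1) = c0 • u0 k) : False := by
  have hU := h.uq hc hy0 huniq
  have hz : ∃ c : k, zz y = c • y := by
    have htp := tp_zz h.C.act h.tp
    exact h.tp.schurb (a := a) h.C.card (by norm_num) (by norm_num) h.hij h.hi h.hj hy0 htp
      (huniq i j _ h.hi h.hj h.hij htp)
  have T := h.tri hc0 hcc (r0 := 0) (r1 := 1) (r2 := 0) (by ring)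
  rw [col1, col1, col1] at T
  have iff := fun v => h.usp_iff hy0 hc0 hcc hz (v := v)
  refine sub6 (f := f) hc (by norm_num) (i := i) (ι := ι) (x0 := y 0 1) (x1 := y 1 1) (x2 := y 2 1)
    ⟨fun t α β γ => ?_, fun α β γ => ?_⟩ T (fun g hg v hv => ?_) (fun s hs hsur v hv => ?_)
  · rw [h.C.act.sh, comb_mm, tp_u h.tp, h.sh_pure hc0 hcc, comb_mm]
    have e : (2 * (ι t ^ 3 ^ j) * 0 + 1) ^ 2 - 0 * ((ι t ^ 3 ^ j) ^ 2 * 0 + (ι t ^ 3 ^ j) * 1 + 0) = (1 : k) := by ring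
    rw [e, one_smul]
    congr 2 <;> ring
  · rw [h.C.act.sh, comb_mm, tp_w h.tp, h.sh_pure hc0 hcc, comb_mm]
    have e : (-1 : k) ^ 2 - 0 * 0 = 1 := by ring
    rw [e, one_smul]
  · rw [iff] at hv ⊢
    refine ⟨?_, fun w hw => ?_⟩
    · have h5 : Bcr (Ys y) ≤ (Bcr (Ys y)).comap (Jr k (emb hF4 f g)) := by
        refine Bcr_le fun m hm m' hm' => ?_
        show Jr k (emb hF4 f g) (cr m m') ∈ Bcr (Ys y)
        rw [← Jr_cr]
        exact cr_mem_Bcr (hU.mem hc hg hm) (hU.mem hc hg hm')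
      exact h5 hv.1
    · have h6 : w = Jr k (emb hF4 f g) (Jr k (emb hF4 f g⁻¹) w) := by
        rw [← Jr_mul, ← map_mul, mul_inv_cancel, map_one, Jr_one]
      rw [h6, Jr_tf]
      exact hv.2 _ (hU.mem hc (inv_mem hg) hw)
  · rw [iff] at hv ⊢
    refine ⟨?_, fun w hw => ?_⟩
    · have hv1 := hv.1
      clear hv
      unfold Bcr at hv1 ⊢
      induction hv1 using Submodule.span_induction with
      | mem v hv =>
        obtain ⟨m, hm, m', hm', rfl⟩ := hv
        have e : sm s (cr m m') = cr (sm s m) (sm s m') := (map_cr s m m').symm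
        rw [e]
        exact Submodule.subset_span ⟨_, hU.sm_mem hs hsur hm, _, hU.sm_mem hs hsur hm', rfl⟩
      | zero =>
        rw [sm_zero]
        exact Submodule.zero_mem _
      | add v w _ _ hv hw =>
        rw [sm_add]
        exact Submodule.add_mem _ hv hw
      | smul c v _ hv =>
        rw [sm_smul]
        exact Submodule.smul_mem _ _ hv
    · have h1 := hU.uq _ (hU.toIr.smS hs hsur) (finrank_smS s hsur (Ys y))
      rw [← h1] at hw
      obtain ⟨w', hw', rfl⟩ := hw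
      have e : tf (sm s v) (sm s w') = s (tf v w') := map_tf s v w'
      rw [e, hv.2 w' hw', map_zero]

/-- **the submodules `V_{2 3^i + 2 3^j}` with (H)** -/
theorem y9 (hc : Cfg 3 a b H φ) (C : Cx3 K a (Rk f φ)) (hi : i < a) (hj : j < a) (hij : i ≠ j)
    (hy : TP ι 3 (Rk f φ) 2 i 2 j y) (hy0 : y ≠ 0) (hH : ∀ σ τ : k, sh (yy y σ τ) = 0)
    (huniq : ∀ i' j' z, i' < a → j' < a → i' ≠ j' → TP ι 3 (Rk f φ) 2 i' 2 j' z → ∀ s s', z s s' ∈ Ys y) : False := by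
  have h : YC ι a (Rk f φ) i j y := ⟨C, hi, hj, hij, hy, hH⟩
  obtain ⟨c, hcc⟩ := h.exists_c
  obtain ⟨c', hcc'⟩ := h.swap.exists_c
  by_cases h1 : c = 0
  · by_cases h2 : c' = 0
    · refine h.zero hy0 (fun z hz => ?_) (h.pure0 (by rw [hcc, h1, zero_smul]) (by
        have := hcc'
        rw [h2, zero_smul] at this
        exact this))
      exact hy.schurb (a := a) C.card (by norm_num) (by norm_num) hij hi hj hy0 hz (huniq i j z hi hj hij hz)
    · refine h.swap.nonzero hc (fun h0 => hy0 ?_) ?_ h2 hcc'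
      · funext s s'
        exact congrFun (congrFun h0 s') s
      · intro i' j' z hi' hj' hij' hz s s'
        rw [Ys_swap]
        exact huniq i' j' z hi' hj' hij' hz s s'
  · exact h.nonzero hc hy0 huniq h1 hcc

end cfg

end Cfsg.Agent.R2.F4P.Th
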