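import Cfsg.Agent.R2.F4P.Th.Y9a

/-!
# The alternating products of a two-digit tuple (helper20, S5931)

`zz y` : the tuple of the alternating products, `TP` again.
-/

set_option autoImplicit false
set_option linter.unusedSectionVars false
set_option linter.unusedVariables false

namespace Cfsg.Agent.R2.F4P.Th

open Cfsg.Lie
open Cfsg.Agent.ChevalleyStructure.E6Min.Tables Cfsg.Agent.ChevalleyStructure.E6Min.Basic
open Cfsg.Agent.H952.F4 (sh cr tf tr1 u0)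
open Cfsg.Agent.H952.F4.Jord
open Cfsg.Agent.H943.SL2Rel Cfsg.Agent.H943.SL2Mod Cfsg.Agent.R2.H28.SL2 Cfsg.Agent.H943.RepAdd
open Cfsg.Agent.R2.F4L

universe u v w

section Alg

variable {k : Type u} [Field k]

/-- alternating products -/
def zbr (y : ℕ → ℕ → I27 → k) (a a' b b' : ℕ) : I27 → k := cr (y a b) (y a' b') - cr (y a b') (y a' b)

/-- the tuple of the alternating products -/
noncomputable def zz (y : ℕ → ℕ → I27 → k) : ℕ → ℕ → I27 → k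
  | 0, 0 => (2 : k)⁻¹ • zbr y 0 1 0 1
  | 0, 1 => (4 : k)⁻¹ • zbr y 0 1 0 2
  | 0, 2 => (2 : k)⁻¹ • zbr y 0 1 1 2
  | 1, 0 => (4 : k)⁻¹ • zbr y 0 2 0 1
  | 1, 1 => (8 : k)⁻¹ • zbr y 0 2 0 2
  | 1, 2 => (4 : k)⁻¹ • zbr y 0 2 1 2
  | 2, 0 => (2 : k)⁻¹ • zbr y 1 2 0 1
  | 2, 1 => (4 : k)⁻¹ • zbr y 1 2 0 2
  | 2, 2 => (2 : k)⁻¹ • zbr y 1 2 1 2
  | _, _ => 0

/-- the alternating products of pure tensors -/
def BB (y : ℕ → ℕ → I27 → k) (p0 p1 p2 q0 q1 q2 r0 r1 r2 s0 s1 s2 : k) : I27 → k :=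
  cr (mm y p0 p1 p2 r0 r1 r2) (mm y q0 q1 q2 s0 s1 s2) - cr (mm y p0 p1 p2 s0 s1 s2) (mm y q0 q1 q2 r0 r1 r2)

theorem BB_col (c d : ℕ → I27 → k) (p0 p1 p2 q0 q1 q2 : k) :
    cr (p0 • c 0 + p1 • c 1 + p2 • c 2) (q0 • d 0 + q1 • d 1 + q2 • d 2) -
      cr (p0 • d 0 + p1 • d 1 + p2 • d 2) (q0 • c 0 + q1 • c 1 + q2 • c 2) =
    (p0 * q1 - p1 * q0) • (cr (c 0) (d 1) - cr (d 0) (c 1)) + (p0 * q2 - p2 * q0) • (cr (c 0) (d 2) - cr (d 0) (c 2)) +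
      (p1 * q2 - p2 * q1) • (cr (c 1) (d 2) - cr (d 1) (c 2)) := by
  simp only [cr_add_left, cr_add_right, cr_smul_left, cr_smul_right]
  rw [cr_comm (d 0) (c 0), cr_comm (d 1) (c 1), cr_comm (d 2) (c 2), cr_comm (d 1) (c 0), cr_comm (d 2) (c 0),
    cr_comm (d 2) (c 1), cr_comm (d 0) (c 1), cr_comm (d 0) (c 2), cr_comm (d 1) (c 2)]
  module

theorem BB_row (e f : ℕ → I27 → k) (r0 r1 r2 s0 s1 s2 : k) :
    cr (r0 • e 0 + r1 • e 1 + r2 • e 2) (s0 • f 0 + s1 • f 1 + s2 • f 2) -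
      cr (s0 • e 0 + s1 • e 1 + s2 • e 2) (r0 • f 0 + r1 • f 1 + r2 • f 2) =
    (r0 * s1 - r1 * s0) • (cr (e 0) (f 1) - cr (e 1) (f 0)) + (r0 * s2 - r2 * s0) • (cr (e 0) (f 2) - cr (e 2) (f 0)) +
      (r1 * s2 - r2 * s1) • (cr (e 1) (f 2) - cr (e 2) (f 1)) := by
  simp only [cr_add_left, cr_add_right, cr_smul_left, cr_smul_right]
  module

/-- **the alternating products in terms of the minors** -/
theorem BB_eq (h2 : (2 : k) ≠ 0) (y : ℕ → ℕ → I27 → k) (p0 p1 p2 q0 q1 q2 r0 r1 r2 s0 s1 s2 : k) :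
    BB y p0 p1 p2 q0 q1 q2 r0 r1 r2 s0 s1 s2 = (2 : k) •
      mm (zz y) (p0 * q1 - p1 * q0) (2 * (p0 * q2 - p2 * q0)) (p1 * q2 - p2 * q1)
        (r0 * s1 - r1 * s0) (2 * (r0 * s2 - r2 * s0)) (r1 * s2 - r2 * s1) := by
  unfold BB
  have h1 := BB_col (fun s => col y r0 r1 r2 s) (fun s => col y s0 s1 s2 s) p0 p1 p2 q0 q1 q2
  have e01 := BB_row (fun s => y 0 s) (fun s => y 1 s) r0 r1 r2 s0 s1 s2
  have e02 := BB_row (fun s => y 0 s) (fun s => y 2 s) r0 r1 r2 s0 s1 s2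
  have e12 := BB_row (fun s => y 1 s) (fun s => y 2 s) r0 r1 r2 s0 s1 s2
  have e : cr (mm y p0 p1 p2 r0 r1 r2) (mm y q0 q1 q2 s0 s1 s2) - cr (mm y p0 p1 p2 s0 s1 s2) (mm y q0 q1 q2 r0 r1 r2) =
      (p0 * q1 - p1 * q0) • (cr (col y r0 r1 r2 0) (col y s0 s1 s2 1) - cr (col y s0 s1 s2 0) (col y r0 r1 r2 1)) +
      (p0 * q2 - p2 * q0) • (cr (col y r0 r1 r2 0) (col y s0 s1 s2 2) - cr (col y s0 s1 s2 0) (col y r0 r1 r2 2)) +
      (p1 * q2 - p2 * q1) • (cr (col y r0 r1 r2 1) (col y s0 s1 s2 2) - cr (col y s0 s1 s2 1) (col y r0 r1 r2 2)) := h1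
  rw [e]
  have e01' : cr (col y r0 r1 r2 0) (col y s0 s1 s2 1) - cr (col y s0 s1 s2 0) (col y r0 r1 r2 1) =
      (r0 * s1 - r1 * s0) • zbr y 0 1 0 1 + (r0 * s2 - r2 * s0) • zbr y 0 1 0 2 + (r1 * s2 - r2 * s1) • zbr y 0 1 1 2 := e01
  have e02' : cr (col y r0 r1 r2 0) (col y s0 s1 s2 2) - cr (col y s0 s1 s2 0) (col y r0 r1 r2 2) =
      (r0 * s1 - r1 * s0) • zbr y 0 2 0 1 + (r0 * s2 - r2 * s0) • zbr y 0 2 0 2 + (r1 * s2 - r2 * s1) • zbr y 0 2 1 2 := e02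
  have e12' : cr (col y r0 r1 r2 1) (col y s0 s1 s2 2) - cr (col y s0 s1 s2 1) (col y r0 r1 r2 2) =
      (r0 * s1 - r1 * s0) • zbr y 1 2 0 1 + (r0 * s2 - r2 * s0) • zbr y 1 2 0 2 + (r1 * s2 - r2 * s1) • zbr y 1 2 1 2 := e12
  rw [e01', e02', e12']
  have h4 : (4 : k) ≠ 0 := by
    rw [show (4 : k) = 2 * 2 by norm_num]
    exact mul_ne_zero h2 h2
  have h8 : (8 : k) ≠ 0 := by
    rw [show (8 : k) = 2 * 4 by norm_num]
    exact mul_ne_zero h2 h4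
  have z00 : zbr y 0 1 0 1 = (2 : k) • zz y 0 0 := by
    show _ = (2 : k) • (2 : k)⁻¹ • _
    rw [smul_smul, mul_inv_cancel₀ h2, one_smul]
  have z01 : zbr y 0 1 0 2 = (4 : k) • zz y 0 1 := by
    show _ = (4 : k) • (4 : k)⁻¹ • _
    rw [smul_smul, mul_inv_cancel₀ h4, one_smul]
  have z02 : zbr y 0 1 1 2 = (2 : k) • zz y 0 2 := by
    show _ = (2 : k) • (2 : k)⁻¹ • _
    rw [smul_smul, mul_inv_cancel₀ h2, one_smul]
  have z10 : zbr y 0 2 0 1 = (4 : k) • zz y 1 0 := by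
    show _ = (4 : k) • (4 : k)⁻¹ • _
    rw [smul_smul, mul_inv_cancel₀ h4, one_smul]
  have z11 : zbr y 0 2 0 2 = (8 : k) • zz y 1 1 := by
    show _ = (8 : k) • (8 : k)⁻¹ • _
    rw [smul_smul, mul_inv_cancel₀ h8, one_smul]
  have z12 : zbr y 0 2 1 2 = (4 : k) • zz y 1 2 := by
    show _ = (4 : k) • (4 : k)⁻¹ • _
    rw [smul_smul, mul_inv_cancel₀ h4, one_smul]
  have z20 : zbr y 1 2 0 1 = (2 : k) • zz y 2 0 := by
    show _ = (2 : k) • (2 : k)⁻¹ • _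
    rw [smul_smul, mul_inv_cancel₀ h2, one_smul]
  have z21 : zbr y 1 2 0 2 = (4 : k) • zz y 2 1 := by
    show _ = (4 : k) • (4 : k)⁻¹ • _
    rw [smul_smul, mul_inv_cancel₀ h4, one_smul]
  have z22 : zbr y 1 2 1 2 = (2 : k) • zz y 2 2 := by
    show _ = (2 : k) • (2 : k)⁻¹ • _
    rw [smul_smul, mul_inv_cancel₀ h2, one_smul]
  rw [z00, z01, z02, z10, z11, z12, z20, z21, z22]
  unfold mm col
  module

end Alg

variable {k : Type u} [Field k] [DecidableEq k] {K : Type w} [Field K] [Fintype K] [DecidableEq K] {ι : K →+* k}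
variable [CharP k 3] [CharP K 3] {a : ℕ}
variable {ρ : Representation k (Matrix.SpecialLinearGroup (Fin 2) K) (I27 → k)} {i j : ℕ} {y : ℕ → ℕ → I27 → k}

theorem tp_uB (H : Act ρ) (hy : TP ι 3 ρ 2 i 2 j y) (t : K) (p0 p1 p2 q0 q1 q2 r0 r1 r2 s0 s1 s2 : k) :
    ρ (Cfsg.Agent.H943.SL2Rel.u t) (BB y p0 p1 p2 q0 q1 q2 r0 r1 r2 s0 s1 s2) =
    BB y p0 (2 * (ι t ^ 3 ^ i) * p0 + p1) ((ι t ^ 3 ^ i) ^ 2 * p0 + (ι t ^ 3 ^ i) * p1 + p2)
      q0 (2 * (ι t ^ 3 ^ i) * q0 + q1) ((ι t ^ 3 ^ i) ^ 2 * q0 + (ι t ^ 3 ^ i) * q1 + q2)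
      r0 (2 * (ι t ^ 3 ^ j) * r0 + r1) ((ι t ^ 3 ^ j) ^ 2 * r0 + (ι t ^ 3 ^ j) * r1 + r2)
      s0 (2 * (ι t ^ 3 ^ j) * s0 + s1) ((ι t ^ 3 ^ j) ^ 2 * s0 + (ι t ^ 3 ^ j) * s1 + s2) := by
  unfold BB
  rw [map_sub, H.cr, H.cr, tp_u hy, tp_u hy, tp_u hy, tp_u hy]

theorem tp_hB (H : Act ρ) (hy : TP ι 3 ρ 2 i 2 j y) (c : Kˣ) (p0 p1 p2 q0 q1 q2 r0 r1 r2 s0 s1 s2 : k) :
    ρ (Cfsg.Agent.H943.SL2Rel.h c) (BB y p0 p1 p2 q0 q1 q2 r0 r1 r2 s0 s1 s2) =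
    BB y ((ι c ^ 3 ^ i)⁻¹ ^ 2 * p0) p1 ((ι c ^ 3 ^ i) ^ 2 * p2) ((ι c ^ 3 ^ i)⁻¹ ^ 2 * q0) q1 ((ι c ^ 3 ^ i) ^ 2 * q2)
      ((ι c ^ 3 ^ j)⁻¹ ^ 2 * r0) r1 ((ι c ^ 3 ^ j) ^ 2 * r2) ((ι c ^ 3 ^ j)⁻¹ ^ 2 * s0) s1 ((ι c ^ 3 ^ j) ^ 2 * s2) := by
  unfold BB
  rw [map_sub, H.cr, H.cr, tp_h hy, tp_h hy, tp_h hy, tp_h hy]

theorem tp_wB (H : Act ρ) (hy : TP ι 3 ρ 2 i 2 j y) (p0 p1 p2 q0 q1 q2 r0 r1 r2 s0 s1 s2 : k) :
    ρ Cfsg.Agent.H943.SL2Rel.w (BB y p0 p1 p2 q0 q1 q2 r0 r1 r2 s0 s1 s2) =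
    BB y p2 (-p1) p0 q2 (-q1) q0 r2 (-r1) r0 s2 (-s1) s0 := by
  unfold BB
  rw [map_sub, H.cr, H.cr, tp_w hy, tp_w hy, tp_w hy, tp_w hy]

/-- tuples from the action on the nine vectors -/
theorem TP.of_nine {z : ℕ → ℕ → I27 → k} (h0 : ∀ s s', 2 < s ∨ 2 < s' → z s s' = 0)
    (hu : ∀ t : K, ∀ p0 p1 p2 r0 r1 r2 : k, ρ (Cfsg.Agent.H943.SL2Rel.u t) (mm z p0 p1 p2 r0 r1 r2) =
      mm z p0 (2 * (ι t ^ 3 ^ i) * p0 + p1) ((ι t ^ 3 ^ i) ^ 2 * p0 + (ι t ^ 3 ^ i) * p1 + p2)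
        r0 (2 * (ι t ^ 3 ^ j) * r0 + r1) ((ι t ^ 3 ^ j) ^ 2 * r0 + (ι t ^ 3 ^ j) * r1 + r2))
    (hh : ∀ c : Kˣ, ∀ p0 p1 p2 r0 r1 r2 : k, ρ (Cfsg.Agent.H943.SL2Rel.h c) (mm z p0 p1 p2 r0 r1 r2) =
      mm z ((ι c ^ 3 ^ i)⁻¹ ^ 2 * p0) p1 ((ι c ^ 3 ^ i) ^ 2 * p2)
        ((ι c ^ 3 ^ j)⁻¹ ^ 2 * r0) r1 ((ι c ^ 3 ^ j) ^ 2 * r2))
    (hw : ∀ p0 p1 p2 r0 r1 r2 : k, ρ Cfsg.Agent.H943.SL2Rel.w (mm z p0 p1 p2 r0 r1 r2) = mm z p2 (-p1) p0 r2 (-r1) r0) :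
    TP ι 3 ρ 2 i 2 j z := by
  obtain ⟨e00, e01, e02, e10, e11, e12, e20, e21, e22⟩ := mm_y z
  refine ⟨h0, fun s hs s' hs' t => ?_, fun s hs s' hs' c => ?_, fun s hs s' hs' => ?_⟩
  · have h1 : s = 0 ∨ s = 1 ∨ s = 2 := by omega
    have h2 : s' = 0 ∨ s' = 1 ∨ s' = 2 := by omega
    rcases h1 with rfl | rfl | rfl <;> rcases h2 with rfl | rfl | rfl <;>
      simp only [Nat.sub_zero, Nat.reduceSub, Nat.reduceAdd, Finset.sum_range_succ, Finset.sum_range_zero, Nat.choose,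
        zero_add, add_zero, Nat.cast_one, pow_zero, pow_one, mul_one, one_mul]
    · conv_lhs => rw [e00, hu]
      unfold mm col
      module
    · conv_lhs => rw [e01, hu]
      unfold mm col
      module
    · conv_lhs => rw [e02, hu]
      unfold mm col
      module
    · conv_lhs => rw [e10, hu]
      unfold mm col
      module
    · conv_lhs => rw [e11, hu]
      unfold mm col
      module
    · conv_lhs => rw [e12, hu]
      unfold mm col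
      module
    · conv_lhs => rw [e20, hu]
      unfold mm col
      module
    · conv_lhs => rw [e21, hu]
      unfold mm col
      module
    · conv_lhs => rw [e22, hu]
      unfold mm col
      module
  · have h1 : s = 0 ∨ s = 1 ∨ s = 2 := by omega
    have h2 : s' = 0 ∨ s' = 1 ∨ s' = 2 := by omega
    have hi0 : ι (c : K) ^ 3 ^ i ≠ 0 := pow_ne_zero _ ((map_ne_zero ι).2 c.ne_zero)
    have hj0 : ι (c : K) ^ 3 ^ j ≠ 0 := pow_ne_zero _ ((map_ne_zero ι).2 c.ne_zero)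
    rcases h1 with rfl | rfl | rfl <;> rcases h2 with rfl | rfl | rfl <;>
      simp only [Nat.sub_zero, Nat.reduceSub, pow_zero, pow_one, mul_one, one_mul, mul_inv_cancel₀ hi0,
        mul_inv_cancel₀ hj0, one_smul]
    · conv_lhs => rw [e00, hh]
      unfold mm col
      module
    · conv_lhs => rw [e01, hh]
      unfold mm col
      module
    · conv_lhs => rw [e02, hh]
      unfold mm col
      module
    · conv_lhs => rw [e10, hh]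
      unfold mm col
      module
    · conv_lhs => rw [e11, hh]
      unfold mm col
      module
    · conv_lhs => rw [e12, hh]
      unfold mm col
      module
    · conv_lhs => rw [e20, hh]
      unfold mm col
      module
    · conv_lhs => rw [e21, hh]
      unfold mm col
      module
    · conv_lhs => rw [e22, hh]
      unfold mm col
      module
  · have h1 : s = 0 ∨ s = 1 ∨ s = 2 := by omega
    have h2 : s' = 0 ∨ s' = 1 ∨ s' = 2 := by omega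
    rcases h1 with rfl | rfl | rfl <;> rcases h2 with rfl | rfl | rfl <;>
      simp only [Nat.sub_zero, Nat.reduceSub, pow_zero, pow_one, mul_one, one_mul]
    · conv_lhs => rw [e00, hw]
      unfold mm col
      module
    · conv_lhs => rw [e01, hw]
      unfold mm col
      module
    · conv_lhs => rw [e02, hw]
      unfold mm col
      module
    · conv_lhs => rw [e10, hw]
      unfold mm col
      module
    · conv_lhs => rw [e11, hw]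
      unfold mm col
      module
    · conv_lhs => rw [e12, hw]
      unfold mm col
      module
    · conv_lhs => rw [e20, hw]
      unfold mm col
      module
    · conv_lhs => rw [e21, hw]
      unfold mm col
      module
    · conv_lhs => rw [e22, hw]
      unfold mm col
      module

end Cfsg.Agent.R2.F4P.Th
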